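import Groth.Agent.EtaleDeep.Cons.Generators
import Groth.Agent.EtaleBase.FilteredSections
import Mathlib.CategoryTheory.Category.ULift

/-!
# Constructible sheaves are compact
-/

set_option autoImplicit false
set_option backward.isDefEq.respectTransparency.types false
set_option linter.style.haveILetI false

universe u

open CategoryTheory CategoryTheory.Limits AlgebraicGeometry Opposite

namespace Groth.EtaleDeep.Cons

open Groth.EtaleBase

variable {X : Scheme.{u}}

/-- Homomorphisms out of `ℤ/n` agree when they agree on `1`. -/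
theorem zmod_hom_ext {A : Type*} [AddCommGroup A] {n : ℕ} {f g : ULift.{u + 1} (ZMod n) →+ A}
    (h : f ⟨1⟩ = g ⟨1⟩) : f = g := by
  refine DFunLike.ext _ _ fun a => ?_
  obtain ⟨z, hz⟩ := ZMod.intCast_surjective a.down
  have ha : a = z • (⟨1⟩ : ULift.{u + 1} (ZMod n)) := ULift.ext _ _ (by
    rw [← hz, ULift.smul_down, zsmul_one])
  rw [ha, map_zsmul, map_zsmul, h]

/-- Morphisms out of `j_! ℤ/n` agree when they agree on the tautological section. -/
theorem extZeroConst_hom_ext {U : X.Etale} {n : ℕ} {F : EtCoh.Ab X}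
    {φ ψ : EtPBC.extZeroConst U (ZMod n) ⟶ F}
    (h : φ.hom.app (op U) (constSect U (ZMod n) ⟨1⟩) = ψ.hom.app (op U) (constSect U (ZMod n) ⟨1⟩)) :
    φ = ψ :=
  (extZeroConstEquiv U (ZMod n) F).injective (zmod_hom_ext (by rw [← hom_constSect, ← hom_constSect, h]))

variable {I : Type (u + 1)} [SmallCategory I] [IsFiltered I] {D : I ⥤ EtCoh.Ab X} {c : Cocone D}

/-- Morphisms out of finite sums of `j_! ℤ/n` which agree in the colimit agree at a later stage. -/
theorem exists_eq_of_sum (hc : IsColimit c) {a : ℕ} (U : Fin a → X.Etale) (n : Fin a → ℕ)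
    (hU : ∀ l, IsAffine (U l).left) {i : I}
    (f g : (⨁ fun l => EtPBC.extZeroConst (U l) (ZMod (n l))) ⟶ D.obj i) (h : f ≫ c.ι.app i = g ≫ c.ι.app i) :
    ∃ (k : I) (m : i ⟶ k), f ≫ D.map m = g ≫ D.map m := by
  let one : ∀ l, (EtPBC.extZeroConst (U l) (ZMod (n l))).obj.obj (op (U l)) := fun l =>
    constSect (U l) (ZMod (n l)) ⟨1⟩
  let fs : ∀ l, (D.obj i).obj.obj (op (U l)) := fun l =>
    (biproduct.ι (fun l => EtPBC.extZeroConst (U l) (ZMod (n l))) l ≫ f).hom.app (op (U l)) (one l)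
  let gs : ∀ l, (D.obj i).obj.obj (op (U l)) := fun l =>
    (biproduct.ι (fun l => EtPBC.extZeroConst (U l) (ZMod (n l))) l ≫ g).hom.app (op (U l)) (one l)
  have h1 : ∀ l, ∃ (k : I) (m : i ⟶ k),
      FilteredSec.tr (F := D) m (fs l) = FilteredSec.tr (F := D) m (gs l) := fun l => by
    have := hU l
    have e : FilteredSec.img c (fs l) = FilteredSec.img c (gs l) :=
      congrArg (fun χ : (⨁ fun l => EtPBC.extZeroConst (U l) (ZMod (n l))) ⟶ c.pt =>
        (biproduct.ι (fun l => EtPBC.extZeroConst (U l) (ZMod (n l))) l ≫ χ).hom.app (op (U l)) (one l)) h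
    obtain ⟨k, p, q, e'⟩ := FilteredSec.exists_eq c hc _ _ e
    exact FilteredSec.exists_single p q _ _ e'
  choose k m hm using h1
  obtain ⟨K, N, hN⟩ := FilteredSec.exists_common i k m
  refine ⟨K, N, biproduct.hom_ext' _ _ fun l => extZeroConst_hom_ext ?_⟩
  obtain ⟨r, hr⟩ := hN l
  show FilteredSec.tr (F := D) N (fs l) = FilteredSec.tr (F := D) N (gs l)
  rw [← hr, ← FilteredSec.tr_tr, ← FilteredSec.tr_tr, hm l]

/-- Morphisms from finite sums of `j_! ℤ/n` to a filtered colimit factor through a stage. -/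
theorem exists_rep_of_sum (hc : IsColimit c) {a : ℕ} (U : Fin a → X.Etale) (n : Fin a → ℕ)
    (hU : ∀ l, IsAffine (U l).left)
    (φ : (⨁ fun l => EtPBC.extZeroConst (U l) (ZMod (n l))) ⟶ c.pt) :
    ∃ (k : I) (ψ : (⨁ fun l => EtPBC.extZeroConst (U l) (ZMod (n l))) ⟶ D.obj k), ψ ≫ c.ι.app k = φ := by
  classical
  let one : ∀ l, (EtPBC.extZeroConst (U l) (ZMod (n l))).obj.obj (op (U l)) := fun l =>
    constSect (U l) (ZMod (n l)) ⟨1⟩
  have hone : ∀ l, n l • one l = 0 := fun l => by
    show n l • constSect (U l) (ZMod (n l)) ⟨1⟩ = 0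
    rw [← map_nsmul]
    refine (congrArg _ ?_).trans (map_zero _)
    exact ULift.ext _ _ (by simp [ULift.smul_down])
  let s : ∀ l, c.pt.obj.obj (op (U l)) := fun l =>
    (biproduct.ι (fun l => EtPBC.extZeroConst (U l) (ZMod (n l))) l ≫ φ).hom.app (op (U l)) (one l)
  have h1 : ∀ l, ∃ (k : I) (t : (D.obj k).obj.obj (op (U l))),
      n l • t = 0 ∧ FilteredSec.img c t = s l := fun l => by
    have := hU l
    obtain ⟨i, t, ht⟩ := FilteredSec.exists_rep c hc (s l)
    have e : FilteredSec.img c (n l • t) = FilteredSec.img c (0 : (D.obj i).obj.obj (op (U l))) := by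
      show (c.ι.app i).hom.app _ (n l • t) = (c.ι.app i).hom.app _ 0
      rw [map_nsmul, map_zero, show (c.ι.app i).hom.app _ t = s l from ht]
      show n l • (biproduct.ι (fun l => EtPBC.extZeroConst (U l) (ZMod (n l))) l ≫ φ).hom.app (op (U l)) (one l) = 0
      rw [← map_nsmul, hone, map_zero]
    obtain ⟨k, p, q, e'⟩ := FilteredSec.exists_eq c hc _ _ e
    obtain ⟨k', m, hm⟩ := FilteredSec.exists_single p q _ _ e'
    refine ⟨k', FilteredSec.tr (F := D) m t, ?_, (FilteredSec.img_tr c m t).trans ht⟩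
    show n l • (D.map m).hom.app _ t = 0
    rw [← map_nsmul]
    exact hm.trans (map_zero _)
  choose k t ht0 ht using h1
  obtain ⟨K, hK⟩ := IsFiltered.sup_objs_exists (Finset.univ.image k)
  let p : ∀ l, k l ⟶ K := fun l => (hK (Finset.mem_image_of_mem k (Finset.mem_univ l))).some
  have h0 : ∀ l, n l • FilteredSec.tr (F := D) (p l) (t l) = 0 := fun l => by
    show n l • (D.map (p l)).hom.app _ (t l) = 0
    rw [← map_nsmul, ht0, map_zero]
  refine ⟨K, biproduct.desc fun l => constDesc (U l) (ZMod (n l)) (zmodSect (FilteredSec.tr (F := D) (p l) (t l)) (h0 l)),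
    biproduct.hom_ext' _ _ fun l => extZeroConst_hom_ext ?_⟩
  rw [biproduct.ι_desc_assoc]
  show (c.ι.app K).hom.app (op (U l)) ((constDesc _ _ _).hom.app (op (U l)) (constSect _ _ ⟨1⟩)) = s l
  rw [constDesc_sect, zmodSect_one]
  exact (FilteredSec.img_tr c (p l) (t l)).trans (ht l)

variable [CompactSpace X] [QuasiSeparatedSpace X]

/-- Constructible sheaves are compact. -/
theorem preservesColimitsOfShape_coyoneda {F : EtCoh.Ab X} (hF : EtPBC.IsConstructible F) :
    PreservesColimitsOfShape I (coyoneda.obj (op F)) := by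
  obtain ⟨a, b, U, V, n, m, hn, hm, φ, ⟨e⟩⟩ := exists_presentation hF
  let π := cokernel.π φ ≫ e.inv
  have hφπ : φ ≫ π = 0 := by rw [← Category.assoc, cokernel.condition, zero_comp]
  refine ⟨fun {D} => ⟨fun {c} hc => ⟨Types.FilteredColimit.isColimitOf _ _ (fun s => ?_) fun i j x y h => ?_⟩⟩⟩
  · obtain ⟨k, ψ, hψ⟩ := exists_rep_of_sum hc U n (fun l => (hn l).2) (π ≫ s)
    obtain ⟨k', p, hp⟩ := exists_eq_of_sum hc V m (fun l => (hm l).2) (φ ≫ ψ) 0 (by
      rw [Category.assoc, hψ, ← Category.assoc, hφπ, zero_comp, zero_comp])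
    rw [Category.assoc, zero_comp] at hp
    refine ⟨k', e.hom ≫ cokernel.desc φ (ψ ≫ D.map p) hp, ?_⟩
    show s = (e.hom ≫ cokernel.desc φ (ψ ≫ D.map p) hp) ≫ c.ι.app k'
    rw [← cancel_epi π, ← hψ]
    simp [π]
  · let x' : F ⟶ D.obj (IsFiltered.max i j) := x ≫ D.map (IsFiltered.leftToMax i j)
    let y' : F ⟶ D.obj (IsFiltered.max i j) := y ≫ D.map (IsFiltered.rightToMax i j)
    have h' : (x : F ⟶ D.obj i) ≫ c.ι.app i = (y : F ⟶ D.obj j) ≫ c.ι.app j := h
    obtain ⟨k, p, hp⟩ := exists_eq_of_sum hc U n (fun l => (hn l).2) (π ≫ x') (π ≫ y') (by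
      simp only [x', y', Category.assoc, Cocone.w, h'])
    refine ⟨k, IsFiltered.leftToMax i j ≫ p, IsFiltered.rightToMax i j ≫ p, ?_⟩
    show x ≫ D.map (IsFiltered.leftToMax i j ≫ p) = y ≫ D.map (IsFiltered.rightToMax i j ≫ p)
    rw [← cancel_epi π]
    simpa [x', y'] using hp

/-- Constructible sheaves are compact, for index categories in the universe of the scheme. -/
theorem preservesColimitsOfShape_coyoneda_small {F : EtCoh.Ab X} (hF : EtPBC.IsConstructible F)
    (J : Type u) [SmallCategory J] [IsFiltered J] : PreservesColimitsOfShape J (coyoneda.obj (op F)) := by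
  have : IsFiltered (AsSmall.{u + 1} J) := IsFiltered.of_equivalence AsSmall.equiv
  have := preservesColimitsOfShape_coyoneda (I := AsSmall.{u + 1} J) hF
  exact preservesColimitsOfShape_of_equiv AsSmall.equiv.symm (coyoneda.obj (op F))

end Groth.EtaleDeep.Cons
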