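import Groth.Agent.EtaleDeep.Cons.ExtZeroConst
import Groth.Agent.EtaleBase.PushStalkFinite
import Groth.Agent.AlgSpBasic.EtaleLocalSets
import Groth.Agent.S4599

/-!
# Direct images of constructible sheaves along finite morphisms
-/

set_option autoImplicit false
set_option backward.isDefEq.respectTransparency.types false
set_option linter.style.haveILetI false

universe u

open CategoryTheory CategoryTheory.Limits AlgebraicGeometry Opposite Topology

namespace Groth.EtaleDeep.Cons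

open Groth.EtaleBase Groth.EtaleBase.LocConst Groth.EtaleBase.SitePt

/-- The geometric points over `η` lying in a given set. -/
abbrev PtsIn {W P : Scheme.{u}} (g : P ⟶ W) {Ω : Type u} [Field Ω] (η : Spec (CommRingCat.of Ω) ⟶ W)
    (C : Set P) : Type u :=
  {ξ : Spec (CommRingCat.of Ω) ⟶ P // ξ ≫ g = η ∧ ξ.base default ∈ C}

theorem finite_ptsIn {W P : Scheme.{u}} (g : P ⟶ W) [IsFinite g] {Ω : Type u} [Field Ω] [IsAlgClosed Ω]
    (η : Spec (CommRingCat.of Ω) ⟶ W) (C : Set P) : Finite (PtsIn g η C) :=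
  have := finite_lifts g η
  Finite.of_injective (fun ξ : PtsIn g η C => (⟨ξ.1, ξ.2.1⟩ : {ξ // ξ ≫ g = η}))
    fun _ _ h => Subtype.ext (congrArg (fun a => a.1) h)

/-- The base points with at least `n` geometric points in a constructible set over them. -/
theorem exists_ptsLocus (n : ℕ) : ∀ {W P : Scheme.{u}} (g : P ⟶ W) [IsAffine W] [IsFinite g]
    [LocallyOfFinitePresentation g] (C : Set P), IsConstructible C →
    ∃ N : Set W, IsConstructible N ∧ (AlgebraicGeometry.Etale g → IsClopen C → IsClopen N) ∧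
      ∀ (Ω : Type u) [Field Ω] [IsAlgClosed Ω] (η : Spec (CommRingCat.of Ω) ⟶ W),
        η.base default ∈ N ↔ n ≤ Nat.card (PtsIn g η C) := by
  induction n with
  | zero =>
    intro W P g _ _ _ C _
    exact ⟨Set.univ, IsConstructible.univ, fun _ _ => isClopen_univ, fun Ω _ _ η => by simp⟩
  | succ n ih =>
    intro W P g _ _ _ C hC
    have : IsAffine P := isAffine_of_isAffineHom g
    let p := pullback.fst g g
    have : IsFinite p := MorphismProperty.pullback_fst _ _ inferInstance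
    have : LocallyOfFinitePresentation p := MorphismProperty.pullback_fst _ _ inferInstance
    have : IsAffine (pullback g g) := isAffine_of_isAffineHom p
    let Δ := pullback.diagonal g
    have : LocallyOfFinitePresentation Δ := Groth.Agent.S4599.result g
    have hΔ : IsConstructible (Set.range Δ.base) := by
      rw [← Set.image_univ]
      exact Δ.isConstructible_image IsConstructible.univ
    obtain ⟨N', hN', hN'c, hN'i⟩ := ih p ((pullback.snd g g).base ⁻¹' C \ Set.range Δ.base)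
      (((pullback.snd g g).isConstructible_preimage hC).sdiff hΔ)
    refine ⟨g.base '' (C ∩ N'), g.isConstructible_image (hC.inter hN'), fun hg hCc => ?_,
      fun Ω _ _ η => ?_⟩
    · have : AlgebraicGeometry.Etale p := MorphismProperty.pullback_fst _ _ hg
      have hΔo : IsClopen (Set.range Δ.base) := by
        have : IsOpenImmersion Δ := inferInstance
        exact ⟨Δ.isClosedEmbedding.isClosed_range, Δ.isOpenEmbedding.isOpen_range⟩
      have hN := hCc.inter (hN'c this ((hCc.preimage (pullback.snd g g).continuous).diff hΔo))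
      exact ⟨g.isClosedMap _ hN.1, g.isOpenMap _ hN.2⟩
    · have key : ∀ x : PtsIn g η C,
          Nat.card (PtsIn g η C) = Nat.card (PtsIn p x.1
            ((pullback.snd g g).base ⁻¹' C \ Set.range Δ.base)) + 1 := fun x => by
        classical
        have := finite_ptsIn g η C
        have := finite_ptsIn p x.1 ((pullback.snd g g).base ⁻¹' C \ Set.range Δ.base)
        let e : PtsIn p x.1 ((pullback.snd g g).base ⁻¹' C \ Set.range Δ.base) ≃
            {y : PtsIn g η C // y ≠ x} :=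
          { toFun := fun ζ => ⟨⟨ζ.1 ≫ pullback.snd g g, by
                rw [Category.assoc, ← pullback.condition, ← Category.assoc,
                  show ζ.1 ≫ pullback.fst g g = x.1 from ζ.2.1]
                exact x.2.1, ζ.2.2.1⟩, fun h => ζ.2.2.2 (by
                have h2 : ζ.1 ≫ pullback.snd g g = x.1 := congrArg Subtype.val h
                have e : ζ.1 = x.1 ≫ Δ := pullback.hom_ext
                  (by rw [Category.assoc, pullback.diagonal_fst, Category.comp_id]; exact ζ.2.1)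
                  (by rw [Category.assoc, pullback.diagonal_snd, Category.comp_id]; exact h2)
                rw [e, Scheme.Hom.comp_apply]
                exact ⟨_, rfl⟩)⟩
            invFun := fun y => ⟨pullback.lift x.1 y.1.1 (x.2.1.trans y.1.2.1.symm),
              pullback.lift_fst _ _ _,
              by
                show (pullback.snd g g).base _ ∈ C
                rw [← Scheme.Hom.comp_apply, pullback.lift_snd]
                exact y.1.2.2,
              fun h => y.2 (by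
                obtain ⟨ξ', hξ'⟩ := exists_lift_immersion _ Δ h
                have h1 := congrArg (· ≫ pullback.fst g g) hξ'
                have h2 := congrArg (· ≫ pullback.snd g g) hξ'
                simp only [Δ, Category.assoc, pullback.diagonal_fst, pullback.diagonal_snd,
                  pullback.lift_fst, pullback.lift_snd, Category.comp_id] at h1 h2
                exact Subtype.ext (h2.symm.trans h1))⟩
            left_inv := fun ζ => Subtype.ext (pullback.hom_ext ((pullback.lift_fst _ _ _).trans ζ.2.1.symm)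
              (pullback.lift_snd _ _ _))
            right_inv := fun y => Subtype.ext (Subtype.ext (pullback.lift_snd _ _ _)) }
        rw [Nat.card_congr ((Equiv.optionSubtypeNe x).symm.trans (Equiv.optionCongr e.symm)),
          Finite.card_option]
      constructor
      · rintro ⟨z, ⟨hzC, hzN⟩, hz⟩
        obtain ⟨ξ, hξ, hξz⟩ := exists_lift_point g η z hz
        rw [key ⟨ξ, hξ, hξz.symm ▸ hzC⟩]
        exact Nat.succ_le_succ ((hN'i Ω ξ).1 (hξz.symm ▸ hzN))
      · intro h
        obtain ⟨⟨x⟩, -⟩ := Nat.card_pos_iff.1 (lt_of_lt_of_le n.succ_pos h)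
        rw [key x] at h
        refine ⟨x.1.base default, ⟨x.2.2, (hN'i Ω x.1).2 (Nat.le_of_succ_le_succ h)⟩, ?_⟩
        rw [← Scheme.Hom.comp_apply, x.2.1]

variable {X Y : Scheme.{u}} (f : X ⟶ Y) [EtCoh.BCCont f]

/-- The stalk of a direct image along a finite morphism, with the formula on germs. -/
theorem exists_stalkPush_equiv [IsFinite f] (F : EtCoh.Ab X) {Ω : Type u} [Field Ω] [IsAlgClosed Ω]
    (η : Spec (CommRingCat.of Ω) ⟶ Y) :
    ∃ Φ : (EtCoh.stalk η).obj ((EtCoh.push f).obj F) →+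
        (∀ ξ : {ξ : Spec (CommRingCat.of Ω) ⟶ X // ξ ≫ f = η}, (EtCoh.stalk ξ.1).obj F),
      Function.Bijective Φ ∧
      ∀ (V : Y.Etale) (t : (Scheme.pointSmallEtale η).fiber.obj V)
        (σ : F.obj.obj (op ((EtCoh.bc f).obj V))) (ξ : {ξ : Spec (CommRingCat.of Ω) ⟶ X // ξ ≫ f = η}),
        Φ (germ η ((EtCoh.push f).obj F) V t σ) ξ = germ ξ.1 F _ (pushLift f ξ.1 ξ.2 V t) σ := by
  let ev : ∀ ξ : {ξ : Spec (CommRingCat.of Ω) ⟶ X // ξ ≫ f = η},
      (EtCoh.stalk η).obj ((EtCoh.push f).obj F) ⟶ (EtCoh.stalk ξ.1).obj F := fun ξ =>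
    eqToHom (by rw [ξ.2]) ≫ evPush f ξ.1 F
  have hev : ∀ ξ (V : Y.Etale) (s : (Scheme.pointSmallEtale η).fiber.obj V)
      (σ : F.obj.obj (op ((EtCoh.bc f).obj V))),
      ev ξ (germ η ((EtCoh.push f).obj F) V s σ) = germ ξ.1 F _ (pushLift f ξ.1 ξ.2 V s) σ := by
    rintro ⟨ξ, h⟩ V s σ
    subst h
    exact evPush_germ f ξ F V s σ
  refine ⟨Pi.addMonoidHom fun ξ => (ev ξ).hom, ⟨?_, fun c => ?_⟩, fun V t σ ξ => hev ξ V t σ⟩
  · rw [injective_iff_map_eq_zero]
    intro a ha
    obtain ⟨V, s, σ, rfl⟩ := germ_surjective η _ a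
    exact germ_push_eq_zero f η F V s σ fun ξ h => (hev ⟨ξ, h⟩ V s σ).symm.trans (congrFun ha ⟨ξ, h⟩)
  · obtain ⟨V, s, σ, hσ⟩ := exists_germ_push_values f η F c
    exact ⟨germ η _ V s σ, funext fun ξ => (hev ξ V s σ).trans (hσ ξ)⟩

/-- An algebraically closed point of an etale chart over a given point of it. -/
theorem exists_algClosed_fiber (W : Y.Etale) (z : W.left) :
    ∃ (Ω : Type u) (_ : Field Ω) (_ : IsAlgClosed Ω) (η : Spec (CommRingCat.of Ω) ⟶ Y)
      (t : (Scheme.pointSmallEtale η).fiber.obj W), fiberPoint η t = z := by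
  obtain ⟨t, ht⟩ := exists_geomPoint_lift W z
  refine ⟨_, inferInstance, inferInstance, closurePt _ ≫ geomPoint (W.hom.base z),
    Over.homMk (closurePt _ ≫ t.left) ((Category.assoc _ _ _).trans (congrArg (_ ≫ ·) (Over.w t))), ?_⟩
  show (closurePt _ ≫ t.left).base default = z
  rw [Scheme.Hom.comp_apply]
  exact (congrArg t.left.base (Subsingleton.elim (α := Spec (CommRingCat.of _)) _ _)).trans ht

theorem snd_comp_eq (W : Y.Etale) {Ω : Type u} [Field Ω] [IsSepClosed Ω]
    {η : Spec (CommRingCat.of Ω) ⟶ Y} (t : (Scheme.pointSmallEtale η).fiber.obj W)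
    (ζ : Spec (CommRingCat.of Ω) ⟶ pullback W.hom f) (hζ : ζ ≫ pullback.fst W.hom f = t.left) :
    (ζ ≫ pullback.snd W.hom f) ≫ f = η := by
  rw [Category.assoc, ← pullback.condition, ← Category.assoc, hζ]
  exact Over.w t

/-- The lifts of a geometric point correspond to points of the base change over a lift of it. -/
noncomputable def ptsInEquiv (W : Y.Etale) {Ω : Type u} [Field Ω] [IsSepClosed Ω]
    {η : Spec (CommRingCat.of Ω) ⟶ Y} (t : (Scheme.pointSmallEtale η).fiber.obj W) (D : Set X) :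
    PtsIn (pullback.fst W.hom f) t.left ((pullback.snd W.hom f).base ⁻¹' D) ≃
      {ξ : {ξ : Spec (CommRingCat.of Ω) ⟶ X // ξ ≫ f = η} // ξ.1.base default ∈ D} where
  toFun ξ := ⟨⟨ξ.1 ≫ pullback.snd W.hom f, snd_comp_eq f W t ξ.1 ξ.2.1⟩, ξ.2.2⟩
  invFun ξ := ⟨(pushLift f ξ.1.1 ξ.1.2 W t).left, pushLift_fst f ξ.1.1 ξ.1.2 W t, by
    show ((pushLift f ξ.1.1 ξ.1.2 W t).left ≫ ((EtCoh.bc f).obj W).hom).base
      (default : Spec (CommRingCat.of Ω)) ∈ D
    rw [show (pushLift f ξ.1.1 ξ.1.2 W t).left ≫ ((EtCoh.bc f).obj W).hom = ξ.1.1 from Over.w _]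
    exact ξ.2⟩
  left_inv ξ := Subtype.ext (pullback.hom_ext
    ((pushLift_fst f (ξ.1 ≫ pullback.snd W.hom f) (snd_comp_eq f W t ξ.1 ξ.2.1) W t).trans ξ.2.1.symm)
    (Over.w (pushLift f (ξ.1 ≫ pullback.snd W.hom f) (snd_comp_eq f W t ξ.1 ξ.2.1) W t)))
  right_inv ξ := Subtype.ext (Subtype.ext (Over.w (pushLift f ξ.1.1 ξ.1.2 W t)))

/-- For a finite locally constant sheaf, conditions on the order of stalks cut out open sets. -/
theorem isOpen_card_stalk {F : EtCoh.Ab X} (hF : EtCoh.IsFiniteLocallyConstant F) (Q : Set ℕ) :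
    IsOpen {x : X | Nat.card ((EtCoh.stalk (geomPoint x)).obj F) ∈ Q} := by
  rw [isOpen_iff_forall_mem_open]
  intro x hx
  obtain ⟨U, ⟨y, hy⟩, M, _, _, r, hr⟩ := isFLC_iff.1 hF x
  have key : ∀ x' ∈ Set.range U.hom.base,
      Nat.card ((EtCoh.stalk (geomPoint x')).obj F) = Nat.card (ULift.{u + 1} M) := by
    rintro x' ⟨v, hv⟩
    obtain ⟨t, -⟩ := exists_fiber_of_point (geomPoint x') U v (hv.trans (geomPoint_apply _ _).symm)
    exact (Nat.card_congr (Equiv.ofBijective _ (hr _ _ _ _ t))).symm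
  refine ⟨Set.range U.hom.base, fun x' hx' => ?_, (isOpenMap_hom U).isOpen_range, ⟨y, hy⟩⟩
  show Nat.card ((EtCoh.stalk (geomPoint x')).obj F) ∈ Q
  rw [key x' hx', ← key x ⟨y, hy⟩]
  exact hx

/-- Bijectivity loci of finite locally constant sheaves are open. -/
theorem isOpen_bijLocus {F : EtCoh.Ab X} (hF : EtCoh.IsFiniteLocallyConstant F) (W : X.Etale)
    {M : Type (u + 1)} [AddCommGroup M] [Finite M] (s : M →+ F.obj.obj (op W)) :
    IsOpen (bijLocus F W s) := by
  rw [isOpen_iff_forall_mem_open]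
  intro z hz
  obtain ⟨O, p, hO, hzO, h⟩ := exists_nhd_bij_const hF W s z
  obtain ⟨t, ht⟩ := exists_geomPoint_lift W z
  have hp : p := (h _ _ t (by rw [show fiberPoint _ t = z from ht]; exact hzO)).1 (hz _ _ t ht)
  exact ⟨O, fun z' hz' Ω _ _ ξ t' ht' => (h Ω ξ t' (by rw [ht']; exact hz')).2 hp, hO, hzO⟩

variable [IsFinite f] [LocallyOfFinitePresentation f]

/-- A constructible set around a point over which a given section does not vanish. -/
theorem exists_nonvanishing {F : EtCoh.Ab X} (hF : EtPBC.IsConstructible F) (W : Y.Etale) [IsAffine W.left]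
    (σ : F.obj.obj (op ((EtCoh.bc f).obj W))) {Ω : Type u} [Field Ω] [IsAlgClosed Ω]
    {η : Spec (CommRingCat.of Ω) ⟶ Y} (w : (Scheme.pointSmallEtale η).fiber.obj W)
    (ξ : Spec (CommRingCat.of Ω) ⟶ X) (hξ : ξ ≫ f = η) (hne : germ ξ F _ (pushLift f ξ hξ W w) σ ≠ 0) :
    ∃ T : Set W.left, IsConstructible T ∧
      (AlgebraicGeometry.Etale f → EtCoh.IsFiniteLocallyConstant F → IsOpen T) ∧ fiberPoint η w ∈ T ∧
      ∀ (Ω' : Type u) [Field Ω'] [IsAlgClosed Ω'] (η' : Spec (CommRingCat.of Ω') ⟶ Y)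
        (t : (Scheme.pointSmallEtale η').fiber.obj W), fiberPoint η' t ∈ T →
        ∃ (ξ' : Spec (CommRingCat.of Ω') ⟶ X) (h : ξ' ≫ f = η'),
          germ ξ' F _ (pushLift f ξ' h W t) σ ≠ 0 := by
  have := finite_stalk_of_isConstructibleAb hF ξ
  obtain ⟨V₁, v₁, M, _, _, s₁, hs₁⟩ := exists_section F ξ
  obtain ⟨V, p, q, v, hpv, hqv⟩ := exists_common ξ ((EtCoh.bc f).obj W) V₁ (pushLift f ξ hξ W w) v₁
  have hs : Function.Bijective fun a => germ ξ F V v (res q s₁ a) := by
    have : (fun a => germ ξ F V v (res q s₁ a)) = fun a => germ ξ F V₁ v₁ (s₁ a) := funext fun a => by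
      show germ ξ F V v (F.obj.map q.op (s₁ a)) = _
      rw [germ_res, hqv]
    exact this ▸ hs₁
  obtain ⟨b, hb⟩ := hs.2 (germ ξ F _ (pushLift f ξ hξ W w) σ)
  obtain ⟨V', g', v', hv', hg'⟩ := exists_common_eq ξ (F := F) V v (fun _ : PUnit.{u + 1} => res q s₁ b)
    (fun _ => F.obj.map p.op σ) (fun _ => by
      rw [germ_res, hpv]
      exact hb)
  have hb0 : b ≠ 0 := fun h => hne (by
    rw [← hb, h]
    show germ ξ F V v (res q s₁ 0) = 0
    rw [map_zero, map_zero])
  let s' := res g' (res q s₁)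
  obtain ⟨N, hN, hvN, -⟩ := exists_isAffineOpen_mem_and_subset (U := (⊤ : V'.left.Opens))
    (x := fiberPoint ξ v') trivial
  have : IsAffine N.toScheme := hN
  have hgp : AlgebraicGeometry.Etale (g' ≫ p).left := inferInstance
  have : IsFinite (pullback.fst W.hom f) := MorphismProperty.pullback_fst _ _ inferInstance
  have hfst : LocallyOfFinitePresentation (pullback.fst W.hom f) := MorphismProperty.pullback_fst _ _ inferInstance
  let π : N.toScheme ⟶ W.left := N.ι ≫ (g' ≫ p).left ≫ pullback.fst W.hom f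
  have : IsAffineHom π := isAffineHom_of_isAffine _
  have : LocallyOfFinitePresentation (g' ≫ p).left := inferInstance
  have : LocallyOfFinitePresentation π :=
    MorphismProperty.comp_mem _ _ _ inferInstance (MorphismProperty.comp_mem _ _ _ this hfst)
  have hB : IsConstructible (N.ι.base ⁻¹' bijLocus F V' s') :=
    ((isLocallyConstructible_bijLocus hF V' s').preimage_of_isOpenEmbedding
      N.ι.isOpenEmbedding).isConstructible
  have hvB : fiberPoint ξ v' ∈ bijLocus F V' s' := fun Ω' _ _ η' t ht =>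
    bijective_germ_of_fiberPoint_eq F V' s' t v' ht (by
      have : (fun a => germ ξ F V' v' (s' a)) = fun a => germ ξ F V v (res q s₁ a) := funext fun a => by
        show germ ξ F V' v' (F.obj.map g'.op _) = _
        rw [germ_res, hv']
      exact this ▸ hs)
  refine ⟨π.base '' (N.ι.base ⁻¹' bijLocus F V' s'), π.isConstructible_image hB, fun hf hFl => ?_,
    ⟨⟨fiberPoint ξ v', hvN⟩, hvB, ?_⟩, fun Ω' _ _ η' t ht => ?_⟩
  · have : AlgebraicGeometry.Etale (pullback.fst W.hom f) := MorphismProperty.pullback_fst _ _ hf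
    have : AlgebraicGeometry.Etale π :=
      MorphismProperty.comp_mem _ _ _ inferInstance (MorphismProperty.comp_mem _ _ _ hgp this)
    exact π.isOpenMap _ ((isOpen_bijLocus hFl V' s').preimage N.ι.continuous)
  · show (pullback.fst W.hom f).base ((g' ≫ p).left.base (fiberPoint ξ v')) = _
    rw [← fiberPoint_map, Functor.map_comp_apply, hv', hpv]
    exact congrArg (fun m : Spec (CommRingCat.of Ω) ⟶ W.left => m.base default)
      (pushLift_fst f ξ hξ W w)
  · obtain ⟨x, hxB, hx⟩ := ht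
    obtain ⟨ζ, hζ, hζx⟩ := exists_lift_point (pullback.fst W.hom f) t.left ((g' ≫ p).left.base x.1) hx
    have hh : (ζ ≫ pullback.snd W.hom f) ≫ f = η' := by
      rw [Category.assoc, ← pullback.condition, ← Category.assoc, hζ]
      exact Over.w t
    refine ⟨ζ ≫ pullback.snd W.hom f, hh, ?_⟩
    have hl : (pushLift f _ hh W t).left = ζ :=
      pullback.hom_ext ((pushLift_fst f _ hh W t).trans hζ.symm) (Over.w (pushLift f _ hh W t))
    obtain ⟨v'', hv'', hv''x⟩ := exists_fiber_lift _ (g' ≫ p) (pushLift f _ hh W t) x.1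
      (hζx.symm.trans (congrArg (fun m : Spec (CommRingCat.of Ω') ⟶ _ => m.base default) hl.symm))
    intro h0
    rw [← hv'', ← germ_res, op_comp, Functor.map_comp_apply, ← hg' PUnit.unit] at h0
    exact hb0 ((hxB Ω' _ v'' hv''x).1 (h0.trans ((congrArg _ (map_zero s')).trans (map_zero _)).symm))

/-- Charts of direct images of constructible sheaves along finite morphisms. -/
theorem exists_push_chart {F : EtCoh.Ab X} (hF : EtPBC.IsConstructible F) (y : Y) :
    ∃ (W : Y.Etale) (w : (Scheme.pointSmallEtale (geomPoint y)).fiber.obj W) (M : Type)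
      (_ : AddCommGroup M) (_ : Finite M) (s : ULift.{u + 1} M →+ ((EtCoh.push f).obj F).obj.obj (op W))
      (S : Set W.left), IsLocallyConstructible S ∧
      (AlgebraicGeometry.Etale f → EtCoh.IsFiniteLocallyConstant F → IsOpen S) ∧
      fiberPoint (geomPoint y) w ∈ S ∧ S ⊆ bijLocus ((EtCoh.push f).obj F) W s := by
  classical
  let η₀ := closurePt (SeparableClosure (Y.residueField y)) ≫ geomPoint y
  have hη₀ : η₀.base default = y := by
    rw [Scheme.Hom.comp_apply]
    exact geomPoint_apply _ _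
  obtain ⟨Φ₀, hΦ₀, hΦ₀g⟩ := exists_stalkPush_equiv f F η₀
  have := finite_lifts f η₀
  have := fun ξ : {ξ : Spec _ ⟶ X // ξ ≫ f = η₀} => finite_stalk_of_isConstructibleAb hF ξ.1
  have := Finite.of_injective Φ₀ hΦ₀.1
  obtain ⟨W₀, w₀, M, _, _, s₀, hs₀⟩ := exists_section ((EtCoh.push f).obj F) η₀
  obtain ⟨N, hN, hwN, -⟩ := exists_isAffineOpen_mem_and_subset (U := (⊤ : W₀.left.Opens))
    (x := fiberPoint η₀ w₀) trivial
  obtain ⟨W, w, _, s, hs⟩ : ∃ (W : Y.Etale) (w : (Scheme.pointSmallEtale η₀).fiber.obj W)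
      (_ : IsAffine W.left) (s : ULift.{u + 1} M →+ ((EtCoh.push f).obj F).obj.obj (op W)),
      Function.Bijective fun a => germ η₀ ((EtCoh.push f).obj F) W w (s a) := by
    obtain ⟨w, hw⟩ := exists_lift_open η₀ N w₀ hwN
    refine ⟨openObj W₀ N, w, hN, res (openHom W₀ N) s₀, ?_⟩
    have e : (fun a => germ η₀ ((EtCoh.push f).obj F) _ w (res (openHom W₀ N) s₀ a)) =
        fun a => germ η₀ ((EtCoh.push f).obj F) W₀ w₀ (s₀ a) := funext fun a => by
      show germ η₀ ((EtCoh.push f).obj F) _ w (((EtCoh.push f).obj F).obj.map (openHom W₀ N).op (s₀ a)) = _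
      rw [germ_res, hw]
    exact e ▸ hs₀
  have hinj := hΦ₀.1.comp hs.1
  -- nonvanishing
  have hnv : ∀ a : {a : ULift.{u + 1} M // a ≠ 0}, ∃ T : Set W.left, IsConstructible T ∧
      (AlgebraicGeometry.Etale f → EtCoh.IsFiniteLocallyConstant F → IsOpen T) ∧ fiberPoint η₀ w ∈ T ∧
      ∀ (Ω' : Type u) [Field Ω'] [IsAlgClosed Ω'] (η' : Spec (CommRingCat.of Ω') ⟶ Y)
        (t : (Scheme.pointSmallEtale η').fiber.obj W), fiberPoint η' t ∈ T →
        ∃ (ξ' : Spec (CommRingCat.of Ω') ⟶ X) (h : ξ' ≫ f = η'),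
          germ ξ' F _ (pushLift f ξ' h W t) (s a.1) ≠ 0 := fun a => by
    obtain ⟨ξ, hξ⟩ : ∃ ξ : {ξ : Spec _ ⟶ X // ξ ≫ f = η₀},
        germ ξ.1 F _ (pushLift f ξ.1 ξ.2 W w) (s a.1) ≠ 0 := by
      by_contra h
      push_neg at h
      exact a.2 (hinj (funext fun ξ => by
        show Φ₀ (germ η₀ _ W w (s a.1)) ξ = Φ₀ (germ η₀ _ W w (s 0)) ξ
        rw [hΦ₀g, h ξ, map_zero, map_zero, map_zero]
        rfl))
    exact exists_nonvanishing f hF W (s a.1) w ξ.1 ξ.2 hξ
  choose T hTc hTo hTw hT using hnv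
  -- counting
  let D : Set ℕ → Set X := fun Q => {x | Nat.card ((EtCoh.stalk (geomPoint x)).obj F) ∈ Q}
  have hD : ∀ (Q : Set ℕ) (Ω : Type u) [Field Ω] [IsAlgClosed Ω] (ξ : Spec (CommRingCat.of Ω) ⟶ X),
      ξ.base default ∈ D Q ↔ Nat.card ((EtCoh.stalk ξ).obj F) ∈ Q := fun Q Ω _ _ ξ => by
    obtain ⟨M', _, _, h⟩ := exists_stalk_equiv hF (ξ.base default)
    obtain ⟨e⟩ := h Ω ξ rfl
    obtain ⟨e'⟩ := h _ (geomPoint (ξ.base default)) (geomPoint_apply _ _)
    show Nat.card ((EtCoh.stalk (geomPoint (ξ.base default))).obj F) ∈ Q ↔ _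
    rw [Nat.card_congr e.toEquiv.symm, Nat.card_congr e'.toEquiv.symm]
  have : IsFinite (pullback.fst W.hom f) := MorphismProperty.pullback_fst _ _ inferInstance
  have : LocallyOfFinitePresentation (pullback.fst W.hom f) := MorphismProperty.pullback_fst _ _ inferInstance
  have : IsAffine ((𝟭 Scheme.{u}).obj W.left) := ‹IsAffine W.left›
  have : IsAffine (pullback W.hom f) := isAffine_of_isAffineHom (pullback.fst W.hom f)
  have hloc : ∀ (n : ℕ) (Q : Set ℕ), ∃ N : Set W.left, IsConstructible N ∧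
      (AlgebraicGeometry.Etale f → EtCoh.IsFiniteLocallyConstant F → IsClopen N) ∧
      ∀ (Ω : Type u) [Field Ω] [IsAlgClosed Ω] (η : Spec (CommRingCat.of Ω) ⟶ Y)
        (t : (Scheme.pointSmallEtale η).fiber.obj W), fiberPoint η t ∈ N ↔
          n ≤ Nat.card {ξ : {ξ : Spec (CommRingCat.of Ω) ⟶ X // ξ ≫ f = η} //
            Nat.card ((EtCoh.stalk ξ.1).obj F) ∈ Q} := fun n Q => by
    have hDc : IsLocallyConstructible (D Q) := isLocallyConstructible_stalk hF
      (fun A => Nat.card A ∈ Q) fun A B e h => by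
        rwa [← Nat.card_congr e.addCommGroupIsoToAddEquiv.toEquiv]
    obtain ⟨N, hNc, hNo, hNi⟩ := exists_ptsLocus n (pullback.fst W.hom f)
      ((pullback.snd W.hom f).base ⁻¹' D Q)
      (Groth.AlgSpBasic.isLocallyConstructible_preimage_scheme _ hDc).isConstructible
    refine ⟨N, hNc, fun hf hFl => hNo (MorphismProperty.pullback_fst _ _ hf)
      (IsClopen.preimage ⟨isOpen_compl_iff.1 (isOpen_card_stalk hFl Qᶜ), isOpen_card_stalk hFl Q⟩
        (pullback.snd W.hom f).continuous), fun Ω _ _ η t => ?_⟩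
    refine (hNi Ω t.left).trans (Eq.to_iff (congrArg (n ≤ ·) ?_))
    exact Nat.card_congr ((ptsInEquiv f W t (D Q)).trans (Equiv.subtypeEquivRight fun ξ => hD Q Ω ξ.1))
  choose L hLc hLo hL using hloc
  let cnt : ℕ → ℕ := fun k => Nat.card {ξ : {ξ : Spec _ ⟶ X // ξ ≫ f = η₀} //
    Nat.card ((EtCoh.stalk ξ.1).obj F) ∈ ({k} : Set ℕ)}
  let K : Set ℕ := Set.range fun ξ : {ξ : Spec _ ⟶ X // ξ ≫ f = η₀} => Nat.card ((EtCoh.stalk ξ.1).obj F)
  have hKfin : K.Finite := Set.finite_range _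
  have : Finite K := hKfin
  let S : Set W.left := (⋂ a, T a) ∩ ((⋂ k : K, L (cnt k) {k.1} \ L (cnt k + 1) {k.1}) ∩ (L 1 Kᶜ)ᶜ)
  obtain ⟨w', hw'⟩ := exists_fiber_of_point (geomPoint y) W (fiberPoint η₀ w)
    ((hom_fiberPoint η₀ w).trans (hη₀.trans (geomPoint_apply _ _).symm))
  refine ⟨W, w', M, inferInstance, inferInstance, s, S, ?_, fun hf hFl => ?_, ?_, fun z hz => ?_⟩
  · exact ((IsConstructible.iInter hTc).inter ((IsConstructible.iInter fun k =>
      (hLc _ _).sdiff (hLc _ _)).inter (hLc _ _).compl)).isLocallyConstructible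
  · exact (isOpen_iInter_of_finite fun a => hTo a hf hFl).inter ((isOpen_iInter_of_finite fun k =>
      ((hLo _ _ hf hFl).diff (hLo _ _ hf hFl)).isOpen).inter (hLo _ _ hf hFl).compl.isOpen)
  · rw [show fiberPoint (geomPoint y) w' = fiberPoint η₀ w from hw']
    refine ⟨Set.mem_iInter.2 hTw, Set.mem_iInter.2 fun k => ⟨(hL _ _ _ η₀ w).2 le_rfl,
      fun h => Nat.not_succ_le_self _ ((hL _ _ _ η₀ w).1 h)⟩, fun h => ?_⟩
    obtain ⟨⟨ξ, hξ⟩, -⟩ := Nat.card_pos_iff.1 ((hL _ _ _ η₀ w).1 h)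
    exact hξ ⟨ξ, rfl⟩
  · obtain ⟨hzT, hzL, hzK⟩ := hz
    obtain ⟨Ω, _, _, η, t, ht⟩ := exists_algClosed_fiber W z
    intro Ω' _ _ η' t' ht'
    refine bijective_germ_of_fiberPoint_eq _ W s t' t (ht'.trans ht.symm) ?_
    obtain ⟨Φ, hΦ, hΦg⟩ := exists_stalkPush_equiv f F η
    refine (Function.Bijective.of_comp_iff' hΦ _).1 ?_
    have := finite_lifts f η
    have := fun ξ : {ξ : Spec _ ⟶ X // ξ ≫ f = η} => finite_stalk_of_isConstructibleAb hF ξ.1
    have hfib : ∀ k : ℕ, Nat.card {ξ : {ξ : Spec _ ⟶ X // ξ ≫ f = η} //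
        Nat.card ((EtCoh.stalk ξ.1).obj F) = k} = cnt k := by
      intro k
      by_cases hk : k ∈ K
      · obtain ⟨h1, h2⟩ := Set.mem_iInter.1 hzL ⟨k, hk⟩
        exact le_antisymm (Nat.lt_succ_iff.1 (not_le.1 fun h => h2 (ht ▸ (hL _ _ _ η t).2 h)))
          ((hL _ _ _ η t).1 (ht.symm ▸ h1))
      · refine (Nat.card_eq_zero.2 (Or.inl ⟨fun ξ => hzK (ht ▸ (hL _ _ _ η t).2
          (Nat.card_pos_iff.2 ⟨⟨⟨ξ.1, ?_⟩⟩, inferInstance⟩))⟩)).trans
          (Nat.card_eq_zero.2 (Or.inl ⟨fun ξ => hk ⟨ξ.1, ξ.2⟩⟩)).symm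
        show Nat.card ((EtCoh.stalk ξ.1.1).obj F) ∉ K
        rwa [ξ.2]
    let E := Equiv.ofFiberEquiv (f := fun ξ : {ξ : Spec _ ⟶ X // ξ ≫ f = η} =>
        Nat.card ((EtCoh.stalk ξ.1).obj F))
      (g := fun ξ : {ξ : Spec _ ⟶ X // ξ ≫ f = η₀} => Nat.card ((EtCoh.stalk ξ.1).obj F))
      fun k => (Finite.card_eq.1 (hfib k)).some
    have hcard : Nat.card (ULift.{u + 1} M) =
        Nat.card (∀ ξ : {ξ : Spec _ ⟶ X // ξ ≫ f = η}, (EtCoh.stalk ξ.1).obj F) := by
      have := Fintype.ofFinite {ξ : Spec _ ⟶ X // ξ ≫ f = η}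
      have := Fintype.ofFinite {ξ : Spec _ ⟶ X // ξ ≫ f = η₀}
      rw [Nat.card_congr (Equiv.ofBijective _ (hΦ₀.comp hs)), Nat.card_pi, Nat.card_pi, ← E.prod_comp]
      exact Finset.prod_congr rfl fun ξ _ => 
        Equiv.ofFiberEquiv_map (f := fun ξ : {ξ : Spec _ ⟶ X // ξ ≫ f = η} =>
          Nat.card ((EtCoh.stalk ξ.1).obj F)) (g := fun ξ : {ξ : Spec _ ⟶ X // ξ ≫ f = η₀} =>
          Nat.card ((EtCoh.stalk ξ.1).obj F)) _ ξ
    refine (Nat.bijective_iff_injective_and_card _).2 ⟨?_, hcard⟩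
    intro a b hab
    by_contra hne
    obtain ⟨ξ, h, hξ⟩ := hT ⟨a - b, sub_ne_zero.2 hne⟩ Ω η t (ht.symm ▸ Set.mem_iInter.1 hzT _)
    have hab' := congrFun hab ⟨ξ, h⟩
    simp only [Function.comp_apply, hΦg] at hab'
    refine hξ ?_
    show germ ξ F _ _ (s (a - b)) = 0
    exact (congrArg _ (map_sub s a b)).trans ((map_sub _ _ _).trans (sub_eq_zero.2 hab'))

/-- Direct images of constructible sheaves along finite morphisms are constructible. -/
theorem isConstructible_push {F : EtCoh.Ab X} (hF : EtPBC.IsConstructible F) :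
    EtPBC.IsConstructible ((EtCoh.push f).obj F) :=
  isConstructible_of_sections fun y =>
    let ⟨W, w, M, h1, h2, s, S, hS, _, hwS, hSb⟩ := exists_push_chart f hF y
    ⟨W, w, M, h1, h2, s, S, hS, hwS, hSb⟩

/-- Direct images of finite locally constant sheaves along finite etale morphisms. -/
theorem isFLC_push [AlgebraicGeometry.Etale f] {F : EtCoh.Ab X} (hF : EtCoh.IsFiniteLocallyConstant F) :
    EtCoh.IsFiniteLocallyConstant ((EtCoh.push f).obj F) := isFLC_iff.2 fun y => by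
  obtain ⟨W, w, M, _, hM, s, S, -, hSo, hwS, hSb⟩ :=
    exists_push_chart f (isConstructible_of_isFLC hF) y
  have hSo' : IsOpen S := hSo inferInstance hF
  refine ⟨openObj W ⟨S, hSo'⟩, ⟨⟨fiberPoint (geomPoint y) w, hwS⟩, ?_⟩, M, _, hM,
    res (openHom W ⟨S, hSo'⟩) s, fun Ω _ _ η t => ?_⟩
  · exact (hom_fiberPoint _ w).trans (geomPoint_apply _ _)
  · refine (congrArg Function.Bijective (funext fun a => germ_res η _ (openHom W ⟨S, hSo'⟩) t (s a))).mpr
      (hSb ?_ Ω η _ rfl)
    rw [fiberPoint_map]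
    exact (fiberPoint η t).2

end Groth.EtaleDeep.Cons
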