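import Groth.Agent.EtaleDeep.Cons.AbBridge

/-!
# Constructible abelian sheaves: subobjects, quotients, Noetherian objects
-/

set_option autoImplicit false
set_option backward.isDefEq.respectTransparency.types false
set_option linter.style.haveILetI false

universe u

open CategoryTheory CategoryTheory.Limits AlgebraicGeometry Opposite

namespace Groth.EtaleDeep.Cons

instance isNoetherianRing_Zint : IsNoetherianRing Zint.{u} :=
  isNoetherianRing_of_ringEquiv ℤ ULift.ringEquiv.{0, u + 1}.symm

variable {X : Scheme.{u}} [AlgebraicGeometry.IsNoetherian X]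

omit [AlgebraicGeometry.IsNoetherian X] in
/-- A constructible abelian sheaf is the underlying sheaf of a constructible sheaf of modules. -/
theorem isConstructibleMod_ofAb {F : EtCoh.Ab X} (hF : EtPBC.IsConstructible F) :
    EtModW.IsConstructible Zint.{u} (ofAb F) :=
  isConstructibleMod_of_isConstructible (isConstructible_of_iso (ofAbIso F).symm hF)

/-- Subsheaves of constructible abelian sheaves on Noetherian schemes are constructible. -/
theorem isConstructible_of_mono {F G : EtCoh.Ab X} (i : G ⟶ F) [Mono i] (hF : EtPBC.IsConstructible F) :
    EtPBC.IsConstructible G := by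
  let i' : ofAb G ⟶ ofAb F := (toAb Zint.{u} X).preimage ((ofAbIso G).hom ≫ i ≫ (ofAbIso F).inv)
  have : Mono ((toAb Zint.{u} X).map i') := by rw [Functor.map_preimage]; infer_instance
  have : Mono i' := (toAb Zint.{u} X).mono_of_mono_map this
  refine isConstructible_of_iso (ofAbIso G) (isConstructible_of_isConstructibleMod
    (isConstructibleMod_of_mono i' (isConstructibleMod_ofAb hF)) fun Ω _ _ ξ => ?_)
  have := finite_stalk_of_isConstructibleAb hF ξ
  exact Finite.of_injective _ ((AddCommGrpCat.mono_iff_injective
    ((EtCoh.stalk ξ).map ((ofAbIso G).hom ≫ i))).1 inferInstance)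

/-- Quotients of constructible abelian sheaves on Noetherian schemes are constructible. -/
theorem isConstructible_of_epi {F G : EtCoh.Ab X} (p : F ⟶ G) [Epi p] (hF : EtPBC.IsConstructible F) :
    EtPBC.IsConstructible G :=
  isConstructible_of_iso
    ((colimit.isColimit _).coconePointUniqueUpToIso
      (Abelian.epiIsCokernelOfKernel _ (limit.isLimit (parallelPair p 0))))
    (isConstructible_cokernel (kernel.ι p) (isConstructible_of_mono (kernel.ι p) hF) hF)

/-- Constructible abelian sheaves on Noetherian schemes are Noetherian objects. -/
theorem isNoetherianObject_ab {F : EtCoh.Ab X} (hF : EtPBC.IsConstructible F) : IsNoetherianObject F := by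
  have := isNoetherianObject_of_isConstructible (isConstructibleMod_ofAb hF)
  rw [isNoetherianObject_iff_monotone_chain_condition]
  intro c
  let e : Subobject (ofAb F) ≃o Subobject F :=
    (Subobject.lowerEquivalence (MonoOver.congr (ofAb F) (toAb Zint.{u} X).asEquivalence)).toOrderIso.trans
      (Subobject.mapIsoToOrderIso (ofAbIso F))
  obtain ⟨N, hN⟩ := monotone_chain_condition_of_isNoetherianObject
    (e.symm.toOrderEmbedding.toOrderHom.comp c)
  exact ⟨N, fun m hm => e.symm.injective (hN m hm)⟩

end Groth.EtaleDeep.Cons
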