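import Groth.Agent.EtaleDeep.Cons.Generators
import Groth.Agent.EtaleDeep.Cons.AbNoetherian

/-!
# Noetherian torsion sheaves are constructible; killed presentations
-/

set_option autoImplicit false
set_option backward.isDefEq.respectTransparency.types false
set_option linter.style.haveILetI false

universe u

open CategoryTheory CategoryTheory.Limits AlgebraicGeometry Opposite

namespace Groth.EtaleDeep.Cons

open Groth.EtaleBase Groth.EtaleBase.LocConst Groth.EtaleBase.SitePt

variable {X : Scheme.{u}}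

/-- `j_! ℤ/n` is killed by `n`. -/
theorem nsmul_id_extZeroConst (U : X.Etale) (n : ℕ) : n • 𝟙 (EtPBC.extZeroConst U (ZMod n)) = 0 := by
  refine (extZeroConstEquiv U (ZMod n) _).injective (DFunLike.ext _ _ fun a => ?_)
  rw [← hom_constSect, ← hom_constSect]
  show n • constSect U (ZMod n) a = 0
  rw [← map_nsmul]
  refine (congrArg _ ?_).trans (map_zero _)
  exact ULift.ext _ _ (by simp [ULift.smul_down])

/-- A sheaf on which `n` is zero is killed by `n`. -/
theorem killedBy_of_nsmul_id {F : EtCoh.Ab X} {n : ℕ} (h : n • 𝟙 F = 0) : EtCoh.KilledBy n F := fun U s =>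
  (congrArg (fun φ : F ⟶ F => φ.hom.app (op U) s) h :)

variable [CompactSpace X] [QuasiSeparatedSpace X]

/-- Presentations of constructible sheaves killed by `n`. -/
theorem exists_presentation_killedBy {F : EtCoh.Ab X} (hF : EtPBC.IsConstructible F) (n : ℕ) (hn : 0 < n)
    (hFn : EtCoh.KilledBy n F) :
    ∃ (a b : ℕ) (V : Fin a → X.Etale) (U : Fin b → X.Etale) (_ : ∀ j, IsAffine (V j).left)
      (_ : ∀ i, IsAffine (U i).left)
      (φ : (⨁ fun j => EtPBC.extZeroConst (V j) (ZMod n)) ⟶ ⨁ fun i => EtPBC.extZeroConst (U i) (ZMod n)),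
      Nonempty (F ≅ cokernel φ) := by
  obtain ⟨b, U, hU, π, _⟩ := exists_epi_extZeroConst_killedBy hF n hFn
  have hS : n • 𝟙 (⨁ fun i => EtPBC.extZeroConst (U i) (ZMod n)) = 0 := biproduct.hom_ext' _ _ fun i => by
    rw [Preadditive.comp_nsmul, Category.comp_id, comp_zero]
    refine Eq.trans ?_ (zero_comp (f := biproduct.ι (fun i => EtPBC.extZeroConst (U i) (ZMod n)) i))
    rw [← nsmul_id_extZeroConst (U i) n, Preadditive.nsmul_comp, Category.id_comp]
  have hK : EtCoh.KilledBy n (kernel π) := killedBy_of_nsmul_id ((cancel_mono (kernel.ι π)).1 (by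
    rw [Preadditive.nsmul_comp, Category.id_comp, zero_comp, ← Category.comp_id (kernel.ι π),
      ← Preadditive.comp_nsmul, hS, comp_zero]))
  obtain ⟨a, V, hV, ρ, _⟩ := exists_epi_extZeroConst_killedBy
    (isConstructible_kernel π (isConstructible_sum_extZeroConst U (fun _ => n) fun i => ⟨hn, hU i⟩) hF) n hK
  exact ⟨a, b, V, U, hV, hU, ρ ≫ kernel.ι π,
    ⟨((colimit.isColimit _).coconePointUniqueUpToIso
      (Abelian.epiIsCokernelOfKernel _ (limit.isLimit (parallelPair π 0)))).symm ≪≫
        (cokernelEpiComp ρ (kernel.ι π)).symm⟩⟩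

omit [CompactSpace X] [QuasiSeparatedSpace X] in
/-- Near any lift of a geometric point, sections of a torsion sheaf live on affine charts and are killed
by a positive integer. -/
theorem exists_torsion_rep {F : EtCoh.Ab X} (hF : EtCoh.IsTorsion F) {Ω : Type u} [Field Ω] [IsSepClosed Ω]
    (η : Spec (CommRingCat.of Ω) ⟶ X) (y : (EtCoh.stalk η).obj F) :
    ∃ (U : X.Etale) (_ : IsAffine U.left) (t : (Scheme.pointSmallEtale η).fiber.obj U)
      (σ : F.obj.obj (op U)) (n : ℕ), 0 < n ∧ n • σ = 0 ∧ germ η F U t σ = y := by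
  obtain ⟨U, t, s, rfl⟩ := germ_surjective η F y
  obtain ⟨V, g, ⟨v, hv⟩, hord⟩ := hF U s (fiberPoint η t)
  obtain ⟨t', ht', -⟩ := exists_fiber_lift η g t v hv
  obtain ⟨N, hN, htN, -⟩ := exists_isAffineOpen_mem_and_subset (U := (⊤ : V.left.Opens))
    (x := fiberPoint η t') trivial
  obtain ⟨t'', ht''⟩ := exists_lift_open η N t' htN
  obtain ⟨n, hn, hns⟩ := hord.exists_nsmul_eq_zero
  refine ⟨openObj V N, hN, t'', F.obj.map (openHom V N).op (F.obj.map g.op s), n, hn, ?_, ?_⟩
  · rw [← map_nsmul, hns, map_zero]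
  · rw [germ_res, ht'', germ_res, ht']

omit [CompactSpace X] [QuasiSeparatedSpace X] in
/-- Noetherian torsion sheaves on Noetherian schemes are constructible. -/
theorem isConstructible_of_isNoetherianObject [AlgebraicGeometry.IsNoetherian X] {F : EtCoh.Ab X}
    (hF : EtCoh.IsTorsion F) [IsNoetherianObject F] : EtPBC.IsConstructible F := by
  let P : Set (Subobject F) := {S | EtPBC.IsConstructible (S : EtCoh.Ab X)}
  have : Mono (0 : kernel (𝟙 F) ⟶ F) := ⟨fun a b _ => (isZero_kernel_of_mono (𝟙 F)).eq_of_tgt a b⟩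
  have hP : P.Nonempty := ⟨Subobject.mk (0 : kernel (𝟙 F) ⟶ F), isConstructible_of_isZero
    (IsZero.of_iso (isZero_kernel_of_mono (𝟙 F)) (Subobject.underlyingIso _))⟩
  obtain ⟨S, hS, hmax⟩ := (wellFounded_gt (α := Subobject F)).has_min P hP
  have key : ∀ (U : X.Etale) (n : ℕ) (σ : F.obj.obj (op U)) (h : n • σ = 0), IsAffine U.left → 0 < n →
      S.Factors (constDesc U (ZMod n) (zmodSect σ h)) := by
    intro U n σ h hU hn
    have : NeZero n := ⟨hn.ne'⟩
    let φ := constDesc U (ZMod n) (zmodSect σ h)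
    let ψ : (S : EtCoh.Ab X) ⊞ EtPBC.extZeroConst U (ZMod n) ⟶ F := biprod.desc S.arrow φ
    have hT : imageSubobject ψ ∈ P := by
      have hsum := isConstructible_extension
        (ShortComplex.Splitting.ofHasBinaryBiproduct (S : EtCoh.Ab X) (EtPBC.extZeroConst U (ZMod n))).shortExact
        hS (isConstructible_extZeroConst U (ZMod n))
      exact isConstructible_of_iso (imageSubobjectIso ψ).symm
        (isConstructible_of_epi (factorThruImage ψ) hsum)
    have hle : S ≤ imageSubobject ψ :=
      Subobject.le_of_comm (biprod.inl ≫ factorThruImageSubobject ψ) (by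
        rw [Category.assoc, imageSubobject_arrow_comp, biprod.inl_desc])
    have heq : imageSubobject ψ = S := (hle.eq_or_lt.resolve_right fun hlt => hmax _ hT hlt).symm
    rw [← heq]
    exact Subobject.factors_of_factors_right (biprod.inr ≫ factorThruImageSubobject ψ)
      (P := imageSubobject ψ) (g := (imageSubobject ψ).arrow) (Subobject.factors_self _) |> fun hh => by
        rwa [Category.assoc, imageSubobject_arrow_comp, biprod.inr_desc] at hh
  have : Epi S.arrow := epi_of_stalk_surjective _ fun x y => by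
    obtain ⟨U, hU, t, σ, n, hn, h, rfl⟩ := exists_torsion_rep hF (geomPoint x) y
    refine ⟨germ (geomPoint x) _ U t ((S.factorThru _ (key U n σ h hU hn)).hom.app (op U)
      (constSect U (ZMod n) ⟨1⟩)), ?_⟩
    show ((EtCoh.stalk (geomPoint x)).map S.arrow) _ = _
    rw [germ_map]
    refine congrArg _ (Eq.trans ?_ ((constDesc_sect U (ZMod n) (zmodSect σ h) ⟨1⟩).trans (zmodSect_one σ h)))
    exact congrArg (fun m : EtPBC.extZeroConst U (ZMod n) ⟶ F => m.hom.app (op U) (constSect U (ZMod n) ⟨1⟩))
      (S.factorThru_arrow _ (key U n σ h hU hn))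
  have : IsIso S.arrow := isIso_of_mono_of_epi _
  exact isConstructible_of_iso (asIso S.arrow) hS

end Groth.EtaleDeep.Cons
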