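import Groth.Agent.EtaleDeep.Cons.Compact
import Groth.Agent.EtaleDeep.Cons.NoetherianTorsion

/-!
# Torsion sheaves are filtered colimits of constructible sheaves
-/

set_option autoImplicit false
set_option backward.isDefEq.respectTransparency.types false
set_option linter.style.haveILetI false

universe u

open CategoryTheory CategoryTheory.Limits AlgebraicGeometry Opposite

namespace Groth.EtaleDeep.Cons

open Groth.EtaleBase Groth.EtaleBase.LocConst Groth.EtaleBase.SitePt

variable {X : Scheme.{u}}

/-- A presented sheaf with a map to `F`: the index type of the canonical diagram. -/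
structure PresOver (F : EtCoh.Ab X) : Type (u + 1) where
  /-- number of generators -/
  a : ℕ
  /-- number of relations -/
  b : ℕ
  /-- charts of generators -/
  U : Fin a → X.Etale
  /-- charts of relations -/
  V : Fin b → X.Etale
  /-- orders of generators -/
  n : Fin a → ℕ
  /-- orders of relations -/
  m : Fin b → ℕ
  hn : ∀ i, 0 < n i ∧ IsAffine (U i).left
  hm : ∀ j, 0 < m j ∧ IsAffine (V j).left
  /-- the relations -/
  φ : (⨁ fun j => EtPBC.extZeroConst (V j) (ZMod (m j))) ⟶ (⨁ fun i => EtPBC.extZeroConst (U i) (ZMod (n i)))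
  /-- the map to `F` -/
  f : cokernel φ ⟶ F

/-- The presented sheaf over `F`. -/
noncomputable def PresOver.toOver {F : EtCoh.Ab X} (P : PresOver F) : Over F := Over.mk P.f

/-- The index category. -/
abbrev PresCat (F : EtCoh.Ab X) : Type (u + 1) := InducedCategory (Over F) (PresOver.toOver (F := F))

/-- The canonical diagram. -/
noncomputable def presDiag (F : EtCoh.Ab X) : PresCat F ⥤ EtCoh.Ab X := inducedFunctor _ ⋙ Over.forget F

/-- The canonical cocone. -/
noncomputable def presCocone (F : EtCoh.Ab X) : Cocone (presDiag F) where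
  pt := F
  ι := { app := fun P => (PresOver.toOver (P : PresOver F)).hom
         naturality := fun P Q g =>
          (Over.w ((inducedFunctor (PresOver.toOver (F := F))).map g)).trans (Category.comp_id _).symm }

/-- Morphisms of the index category. -/
noncomputable def presHom {F : EtCoh.Ab X} {P Q : PresCat F}
    (g : (presDiag F).obj P ⟶ (presDiag F).obj Q)
    (w : g ≫ (presCocone F).ι.app Q = (presCocone F).ι.app P) : P ⟶ Q :=
  InducedCategory.homMk (Over.homMk g w)

variable [CompactSpace X] [QuasiSeparatedSpace X]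

/-- The diagram consists of constructible sheaves. -/
theorem isConstructible_presDiag {F : EtCoh.Ab X} (P : PresCat F) :
    EtPBC.IsConstructible ((presDiag F).obj P) :=
  isConstructible_cokernel _ (isConstructible_sum_extZeroConst _ _ (P : PresOver F).hm)
    (isConstructible_sum_extZeroConst _ _ (P : PresOver F).hn)

/-- Every constructible sheaf over `F` occurs. -/
theorem exists_presObj {F C : EtCoh.Ab X} (hC : EtPBC.IsConstructible C) (g : C ⟶ F) :
    ∃ (P : PresCat F) (e : C ≅ (presDiag F).obj P), e.hom ≫ (presCocone F).ι.app P = g := by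
  obtain ⟨a, b, U, V, n, m, hn, hm, φ, ⟨e⟩⟩ := exists_presentation hC
  exact ⟨⟨a, b, U, V, n, m, hn, hm, φ, e.inv ≫ g⟩, e, e.hom_inv_id_assoc g⟩

instance isFiltered_presCat (F : EtCoh.Ab X) : IsFiltered (PresCat F) := by
  have h0 : Nonempty (PresCat F) := by
    obtain ⟨P, -, -⟩ := exists_presObj (F := F) (isConstructible_of_isZero (isZero_kernel_of_mono (𝟙 F)))
      (kernel.ι (𝟙 F))
    exact ⟨P⟩
  have : IsFilteredOrEmpty (PresCat F) := by
    refine ⟨fun P Q => ?_, fun P Q f g => ?_⟩
    · have hsum := isConstructible_extension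
        (ShortComplex.Splitting.ofHasBinaryBiproduct ((presDiag F).obj P) ((presDiag F).obj Q)).shortExact
        (isConstructible_presDiag P) (isConstructible_presDiag Q)
      obtain ⟨R, e, he⟩ := exists_presObj hsum
        (biprod.desc ((presCocone F).ι.app P) ((presCocone F).ι.app Q))
      refine ⟨R, presHom (biprod.inl ≫ e.hom) ?_, presHom (biprod.inr ≫ e.hom) ?_, trivial⟩
      · rw [Category.assoc]
        exact (congrArg (_ ≫ ·) he).trans (biprod.inl_desc _ _)
      · rw [Category.assoc]
        exact (congrArg (_ ≫ ·) he).trans (biprod.inr_desc _ _)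
    · let d := (presDiag F).map f - (presDiag F).map g
      have hd : d ≫ (presCocone F).ι.app Q = 0 := by
        rw [Preadditive.sub_comp, (presCocone F).w, (presCocone F).w, sub_self]
      obtain ⟨R, e, he⟩ := exists_presObj
        (isConstructible_cokernel d (isConstructible_presDiag P) (isConstructible_presDiag Q))
        (cokernel.desc d _ hd)
      refine ⟨R, presHom (cokernel.π d ≫ e.hom) ?_, ?_⟩
      · rw [Category.assoc]
        exact (congrArg (_ ≫ ·) he).trans (cokernel.π_desc _ _ _)
      · refine InducedCategory.hom_ext (Over.OverMorphism.ext ?_)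
        show (presDiag F).map f ≫ cokernel.π d ≫ e.hom = (presDiag F).map g ≫ cokernel.π d ≫ e.hom
        have hπ : (presDiag F).map f ≫ cokernel.π d = (presDiag F).map g ≫ cokernel.π d := by
          rw [← sub_eq_zero, ← Preadditive.sub_comp]
          exact cokernel.condition d
        rw [← Category.assoc, hπ, Category.assoc]
  exact { }

omit [CompactSpace X] [QuasiSeparatedSpace X] in
/-- Sections of a constructible sheaf are locally killed by positive integers. -/
theorem isTorsion_of_isConstructible {C : EtCoh.Ab X} (hC : EtPBC.IsConstructible C) : EtCoh.IsTorsion C := by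
  intro U s x
  obtain ⟨t, ht⟩ := exists_geomPoint_lift U x
  let η := geomPoint (U.hom.base x)
  have := finite_stalk_of_isConstructibleAb hC η
  have : Nat.card ((EtCoh.stalk η).obj C) • s = Nat.card ((EtCoh.stalk η).obj C) • s := rfl
  have h0 : germ η C U t (Nat.card ((EtCoh.stalk η).obj C) • s) = 0 := by
    rw [map_nsmul]
    exact card_nsmul_eq_zero'
  obtain ⟨V, g, v, hv, hs⟩ := (germ_eq_zero_iff η C U t _).1 h0
  refine ⟨V, g, ⟨fiberPoint η v, ?_⟩, isOfFinAddOrder_iff_nsmul_eq_zero.2
    ⟨Nat.card ((EtCoh.stalk η).obj C), Nat.card_pos, ?_⟩⟩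
  · rw [← fiberPoint_map, hv]
    exact ht
  · rw [← map_nsmul]
    exact hs

/-- Torsion sheaves are colimits of their canonical diagrams. -/
theorem nonempty_isColimit_presCocone {F : EtCoh.Ab X} (hF : EtCoh.IsTorsion F) :
    Nonempty (IsColimit (presCocone F)) := by
  let θ : colimit (presDiag F) ⟶ F := colimit.desc _ (presCocone F)
  have hpres : ∀ x : X, PreservesColimitsOfShape (PresCat F) (EtCoh.stalk (geomPoint x)) := fun x =>
    have : PreservesColimitsOfSize.{u + 1, u + 1} (EtCoh.stalk (geomPoint x)) :=
      ((Scheme.pointSmallEtale (geomPoint x)).skyscraperSheafAdjunction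
        (A := AddCommGrpCat.{u + 1})).leftAdjoint_preservesColimits
    inferInstance
  have : Epi θ := epi_of_stalk_surjective _ fun x y => by
    obtain ⟨U, hU, t, σ, n, hn, h, rfl⟩ := exists_torsion_rep hF (geomPoint x) y
    have : NeZero n := ⟨hn.ne'⟩
    obtain ⟨P, e, he⟩ := exists_presObj (isConstructible_extZeroConst U (ZMod n))
      (constDesc U (ZMod n) (zmodSect σ h))
    refine ⟨germ (geomPoint x) _ U t ((e.hom ≫ colimit.ι (presDiag F) P).hom.app (op U)
      (constSect U (ZMod n) ⟨1⟩)), ?_⟩
    show ((EtCoh.stalk (geomPoint x)).map θ) _ = _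
    rw [germ_map]
    refine congrArg _ (Eq.trans ?_ ((constDesc_sect U (ZMod n) (zmodSect σ h) ⟨1⟩).trans (zmodSect_one σ h)))
    refine congrArg (fun m : EtPBC.extZeroConst U (ZMod n) ⟶ F => m.hom.app (op U) (constSect U (ZMod n) ⟨1⟩))
      (show (e.hom ≫ colimit.ι (presDiag F) P) ≫ θ = _ from ?_)
    exact (Category.assoc _ _ _).trans ((congrArg (e.hom ≫ ·) (colimit.ι_desc _ _)).trans he)
  have : Mono θ := mono_of_stalk_injective _ fun x => by
    rw [injective_iff_map_eq_zero]
    intro z hz
    have := hpres x
    obtain ⟨P, w, rfl⟩ := Types.jointly_surjective _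
      (isColimitOfPreserves (EtCoh.stalk (geomPoint x) ⋙ CategoryTheory.forget AddCommGrpCat.{u + 1})
        (colimit.isColimit (presDiag F))) z
    change (EtCoh.stalk (geomPoint x)).map θ ((EtCoh.stalk (geomPoint x)).map (colimit.ι (presDiag F) P) w) = 0 at hz
    rw [← ConcreteCategory.comp_apply, ← Functor.map_comp,
      show colimit.ι (presDiag F) P ≫ θ = (presCocone F).ι.app P from colimit.ι_desc _ _] at hz
    obtain ⟨U, hU, t, σ, n, hn, h, rfl⟩ :=
      exists_torsion_rep (isTorsion_of_isConstructible (isConstructible_presDiag P)) (geomPoint x) w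
    rw [germ_map, germ_eq_zero_iff] at hz
    obtain ⟨V, g, v, hv, hσ⟩ := hz
    obtain ⟨N, hN, hvN, -⟩ := exists_isAffineOpen_mem_and_subset (U := (⊤ : V.left.Opens))
      (x := fiberPoint (geomPoint x) v) trivial
    obtain ⟨v', hv'⟩ := exists_lift_open (geomPoint x) N v hvN
    let σ' := ((presDiag F).obj P).obj.map (openHom V N ≫ g).op σ
    have h' : n • σ' = 0 := by rw [← map_nsmul, h, map_zero]
    have hfσ : ((presCocone F).ι.app P).hom.app (op (openObj V N)) σ' = 0 := by
      refine (NatTrans.naturality_apply ((presCocone F).ι.app P).hom (openHom V N ≫ g).op σ).trans ?_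
      show F.obj.map (openHom V N ≫ g).op (((presCocone F).ι.app P).hom.app (op U) σ) = 0
      rw [op_comp, Functor.map_comp_apply]
      refine (congrArg _ hσ).trans (map_zero _)
    have hZ : IsAffine (openObj V N).left := hN
    have : NeZero n := ⟨hn.ne'⟩
    let r := constDesc (openObj V N) (ZMod n) (zmodSect σ' h')
    have hr : r ≫ (presCocone F).ι.app P = 0 := extZeroConst_hom_ext (by
      show ((presCocone F).ι.app P).hom.app _ ((constDesc _ _ _).hom.app _ (constSect _ _ ⟨1⟩)) = 0
      rw [constDesc_sect, zmodSect_one]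
      exact hfσ)
    obtain ⟨Q, e, he⟩ := exists_presObj
      (isConstructible_cokernel r (isConstructible_extZeroConst _ (ZMod n)) (isConstructible_presDiag P))
      (cokernel.desc r _ hr)
    let p : P ⟶ Q := presHom (cokernel.π r ≫ e.hom) (by
      rw [Category.assoc]
      exact (congrArg (_ ≫ ·) he).trans (cokernel.π_desc _ _ _))
    show (EtCoh.stalk (geomPoint x)).map (colimit.ι (presDiag F) P) (germ (geomPoint x) _ U t σ) = 0
    rw [← colimit.w (presDiag F) p, Functor.map_comp, ConcreteCategory.comp_apply]
    refine (congrArg _ ?_).trans (map_zero _)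
    have hgerm : germ (geomPoint x) ((presDiag F).obj P) (openObj V N) v' σ' =
        germ (geomPoint x) _ U t σ := by
      rw [germ_res, Functor.map_comp_apply, hv', hv]
    rw [← hgerm, germ_map]
    refine (congrArg _ ?_).trans (map_zero _)
    show (cokernel.π r ≫ e.hom).hom.app (op (openObj V N)) σ' = 0
    rw [← zmodSect_one σ' h', ← constDesc_sect (openObj V N) (ZMod n) (zmodSect σ' h')]
    show (r ≫ cokernel.π r ≫ e.hom).hom.app (op (openObj V N)) (constSect (openObj V N) (ZMod n) ⟨1⟩) = 0
    rw [← Category.assoc, cokernel.condition, zero_comp]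
    rfl
  have : IsIso θ := isIso_of_mono_of_epi _
  have : IsIso ((colimit.isColimit (presDiag F)).desc (presCocone F)) := ‹IsIso θ›
  exact ⟨IsColimit.ofPointIso (t := presCocone F) (colimit.isColimit (presDiag F))⟩

omit [CompactSpace X] [QuasiSeparatedSpace X] in
/-- Retracts of constructible sheaves are constructible. -/
theorem isConstructible_of_retract {F C : EtCoh.Ab X} (hC : EtPBC.IsConstructible C) (s : F ⟶ C) (p : C ⟶ F)
    (h : s ≫ p = 𝟙 F) : EtPBC.IsConstructible F := by
  let d : C ⟶ C := 𝟙 C - p ≫ s
  have hd : d ≫ p = 0 := by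
    rw [Preadditive.sub_comp, Category.id_comp, Category.assoc, h, Category.comp_id, sub_self]
  have hπ : p ≫ s ≫ cokernel.π d = cokernel.π d := by
    have := cokernel.condition d
    rw [Preadditive.sub_comp, Category.id_comp, sub_eq_zero, Category.assoc] at this
    exact this.symm
  refine isConstructible_of_iso ⟨cokernel.desc d p hd, s ≫ cokernel.π d, ?_, ?_⟩ (isConstructible_cokernel d hC hC)
  · refine (cancel_epi (cokernel.π d)).1 ?_
    rw [cokernel.π_desc_assoc, Category.comp_id, hπ]
  · rw [Category.assoc, cokernel.π_desc, h]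

/-- Compact torsion sheaves are constructible. -/
theorem isConstructible_of_compact {F : EtCoh.Ab X} (hF : EtCoh.IsTorsion F)
    (hc : ∀ (J : Type (u + 1)) [SmallCategory J] [IsFiltered J],
      PreservesColimitsOfShape J (coyoneda.obj (op F))) : EtPBC.IsConstructible F := by
  obtain ⟨hcol⟩ := nonempty_isColimit_presCocone hF
  have := hc (PresCat F)
  obtain ⟨P, s, hs⟩ := Types.jointly_surjective _ (isColimitOfPreserves (coyoneda.obj (op F)) hcol) (𝟙 F)
  exact isConstructible_of_retract (isConstructible_presDiag P) s _ hs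

end Groth.EtaleDeep.Cons
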