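import Groth.Agent.EtaleBase.PullStalk
import Groth.Agent.KTheory.PullModExact
import Groth.Prelude.Def_FixPt
import Mathlib.CategoryTheory.Functor.KanExtension.Preserves
import Mathlib.CategoryTheory.Sites.LocallyBijective
import Mathlib.CategoryTheory.Sites.EpiMono
import Mathlib.Algebra.Homology.ShortComplex.ExactFunctor

/-!
# Inverse image of sheaves of modules and underlying abelian sheaves
-/

set_option autoImplicit false
set_option backward.isDefEq.respectTransparency.types false
set_option linter.style.haveILetI false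

universe u

open CategoryTheory CategoryTheory.Limits AlgebraicGeometry Opposite

namespace Groth.EtaleDeep.Cons

variable (Λ : Type (u + 1)) [CommRing Λ] {X Y : Scheme.{u}}

/-- The forgetful functor to abelian groups. -/
noncomputable abbrev G : ModuleCat.{u + 1} Λ ⥤ AddCommGrpCat.{u + 1} :=
  forget₂ (ModuleCat.{u + 1} Λ) AddCommGrpCat.{u + 1}

/-- Forgetting the module structure. -/
noncomputable abbrev toAb (X : Scheme.{u}) : EtModW.Mod Λ X ⥤ EtCoh.Ab X :=
  sheafCompose X.smallEtaleTopology (G Λ)

theorem W_whiskerRight {P Q : X.Etaleᵒᵖ ⥤ ModuleCat.{u + 1} Λ} (η : P ⟶ Q)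
    (h : X.smallEtaleTopology.W η) :
    X.smallEtaleTopology.W (Functor.whiskerRight η (G Λ)) := by
  obtain ⟨h₁, h₂⟩ := (X.smallEtaleTopology.W_iff_isLocallyBijective η).1 h
  exact (X.smallEtaleTopology.W_iff_isLocallyBijective _).2
    ⟨⟨fun x y e => h₁.equalizerSieve_mem x y e⟩, ⟨fun s => h₂.imageSieve_mem s⟩⟩

instance preservesFiniteLimits_toAb : PreservesFiniteLimits (toAb Λ X) where
  preservesFiniteLimits J _ _ := by
    have : PreservesLimitsOfShape J (sheafToPresheaf X.smallEtaleTopology (ModuleCat.{u + 1} Λ) ⋙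
        (Functor.whiskeringRight _ _ _).obj (G Λ)) := inferInstance
    have : PreservesLimitsOfShape J (toAb Λ X ⋙
        sheafToPresheaf X.smallEtaleTopology AddCommGrpCat.{u + 1}) := this
    exact preservesLimitsOfShape_of_reflects_of_preserves (toAb Λ X)
      (sheafToPresheaf X.smallEtaleTopology AddCommGrpCat.{u + 1})

instance additive_toAb : (toAb Λ X).Additive where
  map_add {F F' f g} := rfl

instance preservesEpimorphisms_toAb : (toAb Λ X).PreservesEpimorphisms where
  preserves {F F'} φ _ := by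
    have h : Sheaf.IsLocallySurjective φ :=
      (Sheaf.isLocallySurjective_iff_epi' (ModuleCat.{u + 1} Λ) φ).2 ‹_›
    exact (Sheaf.isLocallySurjective_iff_epi' AddCommGrpCat.{u + 1} _).1
      ⟨fun s => h.imageSieve_mem s⟩

instance preservesFiniteColimits_toAb : PreservesFiniteColimits (toAb Λ X) := by
  refine (Functor.preservesFiniteColimits_iff_forall_exact_map_and_epi _).2 fun S hS => ?_
  have := hS.epi_g
  exact ⟨((Functor.preservesFiniteLimits_iff_forall_exact_map_and_mono (toAb Λ X)).1
    inferInstance S hS).1, inferInstance⟩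

variable (f : X ⟶ Y)

/-- The comparison `f⁻¹(forget F) → forget(f⁻¹F)`. -/
noncomputable def cmpPull :
    toAb Λ Y ⋙ EtCoh.pull f ⟶ EtModW.pull Λ f ⋙ toAb Λ X where
  app F := ((EtCoh.pullPushAdj f).homEquiv _ _).symm ((toAb Λ Y).map ((FixPt.pullPushAdj (Λ := Λ) f).unit.app F))
  naturality F F' φ := by
    apply ((EtCoh.pullPushAdj f).homEquiv _ _).injective
    dsimp only [Functor.comp_obj, Functor.comp_map]
    rw [Adjunction.homEquiv_naturality_left, Adjunction.homEquiv_naturality_right,
      Equiv.apply_symm_apply, Equiv.apply_symm_apply]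
    refine ((toAb Λ Y).map_comp _ _).symm.trans ?_
    exact ((congrArg (toAb Λ Y).map ((FixPt.pullPushAdj (Λ := Λ) f).unit.naturality φ)).trans
      ((toAb Λ Y).map_comp _ _))

lemma bijective_unitMod (F : EtModW.Mod Λ Y) (H : EtCoh.Ab X) :
    Function.Bijective (fun m : (toAb Λ X).obj ((EtModW.pull Λ f).obj F) ⟶ H =>
      (toAb Λ Y).map ((FixPt.pullPushAdj (Λ := Λ) f).unit.app F) ≫ (EtCoh.push f).map m) := by
  let J := X.smallEtaleTopology
  let e := EtCoh.bc f
  have : PreservesColimitsOfSize.{u, u + 1} (G Λ) := by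
    have : PreservesColimitsOfSize.{u + 1, u + 1, u + 1, u + 1} (G Λ) :=
      ModuleCat.forget₂PreservesColimitsOfSize.{u + 1, u + 1, u + 1, u + 1} Λ
    exact preservesColimitsOfSize_shrink.{u + 1, u + 1, u, u + 1} (G Λ)
  let P := e.op.lan.obj F.obj
  let α : F.obj ⟶ e.op ⋙ P := e.op.lanUnit.app F.obj
  let adj₂ := Functor.sheafPullbackConstruction.sheafAdjunctionContinuous e
    (ModuleCat.{u + 1} Λ) Y.smallEtaleTopology J
  let i := ((FixPt.pullPushAdj (Λ := Λ) f).leftAdjointUniq adj₂).app F
  have hunit : (adj₂.unit.app F).hom = α ≫ Functor.whiskerLeft e.op (toSheafify J P) := by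
    have h := Adjunction.map_restrictFullyFaithful_unit_app
      ((e.op.lanAdjunction (ModuleCat.{u + 1} Λ)).comp
        (sheafificationAdjunction J (ModuleCat.{u + 1} Λ)))
      (fullyFaithfulSheafToPresheaf Y.smallEtaleTopology (ModuleCat.{u + 1} Λ))
      (Functor.FullyFaithful.id _) (L := Functor.sheafPullbackConstruction.sheafPullback
        e (ModuleCat.{u + 1} Λ) Y.smallEtaleTopology J)
      (R := e.sheafPushforwardContinuous (ModuleCat.{u + 1} Λ) Y.smallEtaleTopology J)
      (Iso.refl _) (Iso.refl _) F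
    refine h.trans ?_
    simp [Adjunction.comp_unit_app]
    rfl
  have h1 := Adjunction.unit_leftAdjointUniq_hom_app (FixPt.pullPushAdj (Λ := Λ) f) adj₂ F
  have : Functor.IsLeftKanExtension P α :=
    inferInstanceAs (Functor.IsLeftKanExtension (e.op.leftKanExtension F.obj)
      (e.op.leftKanExtensionUnit F.obj))
  have : (G Λ).PreservesLeftKanExtension F.obj e.op := inferInstance
  have : Functor.IsLeftKanExtension (P ⋙ G Λ)
      (Functor.whiskerRight α (G Λ) ≫ (Functor.associator _ _ _).hom) :=
    Functor.PreservesLeftKanExtension.preserves P α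
  have hW : J.W (Functor.whiskerRight (toSheafify J P) (G Λ)) :=
    W_whiskerRight Λ _ (J.W_toSheafify P)
  let E : ((toAb Λ X).obj ((EtModW.pull Λ f).obj F) ⟶ H) ≃
      ((toAb Λ Y).obj F ⟶ (EtCoh.push f).obj H) :=
    ((((toAb Λ X).mapIso i).homFromEquiv).trans
      (fullyFaithfulSheafToPresheaf J AddCommGrpCat.{u + 1}).homEquiv).trans
      ((hW.homEquiv H.obj H.property).trans
        (((P ⋙ G Λ).homEquivOfIsLeftKanExtension
          (Functor.whiskerRight α (G Λ) ≫ (Functor.associator _ _ _).hom) H.obj).trans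
          ((fullyFaithfulSheafToPresheaf Y.smallEtaleTopology AddCommGrpCat.{u + 1}).homEquiv
            (X := (toAb Λ Y).obj F) (Y := (EtCoh.push f).obj H)).symm))
  convert E.bijective using 1
  funext m
  apply Sheaf.hom_ext
  ext T x
  have h2 := congrArg (fun k => k.hom.app T) h1
  have h3 := congrArg (fun k => k.app T) hunit
  have h4 : ((toSheafify J P).app (e.op.obj T)) (α.app T x) =
      i.hom.hom.app (e.op.obj T) (((FixPt.pullPushAdj (Λ := Λ) f).unit.app F).hom.app T x) :=
    ((ConcreteCategory.congr_hom h2 x).trans (ConcreteCategory.congr_hom h3 x)).symm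
  have h5 : ∀ z, i.inv.hom.app (e.op.obj T) (i.hom.hom.app (e.op.obj T) z) = z := fun z =>
    ConcreteCategory.congr_hom (congrArg (fun k => k.hom.app (e.op.obj T)) i.hom_inv_id) z
  refine Eq.trans ?_ (Eq.symm (congrArg (fun z => m.hom.app (e.op.obj T) z)
    ((congrArg (i.inv.hom.app (e.op.obj T)) h4).trans (h5 _))))
  rfl

/-- Forgetting the module structure commutes with inverse images. -/
theorem isIso_cmpPull (F : EtModW.Mod Λ Y) : IsIso ((cmpPull Λ f).app F) := by
  have hb : ∀ H, Function.Bijective (fun m => (cmpPull Λ f).app F ≫ m :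
      ((toAb Λ X).obj ((EtModW.pull Λ f).obj F) ⟶ H) → _) := fun H => by
    refine (Function.Bijective.of_comp_iff' ((EtCoh.pullPushAdj f).homEquiv _ H).bijective _).1 ?_
    convert bijective_unitMod Λ f F H using 1
    funext m
    change (EtCoh.pullPushAdj f).homEquiv _ H
      (((EtCoh.pullPushAdj f).homEquiv _ _).symm ((toAb Λ Y).map ((FixPt.pullPushAdj (Λ := Λ) f).unit.app F)) ≫ m) = _
    rw [Adjunction.homEquiv_naturality_right, Equiv.apply_symm_apply]
    rfl
  obtain ⟨g, hg⟩ := (hb _).2 (𝟙 _)
  exact ⟨g, hg, (hb _).1 ((Category.assoc _ _ _).symm.trans ((congrArg (· ≫ _) hg).trans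
    ((Category.id_comp _).trans (Category.comp_id _).symm)))⟩

/-- The unit of modules through the comparison. -/
theorem unit_cmpPull (F : EtModW.Mod Λ Y) :
    (EtCoh.pullPushAdj f).unit.app ((toAb Λ Y).obj F) ≫ (EtCoh.push f).map ((cmpPull Λ f).app F) =
      (toAb Λ Y).map ((FixPt.pullPushAdj (Λ := Λ) f).unit.app F) :=
  ((EtCoh.pullPushAdj f).homEquiv_unit _ _ _).symm.trans (Equiv.apply_symm_apply _ _)

end Groth.EtaleDeep.Cons
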