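import Groth.Agent.EtaleBase.LocConstOps
import Groth.Agent.EtaleBase.PushStalkInt
import Groth.Agent.EtaleDeep.Cons.PullMod

/-!
# Inverse images of locally constant abelian sheaves
-/

set_option autoImplicit false
set_option backward.isDefEq.respectTransparency.types false
set_option linter.style.haveILetI false

universe u

open CategoryTheory CategoryTheory.Limits AlgebraicGeometry Opposite

namespace Groth.EtaleDeep.Cons

open Groth.EtaleBase Groth.EtaleBase.LocConst

variable {X Y : Scheme.{u}} (f : X ⟶ Y) {F : EtCoh.Ab Y} {U : Y.Etale} {M : Type (u + 1)} [AddCommGroup M]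

/-- Pulled back trivializing sections are trivializing. -/
theorem stalkBij_pull (s : M →+ F.obj.obj (op U)) (h : StalkBij F U s) :
    StalkBij ((EtCoh.pull f).obj F) ((EtCoh.bc f).obj U)
      (((((EtCoh.pullPushAdj f).unit.app F).hom.app (op U)).hom).comp s) := fun Ω _ _ ξ t' => by
  let t := bcFiberEquiv f ξ U t'
  have ht : pushLift f ξ rfl U t = t' := (bcFiberEquiv f ξ U).symm_apply_apply t'
  have e : (fun a => germ ξ ((EtCoh.pull f).obj F) ((EtCoh.bc f).obj U) t'
        (((((EtCoh.pullPushAdj f).unit.app F).hom.app (op U)).hom).comp s a)) =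
      fun a => (stalkPullIso f ξ).hom.app F (germ (ξ ≫ f) F U t (s a)) := funext fun a => by
    rw [stalkPullIso_germ, ht]
    rfl
  refine (congrArg Function.Bijective e).mpr ?_
  exact ((ConcreteCategory.isIso_iff_bijective ((stalkPullIso f ξ).hom.app F)).1 inferInstance).comp
    (h Ω _ _ (ξ ≫ f) t)

/-- Base change of an object over a point of the image. -/
theorem exists_bc_point (U : Y.Etale) (x : X) (h : ∃ y, U.hom.base y = f.base x) :
    ∃ y, ((EtCoh.bc f).obj U).hom.base y = x := by
  obtain ⟨y, hy⟩ := h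
  obtain ⟨z, -, hz⟩ := Scheme.Pullback.exists_preimage_pullback (f := U.hom) (g := f) y x hy
  exact ⟨z, hz⟩

/-- Inverse images of finite locally constant sheaves. -/
theorem isFLC_pull (hF : EtCoh.IsFiniteLocallyConstant F) :
    EtCoh.IsFiniteLocallyConstant ((EtCoh.pull f).obj F) := by
  rw [isFLC_iff]
  intro x
  obtain ⟨U, hU, M, _, hM, s, hs⟩ := isFLC_iff.1 hF (f.base x)
  exact ⟨_, exists_bc_point f U x hU, M, _, hM, _, stalkBij_pull f s hs⟩

/-- Inverse images of locally constant sheaves. -/
theorem isLC_pull (hF : EtRest.IsLocallyConstant F) :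
    EtRest.IsLocallyConstant ((EtCoh.pull f).obj F) := by
  rw [isLC_iff]
  intro x
  obtain ⟨U, hU, M, _, s, hs⟩ := isLC_iff.1 hF (f.base x)
  exact ⟨_, exists_bc_point f U x hU, M, _, _, stalkBij_pull f s hs⟩

/-- Finite local constancy is invariant under isomorphisms. -/
theorem isFLC_of_iso {F G : EtCoh.Ab X} (e : F ≅ G) (h : EtCoh.IsFiniteLocallyConstant F) :
    EtCoh.IsFiniteLocallyConstant G := by
  rw [isFLC_iff] at h ⊢
  intro x
  obtain ⟨U, hU, M, _, hM, s, hs⟩ := h x
  exact ⟨U, hU, M, _, hM, _, hs.of_iso e⟩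

end Groth.EtaleDeep.Cons
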