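import Groth.Agent.EtaleDeep.Cons.Strata
import Groth.Agent.EtaleDeep.Cons.PullLC
import Groth.Prelude.Def_EtCore
import Groth.Prelude.Def_PBC

/-!
# Constructible abelian sheaves
-/

set_option autoImplicit false
set_option backward.isDefEq.respectTransparency.types false
set_option linter.style.haveILetI false

universe u

open CategoryTheory CategoryTheory.Limits AlgebraicGeometry Opposite

namespace Groth.EtaleDeep.Cons

open Groth.EtaleBase Groth.EtaleBase.LocConst

variable {X Y : Scheme.{u}}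

/-- The property of schemes over `X` on which `F` becomes finite locally constant. -/
def FLCOn (F : EtCoh.Ab X) : ∀ ⦃T : Scheme.{u}⦄, (T ⟶ X) → Prop :=
  fun _ g => ∀ [EtCoh.BCCont g], EtCoh.IsFiniteLocallyConstant ((EtCoh.pull g).obj F)

theorem stable_FLCOn (F : EtCoh.Ab X) : Stable (FLCOn F) := fun T T' h g hg => by
  intro _
  exact isFLC_of_iso ((EtCore.pullComp h g).app F).symm (isFLC_pull h hg)

theorem adaptedStrata_iff (F : EtCoh.Ab X) (S : Set X) :
    EtPBC.AdaptedStrata F S ↔ Adapted (FLCOn F) S :=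
  Iff.rfl

theorem isConstructible_iff (F : EtCoh.Ab X) : EtPBC.IsConstructible F ↔ IsCons (FLCOn F) :=
  Iff.rfl

theorem flcOn_pull_iff (f : X ⟶ Y) (F : EtCoh.Ab Y) ⦃T : Scheme.{u}⦄ (g : T ⟶ X) :
    FLCOn ((EtCoh.pull f).obj F) g ↔ FLCOn F (g ≫ f) :=
  ⟨fun h => by intro _; exact isFLC_of_iso ((EtCore.pullComp g f).app F).symm h,
    fun h => by intro _; exact isFLC_of_iso ((EtCore.pullComp g f).app F) h⟩

theorem isConstructible_pull (f : X ⟶ Y) {F : EtCoh.Ab Y} (hF : EtPBC.IsConstructible F) :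
    EtPBC.IsConstructible ((EtCoh.pull f).obj F) :=
  (isConstructible_iff _).2 <| (IsCons.comp (stable_FLCOn F) f ((isConstructible_iff _).1 hF)).mono fun _ g hg => (flcOn_pull_iff f F g).2 hg

theorem isConstructible_iff_adapted_univ [CompactSpace X] [QuasiSeparatedSpace X] (F : EtCoh.Ab X) :
    EtPBC.IsConstructible F ↔ EtPBC.AdaptedStrata F (Set.univ : Set X) :=
  isCons_iff_adapted_univ (stable_FLCOn F)

theorem isConstructible_of_openCover (F : EtCoh.Ab X) {ι : Type*} (U : ι → X.Opens) (hU : ⨆ i, U i = ⊤)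
    (h : ∀ i, EtPBC.IsConstructible ((EtCoh.pull (U i).ι).obj F)) : EtPBC.IsConstructible F :=
  (isConstructible_iff _).2 <| isCons_of_openCover (stable_FLCOn F) U hU fun i =>
    IsCons.mono ((isConstructible_iff _).1 (h i)) fun _ g hg => (flcOn_pull_iff (U i).ι F g).1 hg

theorem isConstructible_of_immersions [CompactSpace X] [QuasiSeparatedSpace X] (F : EtCoh.Ab X)
    {ι : Type*} (T : ι → Scheme.{u}) (g : ∀ i, T i ⟶ X) [∀ i, IsImmersion (g i)]
    (hc : ∀ i, Topology.IsConstructible (Set.range (g i))) (hcov : (⋃ i, Set.range (g i)) = Set.univ)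
    (h : ∀ i, EtPBC.IsConstructible ((EtCoh.pull (g i)).obj F)) : EtPBC.IsConstructible F :=
  (isConstructible_iff _).2 <| isCons_of_immersions (stable_FLCOn F) T g hc hcov fun i =>
    IsCons.mono ((isConstructible_iff _).1 (h i)) fun _ k hk => (flcOn_pull_iff (g i) F k).1 hk

theorem isConstructible_of_iso {F G : EtCoh.Ab X} (e : F ≅ G) (hF : EtPBC.IsConstructible F) :
    EtPBC.IsConstructible G :=
  (isConstructible_iff _).2 <| IsCons.mono ((isConstructible_iff _).1 hF) fun _ g hg => by intro _; exact isFLC_of_iso ((EtCoh.pull g).mapIso e) hg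

theorem isConstructible_kernel {F G : EtCoh.Ab X} (φ : F ⟶ G) (hF : EtPBC.IsConstructible F)
    (hG : EtPBC.IsConstructible G) : EtPBC.IsConstructible (kernel φ) :=
  (isConstructible_iff _).2 <| (IsCons.inter (stable_FLCOn F) (stable_FLCOn G) ((isConstructible_iff _).1 hF) ((isConstructible_iff _).1 hG)).mono fun _ g hg => by
    intro _
    exact isFLC_of_iso (PreservesKernel.iso (EtCoh.pull g) φ).symm (isFLC_kernel _ hg.1 hg.2)

theorem isConstructible_cokernel {F G : EtCoh.Ab X} (φ : F ⟶ G) (hF : EtPBC.IsConstructible F)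
    (hG : EtPBC.IsConstructible G) : EtPBC.IsConstructible (cokernel φ) :=
  (isConstructible_iff _).2 <| (IsCons.inter (stable_FLCOn F) (stable_FLCOn G) ((isConstructible_iff _).1 hF) ((isConstructible_iff _).1 hG)).mono fun _ g hg => by
    intro _
    exact isFLC_of_iso (PreservesCokernel.iso (EtCoh.pull g) φ).symm (isFLC_cokernel _ hg.1 hg.2)

theorem isConstructible_extension {S : ShortComplex (EtCoh.Ab X)} (hS : S.ShortExact)
    (h1 : EtPBC.IsConstructible S.X₁) (h3 : EtPBC.IsConstructible S.X₃) :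
    EtPBC.IsConstructible S.X₂ :=
  (isConstructible_iff _).2 <| (IsCons.inter (stable_FLCOn S.X₁) (stable_FLCOn S.X₃) ((isConstructible_iff _).1 h1) ((isConstructible_iff _).1 h3)).mono fun _ g hg => by
    intro _
    exact isFLC_extension (S.map (EtCoh.pull g)) (hS.map_of_exact (EtCoh.pull g)) hg.1 hg.2

end Groth.EtaleDeep.Cons
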