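import Groth.Agent.EtaleDeep.Cons.SpecTransfer
import Groth.Agent.EtaleDeep.Cons.Ab
import Groth.Agent.EGA41Two.LocalCons

/-!
# Loci defined by stalks of constructible abelian sheaves

For a constructible abelian sheaf, stalk conditions and bijectivity of sections on stalks cut out
constructible sets.
-/

set_option autoImplicit false
set_option backward.isDefEq.respectTransparency.types false
set_option linter.style.haveILetI false

universe u

open CategoryTheory CategoryTheory.Limits AlgebraicGeometry Opposite Topology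

namespace Groth.EtaleDeep.Cons

open Groth.EtaleBase Groth.EtaleBase.LocConst Groth.EtaleBase.SitePt Groth.SpectralTopology

/-- A set is constructible if it is locally constant on the members of a finite constructible cover. -/
theorem isConstructible_of_cover {N : Type*} [TopologicalSpace N] [SpectralSpace N] {ι : Type*} [Finite ι]
    (C : ι → Set N) (hC : ∀ i, IsConstructible (C i)) (hcov : ∀ p, ∃ i, p ∈ C i) {S : Set N}
    (h : ∀ i, ∀ p ∈ C i, ∃ O : Set N, IsOpen O ∧ p ∈ O ∧ ∀ q ∈ O, q ∈ C i → (q ∈ S ↔ p ∈ S)) :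
    IsConstructible S := by
  have hop : ∀ T : Set N, (∀ i, ∀ p ∈ C i, p ∈ T → ∃ O : Set N, IsOpen O ∧ p ∈ O ∧ O ∩ C i ⊆ T) →
      IsOpen[constructibleTopology N] T := fun T hT => by
    refine (@isOpen_iff_forall_mem_open N (constructibleTopology N) T).2 fun p hp => ?_
    obtain ⟨i, hi⟩ := hcov p
    obtain ⟨O, hO, hpO, hOT⟩ := hT i p hi hp
    exact ⟨O ∩ C i, hOT, @IsOpen.inter N (constructibleTopology N) _ _ (constructibleTopology_le _ hO)
      (isClopen_ct_of_isConstructible (hC i)).2, hpO, hi⟩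
  refine Groth.EGA41Two.isConstructible_of_isClopen_ct
    ⟨(@isOpen_compl_iff N S (constructibleTopology N)).1 (hop _ fun i p hi hp => ?_),
      hop _ fun i p hi hp => ?_⟩
  · obtain ⟨O, hO, hpO, hOS⟩ := h i p hi
    exact ⟨O, hO, hpO, fun q hq hqS => hp ((hOS q hq.1 hq.2).1 hqS)⟩
  · obtain ⟨O, hO, hpO, hOS⟩ := h i p hi
    exact ⟨O, hO, hpO, fun q hq => (hOS q hq.1 hq.2).2 hp⟩

/-- A constructible set containing all generizations of a point is a neighbourhood of it. -/
theorem mem_nhds_of_generizations {N : Type*} [TopologicalSpace N] [SpectralSpace N] {S : Set N}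
    (hS : IsConstructible S) {w : N} (h : ∀ z, z ⤳ w → z ∈ S) : S ∈ 𝓝 w := by
  let ι := {O : Set N // IsOpen O ∧ IsCompact O ∧ w ∈ O}
  obtain ⟨t, ht⟩ := @IsCompact.elim_finite_subfamily_closed N (constructibleTopology N) _ ι
    (isCompact_ct_of_isClosed_ct (isClopen_ct_of_isConstructible hS.compl).1) (fun O => O.1)
    (fun O => isClosed_ct O.2.1 O.2.2.1) (by
      refine Set.eq_empty_iff_forall_notMem.2 fun z ⟨hz, hzO⟩ => hz (h z ?_)
      rw [specializes_iff_forall_open]
      intro s hs hws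
      obtain ⟨K, ⟨hKo, hKc⟩, hwK, hKs⟩ :=
        (PrespectralSpace.isTopologicalBasis (X := N)).exists_subset_of_mem_open hws hs
      exact hKs (Set.mem_iInter.1 hzO ⟨K, hKo, hKc, hwK⟩))
  refine Filter.mem_of_superset ((isOpen_biInter_finset (s := t) (f := fun O : ι => O.1) fun O _ => O.2.1).mem_nhds
    (Set.mem_iInter₂.2 fun O (_ : O ∈ t) => O.2.2.2)) fun z hz => ?_
  by_contra hzS
  exact Set.eq_empty_iff_forall_notMem.1 ht z ⟨hzS, hz⟩

variable {X : Scheme.{u}}

/-- Specialization maps on germs. -/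
theorem sheafFiber_germ {Ω Ω' : Type u} [Field Ω] [IsSepClosed Ω] [Field Ω'] [IsSepClosed Ω']
    {η : Spec (CommRingCat.of Ω) ⟶ X} {ξ : Spec (CommRingCat.of Ω') ⟶ X}
    (φ : Scheme.pointSmallEtale η ⟶ Scheme.pointSmallEtale ξ) (F : EtCoh.Ab X) (U : X.Etale)
    (w : (Scheme.pointSmallEtale ξ).fiber.obj U) (σ : F.obj.obj (op U)) :
    (GrothendieckTopology.Point.Hom.sheafFiber (A := AddCommGrpCat.{u + 1}) φ).app F (germ ξ F U w σ) =
      germ η F U (φ.hom.app U w) σ :=
  ConcreteCategory.congr_hom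
    ((Scheme.pointSmallEtale ξ).toPresheafFiber_presheafFiberDesc (P := F.obj)
      (fun V x => (Scheme.pointSmallEtale η).toPresheafFiber V (φ.hom.app V x) F.obj)
      (fun V V' g x => by
        rw [GrothendieckTopology.Point.toPresheafFiber_w, NatTrans.naturality_apply φ.hom g x]) U w) σ

/-- Germs are compatible with inverse images. -/
theorem stalkPullIso_germ_unit {T : Scheme.{u}} (g : T ⟶ X) (F : EtCoh.Ab X) {Ω : Type u} [Field Ω]
    [IsSepClosed Ω] (ξ : Spec (CommRingCat.of Ω) ⟶ T) (U : X.Etale)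
    (t : (Scheme.pointSmallEtale (ξ ≫ g)).fiber.obj U) (σ : F.obj.obj (op U)) :
    (stalkPullIso g ξ).hom.app F (germ (ξ ≫ g) F U t σ) =
      germ ξ ((EtCoh.pull g).obj F) ((EtCoh.bc g).obj U) (pushLift g ξ rfl U t)
        (((EtCoh.pullPushAdj g).unit.app F).hom.app (op U) σ) :=
  stalkPullIso_germ g ξ F U t σ

/-- Finitely many stalk elements forming a group come from a homomorphism into sections. -/
theorem exists_section (F : EtCoh.Ab X) {Ω : Type u} [Field Ω] [IsSepClosed Ω]
    (ξ : Spec (CommRingCat.of Ω) ⟶ X) [Finite ((EtCoh.stalk ξ).obj F)] :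
    ∃ (W : X.Etale) (w : (Scheme.pointSmallEtale ξ).fiber.obj W) (M : Type) (_ : AddCommGroup M)
      (_ : Finite M) (s : ULift.{u + 1} M →+ F.obj.obj (op W)),
      Function.Bijective fun a => germ ξ F W w (s a) := by
  obtain ⟨n, ⟨e₀⟩⟩ := Finite.exists_equiv_fin ((EtCoh.stalk ξ).obj F)
  -- a copy of the stalk in `Type`, without an addition of its own
  let M : Type := {i : Fin n // True}
  let e : (EtCoh.stalk ξ).obj F ≃ M := e₀.trans (Equiv.subtypeUnivEquiv fun _ => trivial).symm
  letI : AddCommGroup M := e.symm.addCommGroup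
  let e' : ULift.{u + 1} M →+ (EtCoh.stalk ξ).obj F := AddMonoidHom.mk' (fun a => e.symm a.down)
    fun a b => by
      show e.symm (e (e.symm a.down + e.symm b.down)) = _
      exact e.symm_apply_apply _
  obtain ⟨t₀, -⟩ := exists_fiber_of_point ξ (EtCoh.top X) (ξ.base default) rfl
  obtain ⟨W, -, w, σ, -, hσ⟩ := exists_common_rep ξ (F := F) (EtCoh.top X) t₀ (fun a => e' a)
  have h : ∀ p : ULift.{u + 1} M × ULift.{u + 1} M,
      germ ξ F W w (σ (p.1 + p.2)) = germ ξ F W w (σ p.1 + σ p.2) := fun p => by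
    rw [map_add, hσ, hσ, hσ]
    exact e'.map_add p.1 p.2
  obtain ⟨W', g, w', hw', hg⟩ := exists_common_eq ξ (F := F) W w _ _ h
  refine ⟨W', w', M, inferInstance, inferInstance,
    AddMonoidHom.mk' (fun a => F.obj.map g.op (σ a)) (fun a b => (hg (a, b)).trans (map_add _ _ _)), ?_⟩
  have : (fun a => germ ξ F W' w' (F.obj.map g.op (σ a))) = e' := funext fun a => by
    rw [germ_res, hw', hσ]
  exact this ▸ (show Function.Bijective e' from e.symm.bijective.comp Equiv.ulift.bijective)

/-- For a finite locally constant sheaf, bijectivity of sections on stalks is locally constant. -/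
theorem exists_nhd_bij_const {G : EtCoh.Ab X} (hG : EtCoh.IsFiniteLocallyConstant G) (W : X.Etale)
    {M : Type (u + 1)} [AddCommGroup M] [Finite M] (s : M →+ G.obj.obj (op W)) (z : W.left) :
    ∃ (O : Set W.left) (p : Prop), IsOpen O ∧ z ∈ O ∧
      ∀ (Ω : Type u) [Field Ω] [IsSepClosed Ω] (ξ : Spec (CommRingCat.of Ω) ⟶ X)
        (t : (Scheme.pointSmallEtale ξ).fiber.obj W), fiberPoint ξ t ∈ O →
          (Function.Bijective (fun a => germ ξ G W t (s a)) ↔ p) := by
  let ξ := geomPoint (W.hom.base z)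
  obtain ⟨t, ht⟩ := exists_geomPoint_lift W z
  obtain ⟨U, ⟨y, hy⟩, N, _, _, r, hr⟩ := isFLC_iff.1 hG (W.hom.base z)
  obtain ⟨tU, -⟩ := exists_fiber_of_point ξ U y (hy.trans (geomPoint_apply _ _).symm)
  obtain ⟨V, p, q, v, hpv, -⟩ := exists_common ξ W U t tU
  have hr' := hr.res q
  choose b hb using fun a => (hr' _ _ _ ξ v).2 (germ ξ G V v (G.obj.map p.op (s a)))
  obtain ⟨V', g, v', hv', hg⟩ := exists_common_eq ξ (F := G) V v
    (fun a => res q r (b a)) (fun a => G.obj.map p.op (s a)) hb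
  refine ⟨Set.range (g ≫ p).left.base, Function.Bijective b, (isOpenMap_left _).isOpen_range,
    ⟨fiberPoint ξ v', ?_⟩, fun Ω _ _ ξ' t' ht' => ?_⟩
  · rw [← fiberPoint_map, Functor.map_comp_apply, hv', hpv]
    exact ht
  · obtain ⟨u, hu⟩ := ht'
    obtain ⟨v'', hv'', -⟩ := exists_fiber_lift ξ' (g ≫ p) t' u hu
    have hB := (hr'.res g) _ _ _ ξ' v''
    have : (fun a => germ ξ' G W t' (s a)) =
        (fun c => germ ξ' G V' v'' (res g (res q r) c)) ∘ b := funext fun a => by
      show germ ξ' G W t' (s a) = germ ξ' G V' v'' (G.obj.map g.op (res q r (b a)))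
      rw [hg a, ← hv'', ← germ_res, op_comp, Functor.map_comp_apply]
    rw [this]
    exact hB.of_comp_iff' b

/-- On a stratum, bijectivity of sections on stalks is locally constant. -/
theorem exists_nhd_bij_const_of_immersion {F : EtCoh.Ab X} {T : Scheme.{u}} (g : T ⟶ X) [IsImmersion g]
    (hF : EtCoh.IsFiniteLocallyConstant ((EtCoh.pull g).obj F)) (W : X.Etale)
    {M : Type (u + 1)} [AddCommGroup M] [Finite M] (s : M →+ F.obj.obj (op W)) (z : W.left)
    (hz : W.hom.base z ∈ Set.range g) :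
    ∃ (O : Set W.left) (p : Prop), IsOpen O ∧ z ∈ O ∧
      ∀ (Ω : Type u) [Field Ω] [IsSepClosed Ω] (ξ : Spec (CommRingCat.of Ω) ⟶ X)
        (t : (Scheme.pointSmallEtale ξ).fiber.obj W), fiberPoint ξ t ∈ O →
          ξ.base default ∈ Set.range g →
          (Function.Bijective (fun a => germ ξ F W t (s a)) ↔ p) := by
  obtain ⟨x, hx⟩ := hz
  obtain ⟨z', hz', -⟩ := Scheme.Pullback.exists_preimage_pullback (f := W.hom) (g := g) z x hx.symm
  obtain ⟨O', p, hO', hzO', hp⟩ := exists_nhd_bij_const hF ((EtCoh.bc g).obj W)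
    ((((EtCoh.pullPushAdj g).unit.app F).hom.app (op W)).hom.comp s) z'
  have : IsImmersion (pullback.fst W.hom g) := MorphismProperty.pullback_fst _ _ inferInstance
  obtain ⟨O, hO, hOO'⟩ := (pullback.fst W.hom g).isEmbedding.isInducing.isOpen_iff.1 hO'
  refine ⟨O, p, hO, ?_, fun Ω _ _ ξ t ht hξ => ?_⟩
  · rw [← hz']
    exact hOO'.ge hzO'
  · obtain ⟨ξ', rfl⟩ := exists_lift_immersion ξ g hξ
    have e1 : (pullback.fst W.hom g).base (fiberPoint ξ' (pushLift g ξ' rfl W t)) = fiberPoint (ξ' ≫ g) t :=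
      congrArg (fun m : Spec (CommRingCat.of Ω) ⟶ W.left => m.base default)
        (pushLift_fst g ξ' rfl W t)
    refine Iff.trans ?_ (hp Ω ξ' (pushLift g ξ' rfl W t) (hOO'.le ?_))
    · have hb : Function.Bijective ((stalkPullIso g ξ').hom.app F) :=
        (ConcreteCategory.isIso_iff_bijective ((stalkPullIso g ξ').hom.app F)).1 inferInstance
      refine (hb.of_comp_iff' _).symm.trans (Eq.to_iff (congrArg Function.Bijective (funext fun a => ?_)))
      exact stalkPullIso_germ_unit g F ξ' W t (s a)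
    · show (pullback.fst W.hom g).base _ ∈ O
      rw [e1]
      exact ht

/-- On a stratum, stalks are locally constant. -/
theorem exists_nhd_stalk_const_of_immersion {F : EtCoh.Ab X} {T : Scheme.{u}} (g : T ⟶ X) [IsImmersion g]
    (hF : EtCoh.IsFiniteLocallyConstant ((EtCoh.pull g).obj F)) (x : X) (hx : x ∈ Set.range g) :
    ∃ (O : Set X) (M : Type) (_ : AddCommGroup M) (_ : Finite M), IsOpen O ∧ x ∈ O ∧
      ∀ (Ω : Type u) [Field Ω] [IsSepClosed Ω] (ξ : Spec (CommRingCat.of Ω) ⟶ X),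
        ξ.base default ∈ O → ξ.base default ∈ Set.range g →
          Nonempty (ULift.{u + 1} M ≃+ (EtCoh.stalk ξ).obj F) := by
  obtain ⟨x', rfl⟩ := hx
  obtain ⟨U, ⟨y, hy⟩, M, hMg, hM, r, hr⟩ := isFLC_iff.1 hF x'
  obtain ⟨O, hO, hOU⟩ := g.isEmbedding.isInducing.isOpen_iff.1 (isOpenMap_hom U).isOpen_range
  refine ⟨O, M, hMg, hM, hO, hOU.ge ⟨y, hy⟩, fun Ω _ _ ξ hξO hξ => ?_⟩
  obtain ⟨ξ', rfl⟩ := exists_lift_immersion ξ g hξ
  obtain ⟨u, hu⟩ : ξ'.base default ∈ Set.range U.hom.base := hOU.le hξO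
  obtain ⟨t, -⟩ := exists_fiber_of_point ξ' U u hu
  let e : (EtCoh.stalk (ξ' ≫ g)).obj F ≅ (EtCoh.stalk ξ').obj ((EtCoh.pull g).obj F) :=
    (stalkPullIso g ξ').app F
  exact ⟨(AddEquiv.ofBijective (((Scheme.pointSmallEtale ξ').toPresheafFiber U t
    ((EtCoh.pull g).obj F).obj).hom.comp r) (hr _ _ _ ξ' t)).trans e.addCommGroupIsoToAddEquiv.symm⟩

/-- The stalks of a constructible sheaf at geometric points over the same point are isomorphic. -/
theorem exists_stalk_equiv {F : EtCoh.Ab X} (hF : EtPBC.IsConstructible F) (x : X) :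
    ∃ (M : Type) (_ : AddCommGroup M) (_ : Finite M),
      ∀ (Ω : Type u) [Field Ω] [IsSepClosed Ω] (ξ : Spec (CommRingCat.of Ω) ⟶ X),
        ξ.base default = x → Nonempty (ULift.{u + 1} M ≃+ (EtCoh.stalk ξ).obj F) := by
  obtain ⟨U, hU, hxU, -⟩ := exists_isAffineOpen_mem_and_subset (U := ⊤) (Set.mem_univ x)
  obtain ⟨n, T, g, hg, -, -, hu, hFT⟩ := (isConstructible_iff F).1 hF U hU
  obtain ⟨i, hi⟩ := Set.mem_iUnion.1 (hu.ge hxU)
  have := hg i
  obtain ⟨O, M, _, hM, -, hxO, h⟩ := exists_nhd_stalk_const_of_immersion (g i) (hFT i) x hi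
  exact ⟨M, _, hM, fun Ω _ _ ξ hξ => h Ω ξ (hξ.symm ▸ hxO) (hξ.symm ▸ hi)⟩

/-- Stalk conditions on a constructible sheaf cut out locally constructible sets. -/
theorem isLocallyConstructible_stalk {F : EtCoh.Ab X} (hF : EtPBC.IsConstructible F)
    (P : AddCommGrpCat.{u + 1} → Prop) (hP : ∀ A B : AddCommGrpCat.{u + 1}, (A ≅ B) → P A → P B) :
    IsLocallyConstructible {x : X | P ((EtCoh.stalk (geomPoint x)).obj F)} := by
  intro x
  obtain ⟨U, hU, hxU, -⟩ := exists_isAffineOpen_mem_and_subset (U := ⊤) (Set.mem_univ x)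
  obtain ⟨n, T, g, hg, hc, -, hu, hFT⟩ := (isConstructible_iff F).1 hF U hU
  have := Groth.EGA41Two.spectralSpace_affine U hU
  refine ⟨U, U.2.mem_nhds hxU, U.2, isConstructible_of_cover _ hc (fun p => ?_) fun i p hp => ?_⟩
  · exact (Set.mem_iUnion (s := fun i => Set.range (g i))).1 (hu.ge p.2)
  · have := hg i
    obtain ⟨O, M, _, -, hO, hpO, h⟩ := exists_nhd_stalk_const_of_immersion (g i) (hFT i) p.1 hp
    refine ⟨Subtype.val ⁻¹' O, hO.preimage continuous_subtype_val, hpO, fun q hq hqi => ?_⟩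
    obtain ⟨e⟩ := h _ (geomPoint p.1) (by rw [geomPoint_apply]; exact hpO)
      (by rw [geomPoint_apply]; exact hp)
    obtain ⟨e'⟩ := h _ (geomPoint q.1) (by rw [geomPoint_apply]; exact hq)
      (by rw [geomPoint_apply]; exact hqi)
    exact ⟨hP _ _ (e'.symm.trans e).toAddCommGrpIso, hP _ _ (e.symm.trans e').toAddCommGrpIso⟩

/-- The points of an etale chart over which given sections are bijective on stalks. -/
def bijLocus (F : EtCoh.Ab X) (W : X.Etale) {M : Type (u + 1)} [AddCommGroup M]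
    (s : M →+ F.obj.obj (op W)) : Set W.left :=
  {z | ∀ (Ω : Type u) [Field Ω] [IsSepClosed Ω] (ξ : Spec (CommRingCat.of Ω) ⟶ X)
    (t : (Scheme.pointSmallEtale ξ).fiber.obj W), fiberPoint ξ t = z →
      Function.Bijective fun a => germ ξ F W t (s a)}

/-- Bijectivity loci of sections of constructible sheaves are constructible. -/
theorem isConstructible_bijLocus {F : EtCoh.Ab X} (hF : EtPBC.IsConstructible F) {U : X.Opens}
    (hU : IsAffineOpen U) (W : X.Etale) {M : Type (u + 1)} [AddCommGroup M] [Finite M]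
    (s : M →+ F.obj.obj (op W)) {N : W.left.Opens} (hN : IsAffineOpen N) (hNU : N ≤ W.hom ⁻¹ᵁ U) :
    IsConstructible (Subtype.val ⁻¹' bijLocus F W s : Set (N : Set W.left)) := by
  obtain ⟨n, T, g, hg, hc, -, hu, hFT⟩ := (isConstructible_iff F).1 hF U hU
  have := Groth.EGA41Two.spectralSpace_affine N hN
  have := Groth.EGA41Two.spectralSpace_affine U hU
  let r := Set.MapsTo.restrict W.hom.base (N : Set W.left) (U : Set X) hNU
  refine isConstructible_of_cover (fun i => r ⁻¹' (Subtype.val ⁻¹' Set.range (g i))) (fun i => ?_)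
    (fun p => (Set.mem_iUnion (s := fun i => Set.range (g i))).1 (hu.ge (r p).2)) fun i p hp => ?_
  · exact Groth.EGA41Two.isConstructible_of_isClopen_ct
      (@IsClopen.preimage _ _ (constructibleTopology (N : Set W.left)) (constructibleTopology (U : Set X)) _
        (isClopen_ct_of_isConstructible (hc i)) _
        (continuous_ct (Groth.EGA41Two.isSpectralMap_restrict W.hom hU hN hNU)))
  · have := hg i
    obtain ⟨O, P, hO, hpO, h⟩ := exists_nhd_bij_const_of_immersion (g i) (hFT i) W s p.1 hp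
    have key : ∀ q : (N : Set W.left), q.1 ∈ O → W.hom.base q.1 ∈ Set.range (g i) →
        (q.1 ∈ bijLocus F W s ↔ P) := by
      intro q hq hqi
      obtain ⟨t, ht⟩ := exists_geomPoint_lift W q.1
      have ht' : fiberPoint (geomPoint (W.hom.base q.1)) t = q.1 := ht
      constructor
      · intro hb
        exact (h _ _ t (ht'.symm ▸ hq) (by rw [geomPoint_apply]; exact hqi)).1 (hb _ _ t ht')
      · intro hP Ω _ _ ξ t' ht''
        refine (h _ ξ t' (ht''.symm ▸ hq) ?_).2 hP
        rw [← hom_fiberPoint ξ t', ht'']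
        exact hqi
    exact ⟨Subtype.val ⁻¹' O, hO.preimage continuous_subtype_val, hpO,
      fun q hq hqi => (key q hq hqi).trans (key p hpO hp).symm⟩

end Groth.EtaleDeep.Cons
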