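import Groth.Agent.EtaleDeep.Cons.AbSpec
import Groth.Agent.SpectralTopology.Constructible

/-!
# Criteria for constructibility of abelian sheaves on locally Noetherian schemes
-/

set_option autoImplicit false
set_option backward.isDefEq.respectTransparency.types false
set_option linter.style.haveILetI false

universe u

open CategoryTheory CategoryTheory.Limits AlgebraicGeometry Opposite Topology TopologicalSpace

namespace Groth.EtaleDeep.Cons

open Groth.EtaleBase Groth.EtaleBase.LocConst Groth.EtaleBase.SitePt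

variable {X : Scheme.{u}}

/-- Specialization maps commute with inverse images. -/
theorem sheafFiber_pull {T : Scheme.{u}} (g : T ⟶ X) {Ω Ω' : Type u} [Field Ω] [IsSepClosed Ω] [Field Ω']
    [IsSepClosed Ω'] {η : Spec (CommRingCat.of Ω) ⟶ T} {ξ : Spec (CommRingCat.of Ω') ⟶ T}
    (ψ : Scheme.pointSmallEtale η ⟶ Scheme.pointSmallEtale ξ) (F : EtCoh.Ab X)
    (z : (EtCoh.stalk (ξ ≫ g)).obj F) :
    (stalkPullIso g η).hom.app F
        ((GrothendieckTopology.Point.Hom.sheafFiber (A := AddCommGrpCat.{u + 1}) (mapPointHom g ψ)).app F z) =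
      (GrothendieckTopology.Point.Hom.sheafFiber (A := AddCommGrpCat.{u + 1}) ψ).app ((EtCoh.pull g).obj F)
        ((stalkPullIso g ξ).hom.app F z) := by
  obtain ⟨U, t, σ, rfl⟩ := germ_surjective (ξ ≫ g) F z
  have e2 : pushLift g η rfl U ((mapPointHom g ψ).hom.app U t) =
      ψ.hom.app ((EtCoh.bc g).obj U) (pushLift g ξ rfl U t) :=
    (bcFiberEquiv g η U).symm_apply_apply _
  rw [sheafFiber_germ, stalkPullIso_germ_unit, stalkPullIso_germ_unit, sheafFiber_germ, e2]

/-- Stalks of an inverse image. -/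
theorem finite_stalk_pull {T : Scheme.{u}} (g : T ⟶ X) (F : EtCoh.Ab X) {Ω : Type u} [Field Ω]
    [IsSepClosed Ω] (ξ : Spec (CommRingCat.of Ω) ⟶ T) [Finite ((EtCoh.stalk (ξ ≫ g)).obj F)] :
    Finite ((EtCoh.stalk ξ).obj ((EtCoh.pull g).obj F)) :=
  Finite.of_equiv ((EtCoh.stalk (ξ ≫ g)).obj F)
    ((stalkPullIso g ξ).app F).addCommGroupIsoToAddEquiv.toEquiv

/-- Constructibility from local constancy near generic points of integral immersed subschemes. -/
theorem isConstructible_of_generic [IsLocallyNoetherian X] {F : EtCoh.Ab X}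
    (h : ∀ ⦃T : Scheme.{u}⦄ (g : T ⟶ X) [IsImmersion g] [IsLocallyNoetherian T] [IrreducibleSpace T]
      [IsReduced T], ∃ V : T.Opens, genericPoint T ∈ V ∧
        EtCoh.IsFiniteLocallyConstant ((EtCoh.pull V.ι).obj ((EtCoh.pull g).obj F))) :
    EtPBC.IsConstructible F := by
  refine isConstructible_of_openCover F (fun U : X.affineOpens => U.1) (iSup_affineOpens_eq_top X) fun U => ?_
  have : IsAffine (U.1 : Scheme.{u}) := U.2
  have : AlgebraicGeometry.IsNoetherian (U.1 : Scheme.{u}) := {}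
  refine (isConstructible_iff _).2 (isCons_of_generic (stable_FLCOn _) fun T g _ _ _ _ => ?_)
  obtain ⟨V, hV, hVF⟩ := h (g ≫ U.1.ι)
  refine ⟨V, hV, (flcOn_pull_iff g ((EtCoh.pull U.1.ι).obj F) V.ι).1 ?_⟩
  intro _
  exact isFLC_of_iso ((EtCoh.pull V.ι).mapIso ((EtCore.pullComp g U.1.ι).app F)) hVF

/-- Finite stalks and injective specialization maps give constructibility. -/
theorem isConstructible_of_mono_spec [IsLocallyNoetherian X] (F : EtCoh.Ab X)
    (hfin : ∀ (Ω : Type u) [Field Ω] [IsSepClosed Ω] (ξ : Spec (CommRingCat.of Ω) ⟶ X),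
      Finite ((EtCoh.stalk ξ).obj F))
    (hmono : ∀ (Ω Ω' : Type u) [Field Ω] [IsSepClosed Ω] [Field Ω'] [IsSepClosed Ω']
        (ξ : Spec (CommRingCat.of Ω) ⟶ X) (ξ' : Spec (CommRingCat.of Ω') ⟶ X)
        (φ : Scheme.pointSmallEtale ξ' ⟶ Scheme.pointSmallEtale ξ),
        Function.Injective ((GrothendieckTopology.Point.Hom.sheafFiber (A := AddCommGrpCat.{u + 1}) φ).app F)) :
    EtPBC.IsConstructible F :=
  isConstructible_of_generic fun T g _ _ _ _ => by
    have := hfin _ (geomPoint (genericPoint T) ≫ g)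
    have := finite_stalk_pull g F (geomPoint (genericPoint T))
    refine exists_open_isFLC_of_mono fun Ω _ _ ξ θ a b hab => ?_
    have ha : Function.Bijective ((stalkPullIso g ξ).hom.app F) :=
      (ConcreteCategory.isIso_iff_bijective ((stalkPullIso g ξ).hom.app F)).1 inferInstance
    obtain ⟨a, rfl⟩ := ha.2 a
    obtain ⟨b, rfl⟩ := ha.2 b
    rw [← sheafFiber_pull, ← sheafFiber_pull] at hab
    exact congrArg _ (hmono _ _ _ _ (mapPointHom g θ)
      (((ConcreteCategory.isIso_iff_bijective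
        ((stalkPullIso g (geomPoint (genericPoint T))).hom.app F)).1 inferInstance).1 hab))

/-- Near the generic point of an irreducible space, a locally constructible condition is constant. -/
theorem exists_open_of_locallyConstructible {T : Type*} {Y : Type*} [TopologicalSpace T]
    [TopologicalSpace Y] {η : T} (hη : IsGenericPoint η (Set.univ : Set T)) {f : T → Y} (hf : Continuous f)
    {L : Set Y} (hL : IsLocallyConstructible L) :
    ∃ V : Set T, IsOpen V ∧ η ∈ V ∧ ∀ t ∈ V, (f t ∈ L ↔ f η ∈ L) := by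
  classical
  obtain ⟨U, hU, hUo, hC⟩ := hL (f η)
  obtain ⟨𝒰, h𝒰, hpat⟩ := exists_finset_pattern hC
  have hop : ∀ W : Set U, IsOpen W → IsOpen (f ⁻¹' (Subtype.val '' W)) := fun W hW =>
    (hUo.isOpenEmbedding_subtypeVal.isOpenMap _ hW).preimage hf
  let ηU : U := ⟨f η, mem_of_mem_nhds hU⟩
  refine ⟨f ⁻¹' U ∩ ⋂ W ∈ 𝒰.filter (ηU ∈ ·), f ⁻¹' (Subtype.val '' W),
    (hUo.preimage hf).inter (isOpen_biInter_finset fun W hW => hop W (h𝒰 W (Finset.mem_filter.1 hW).1).1),
    ⟨ηU.2, Set.mem_iInter₂.2 fun W hW => ⟨ηU, (Finset.mem_filter.1 hW).2, rfl⟩⟩, fun t ht => ?_⟩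
  refine hpat ⟨f t, ht.1⟩ ηU fun W hW => ⟨fun htW => ?_, fun hηW => ?_⟩
  · have : η ∈ f ⁻¹' (Subtype.val '' W) :=
      ((hη.specializes (Set.mem_univ t)).mem_open (hop W (h𝒰 W hW).1) ⟨_, htW, rfl⟩)
    obtain ⟨y, hy, hyη⟩ := this
    exact (show y = ηU from Subtype.ext hyη) ▸ hy
  · obtain ⟨y, hy, hyt⟩ := Set.mem_iInter₂.1 ht.2 W (Finset.mem_filter.2 ⟨hW, hηW⟩)
    exact (show y = (⟨f t, ht.1⟩ : U) from Subtype.ext hyt) ▸ hy

/-- Finite stalks with locally constructible loci of given order give constructibility. -/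
theorem isConstructible_of_card [IsLocallyNoetherian X] (F : EtCoh.Ab X)
    (hfin : ∀ (Ω : Type u) [Field Ω] [IsSepClosed Ω] (ξ : Spec (CommRingCat.of Ω) ⟶ X),
      Finite ((EtCoh.stalk ξ).obj F))
    (hL : ∀ n : ℕ, IsLocallyConstructible {x : X | Nat.card ((EtCoh.stalk (geomPoint x)).obj F) = n}) :
    EtPBC.IsConstructible F :=
  isConstructible_of_generic fun T g _ _ _ _ => by
    obtain ⟨V, hVo, hηV, hV⟩ := exists_open_of_locallyConstructible (genericPoint_spec T) g.continuous
      (hL (Nat.card ((EtCoh.stalk (geomPoint (g.base (genericPoint T)))).obj F)))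
    have hfin' : ∀ t : T, Finite ((EtCoh.stalk (geomPoint t)).obj ((EtCoh.pull g).obj F)) := fun t => by
      have := hfin _ (geomPoint t ≫ g)
      exact finite_stalk_pull g F (geomPoint t)
    have key : ∀ t : T, Nat.card ((EtCoh.stalk (geomPoint t)).obj ((EtCoh.pull g).obj F)) =
        Nat.card ((EtCoh.stalk (geomPoint (g.base t))).obj F) := fun t => by
      have := hfin _ (geomPoint (g.base t))
      exact (Nat.card_congr ((stalkPullIso g (geomPoint t)).app F).addCommGroupIsoToAddEquiv.toEquiv).symm.trans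
        (card_stalk_eq F (by rw [geomPoint_apply, Scheme.Hom.comp_apply, geomPoint_apply]))
    refine exists_open_isFLC_of_card hfin' (V₀ := ⟨V, hVo⟩) hηV fun t ht => ?_
    rw [key, key]
    exact (hV t ht).2 rfl

/-- Constructibility from local constancy along point closures. -/
theorem isConstructible_of_closure [IsLocallyNoetherian X] (F : EtCoh.Ab X)
    (h : ∀ x : X, ∃ (V : X.Opens) (T : Scheme.{u}) (g : T ⟶ X), IsImmersion g ∧ x ∈ V ∧
        Set.range g.base = (V : Set X) ∩ closure {x} ∧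
        EtCoh.IsFiniteLocallyConstant ((EtCoh.pull g).obj F)) :
    EtPBC.IsConstructible F :=
  isConstructible_of_generic fun T g _ _ _ _ => by
    obtain ⟨V, T', g', hg', hxV, hr, hF⟩ := h (g.base (genericPoint T))
    let VT : T.Opens := g ⁻¹ᵁ V
    let k : (VT : Scheme.{u}) ⟶ X := VT.ι ≫ g
    have : IsImmersion (pullback.fst k g') := MorphismProperty.pullback_fst _ _ inferInstance
    have hsurj : Surjective (pullback.fst k g') := by
      refine ⟨fun t => ?_⟩
      obtain ⟨y, hy⟩ : k.base t ∈ Set.range g'.base := hr.ge ⟨by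
          show g.base (VT.ι.base t) ∈ V
          exact t.2, specializes_iff_mem_closure.1 (by
          show g.base (genericPoint T) ⤳ g.base (VT.ι.base t)
          exact ((genericPoint_spec T).specializes trivial).map g.continuous)⟩
      obtain ⟨z, hz, -⟩ := Scheme.Pullback.exists_preimage_pullback (f := k) (g := g') t y hy.symm
      exact ⟨z, hz⟩
    have : IsClosedImmersion (pullback.fst k g') :=
      .of_isPreimmersion _ (by rw [hsurj.surj.range_eq]; exact isClosed_univ)
    have := isIso_of_isClosedImmersion_of_surjective (pullback.fst k g')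
    have hk : k = (inv (pullback.fst k g') ≫ pullback.snd k g') ≫ g' := by
      rw [Category.assoc, ← pullback.condition, IsIso.inv_hom_id_assoc]
    refine ⟨VT, hxV, ?_⟩
    have hQ : FLCOn F k := by
      rw [hk]
      exact stable_FLCOn F _ _ (by intro _; exact hF)
    exact (flcOn_pull_iff g F VT.ι).2 hQ

/-- A constructible sheaf is locally constant on an open piece of each point closure. -/
theorem exists_flc_closure {F : EtCoh.Ab X} (hF : EtPBC.IsConstructible F) (x : X) :
    ∃ (V : X.Opens) (T : Scheme.{u}) (g : T ⟶ X), IsImmersion g ∧ x ∈ V ∧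
      Set.range g.base = (V : Set X) ∩ closure {x} ∧
      EtCoh.IsFiniteLocallyConstant ((EtCoh.pull g).obj F) := by
  obtain ⟨U, hU, hxU, -⟩ := exists_isAffineOpen_mem_and_subset (U := ⊤) (Set.mem_univ x)
  obtain ⟨n, T, g, hg, -, -, hu, hFT⟩ := (isConstructible_iff F).1 hF U hU
  obtain ⟨i, hi⟩ := Set.mem_iUnion.1 (hu.ge hxU)
  have := hg i
  obtain ⟨O, Z, hO, hZ, he⟩ := (g i).isLocallyClosed_range
  have hxOZ : x ∈ O ∩ Z := he ▸ hi
  obtain ⟨T', g', hg', hr, hQ⟩ := Piece.restrict (stable_FLCOn F) ⟨T i, g i, hg i, rfl, hFT i⟩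
    (L := O ∩ closure {x}) ⟨O, closure {x}, hO, isClosed_closure, rfl⟩
    (he ▸ Set.inter_subset_inter_right O
      (closure_minimal (Set.singleton_subset_iff.2 hxOZ.2) hZ))
  exact ⟨⟨O, hO⟩, T', g', hg', hxOZ.1, hr, hQ⟩

end Groth.EtaleDeep.Cons
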