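import Groth.Agent.EtaleDeep.Cons.AdicStrata
import Groth.Agent.EGA43Topo.QuasiFiniteAffine

/-!
# Constructible sheaves of modules on Noetherian schemes form a Noetherian category
-/

set_option autoImplicit false
set_option backward.isDefEq.respectTransparency.types false
set_option linter.style.haveILetI false

universe u

open CategoryTheory CategoryTheory.Limits AlgebraicGeometry Opposite Topology TopologicalSpace

namespace Groth.EtaleDeep.Cons

open Groth.EtaleBase Groth.EtaleBase.LocConst Groth.EtaleBase.SitePt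

variable {Λ : Type (u + 1)} [CommRing Λ]

/-- Stalkwise bijectivity detects isomorphisms. -/
theorem isIso_of_stalk {X : Scheme.{u}} {F G : EtModW.Mod Λ X} (φ : F ⟶ G)
    (h : ∀ x : X, Function.Bijective ((EtModW.stalk Λ (geomPoint x)).map φ).hom) : IsIso φ := by
  have := fun x => (ConcreteCategory.isIso_iff_bijective ((EtModW.stalk Λ (geomPoint x)).map φ)).2 (h x)
  exact (PullModExact.stalk_jointly Λ (X := X)).isIso φ

/-- Monomorphisms are injective on stalks. -/
theorem injective_stalk {X : Scheme.{u}} {F G : EtModW.Mod Λ X} (φ : F ⟶ G) [Mono φ] {Ω : Type u}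
    [Field Ω] [IsSepClosed Ω] (ξ : Spec (CommRingCat.of Ω) ⟶ X) :
    Function.Injective ((EtModW.stalk Λ ξ).map φ).hom := by
  have := preservesFiniteLimits_stalkMod (Λ := Λ) ξ
  have : (EtModW.stalk Λ ξ).PreservesMonomorphisms :=
    CategoryTheory.preservesMonomorphisms_of_preservesLimitsOfShape _
  exact (ModuleCat.mono_iff_injective ((EtModW.stalk Λ ξ).map φ)).1 ((EtModW.stalk Λ ξ).map_mono φ)

/-- Specialization maps are natural. -/
theorem cospec_naturality {X : Scheme.{u}} {Ω Ω' : Type u} [Field Ω] [IsSepClosed Ω] [Field Ω']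
    [IsSepClosed Ω'] {η : Spec (CommRingCat.of Ω) ⟶ X} {ξ : Spec (CommRingCat.of Ω') ⟶ X}
    (φ : Scheme.pointSmallEtale η ⟶ Scheme.pointSmallEtale ξ) {F G : EtModW.Mod Λ X} (f : F ⟶ G)
    (z : (EtModW.stalk Λ ξ).obj F) :
    ((cospec φ).app G).hom (((EtModW.stalk Λ ξ).map f).hom z) =
      ((EtModW.stalk Λ η).map f).hom (((cospec φ).app F).hom z) :=
  ConcreteCategory.congr_hom ((cospec (Λ := Λ) φ).naturality f) z

/-- Maps of geometric points between points of an open come from the open. -/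
theorem isIso_cospec_of_open {X : Scheme.{u}} (U : X.Opens) {F : EtModW.Mod Λ X}
    (hF : EtModW.IsFTLocConst Λ ((EtModW.pull Λ U.ι).obj F)) {Ω Ω' : Type u} [Field Ω] [IsSepClosed Ω]
    [Field Ω'] [IsSepClosed Ω'] {η : Spec (CommRingCat.of Ω) ⟶ X} {ξ : Spec (CommRingCat.of Ω') ⟶ X}
    (hη : η.base default ∈ U) (hξ : ξ.base default ∈ U)
    (θ : Scheme.pointSmallEtale η ⟶ Scheme.pointSmallEtale ξ) : IsIso ((cospec θ).app F) := by
  obtain ⟨η', rfl⟩ := exists_lift_immersion η U.ι (by rwa [Scheme.Opens.range_ι])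
  obtain ⟨ξ', rfl⟩ := exists_lift_immersion ξ U.ι (by rwa [Scheme.Opens.range_ι])
  let up : ∀ {Ω₀ : Type u} [Field Ω₀] (ζ : Spec (CommRingCat.of Ω₀) ⟶ (U : Scheme.{u}))
      [IsSepClosed Ω₀] (V : (U : Scheme.{u}).Etale) (x : (Scheme.pointSmallEtale ζ).fiber.obj V),
      (Scheme.pointSmallEtale (ζ ≫ U.ι)).fiber.obj (Scheme.Etale.mk (V.hom ≫ U.ι)) :=
    fun ζ _ V x => Over.homMk x.left ((Category.assoc _ _ _).symm.trans (congrArg (· ≫ U.ι) (Over.w x)))
  have hV : ∀ V : (U : Scheme.{u}).Etale, AlgebraicGeometry.Etale V.hom := fun V => V.prop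
  let ψ : Scheme.pointSmallEtale η' ⟶ Scheme.pointSmallEtale ξ' :=
    ⟨{ app := fun V => TypeCat.ofHom fun x => Over.homMk
        (θ.hom.app (Scheme.Etale.mk (V.hom ≫ U.ι)) (up ξ' V x)).left (by
          refine (cancel_mono U.ι).1 ?_
          exact (Category.assoc _ _ _).trans (Over.w (θ.hom.app (Scheme.Etale.mk (V.hom ≫ U.ι)) (up ξ' V x))))
       naturality := fun V V' g => by
        ext x
        refine fiber_ext η' ?_
        let g' : Scheme.Etale.mk (V.hom ≫ U.ι) ⟶ Scheme.Etale.mk (V'.hom ≫ U.ι) :=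
          MorphismProperty.Over.homMk g.left
            ((Category.assoc _ _ _).symm.trans (congrArg (· ≫ U.ι) (Over.w g.hom)))
        have h1 : up ξ' V' ((Scheme.pointSmallEtale ξ').fiber.map g x) =
            (Scheme.pointSmallEtale (ξ' ≫ U.ι)).fiber.map g' (up ξ' V x) := fiber_ext _ rfl
        show (θ.hom.app _ (up ξ' V' ((Scheme.pointSmallEtale ξ').fiber.map g x))).left =
          (θ.hom.app _ (up ξ' V x)).left ≫ g.left
        rw [h1, NatTrans.naturality_apply θ.hom g' (up ξ' V x)]
        rfl }⟩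
  have hθ : θ = mapPointHom U.ι ψ := GrothendieckTopology.Point.hom_ext (NatTrans.ext (funext fun V => by
    ext x
    refine fiber_ext (η' ≫ U.ι) ?_
    let p : Scheme.Etale.mk (((EtCoh.bc U.ι).obj V).hom ≫ U.ι) ⟶ V :=
      MorphismProperty.Over.homMk (pullback.fst V.hom U.ι) pullback.condition
    have h1 : x = (Scheme.pointSmallEtale (ξ' ≫ U.ι)).fiber.map p
        (up ξ' ((EtCoh.bc U.ι).obj V) (pushLift U.ι ξ' rfl V x)) :=
      fiber_ext _ (pushLift_fst U.ι ξ' rfl V x).symm
    show (θ.hom.app V x).left = (θ.hom.app _ (up ξ' ((EtCoh.bc U.ι).obj V) (pushLift U.ι ξ' rfl V x))).left ≫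
      pullback.fst V.hom U.ι
    conv_lhs => rw [h1, NatTrans.naturality_apply θ.hom p]
    rfl))
  rw [hθ, cospec_bijective_iff]
  refine bijective_map_pointHom U.ι _ ψ ?_
  let A := (cmpPull Λ U.ι).app F
  have : IsIso A := isIso_cmpPull Λ U.ι F
  have hψb := (cospec_bijective_iff _ ψ).1 (isIso_cospec hF ψ)
  let S := GrothendieckTopology.Point.Hom.sheafFiber (A := AddCommGrpCat.{u + 1}) ψ
  have : IsIso (S.app _) := (ConcreteCategory.isIso_iff_bijective (S.app _)).2 hψb
  exact (ConcreteCategory.isIso_iff_bijective (S.app _)).1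
    ((NatTrans.isIso_app_iff_of_iso S (asIso A)).2 this)

variable [IsNoetherianRing Λ] {X : Scheme.{u}} [IsLocallyNoetherian X] [IrreducibleSpace X]

/-- Near the generic point, every specialization map to the generic geometric stalk of a subsheaf of
a locally constant sheaf is surjective. -/
theorem exists_open_surjective_cospec {F G : EtModW.Mod Λ X} (i : G ⟶ F) [Mono i]
    (hF : ∃ U : X.Opens, genericPoint X ∈ U ∧ EtModW.IsFTLocConst Λ ((EtModW.pull Λ U.ι).obj F))
    (hfin : Module.Finite Λ ((EtModW.stalk Λ (geomPoint (genericPoint X))).obj F)) :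
    ∃ V : X.Opens, genericPoint X ∈ V ∧ ∀ (Ω : Type u) [Field Ω] [IsSepClosed Ω]
      (ξ : Spec (CommRingCat.of Ω) ⟶ X), ξ.base default ∈ V →
      ∀ θ : Scheme.pointSmallEtale (geomPoint (genericPoint X)) ⟶ Scheme.pointSmallEtale ξ,
        Function.Surjective ((cospec θ).app G).hom := by
  let η := geomPoint (genericPoint X)
  let A := (toAb Λ X).obj G
  have : IsNoetherian Λ ((EtModW.stalk Λ η).obj F) := isNoetherian_of_isNoetherianRing_of_finite _ _
  have hi := injective_stalk i η
  have : Module.Finite Λ ((EtModW.stalk Λ η).obj G) := Module.Finite.of_injective _ hi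
  obtain ⟨e, he⟩ := exists_stalk_forget η G
  obtain ⟨k, m, hm⟩ := Module.Finite.exists_fin (R := Λ) (M := (EtModW.stalk Λ η).obj G)
  obtain ⟨t₀, -⟩ := exists_fiber_of_point η (EtCoh.top X) (genericPoint X) (geomPoint_apply _ _).symm
  obtain ⟨W₀, g₀, w₀, σ₀, -, hσ₀⟩ := exists_common_rep η (F := A) (EtCoh.top X) t₀ (fun j => e.inv (m j))
  -- shrink to a neighbourhood with a single point over the generic point
  let z₀ := fiberPoint η w₀
  have hz₀ : W₀.hom.base z₀ = genericPoint X := (hom_fiberPoint η w₀).trans (geomPoint_apply _ _)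
  have : AlgebraicGeometry.Etale W₀.hom := W₀.prop
  obtain ⟨N, hN, hzN, -⟩ := exists_isAffineOpen_mem_and_subset (U := ⊤) (Set.mem_univ z₀)
  have : IsLocallyNoetherian W₀.left :=
    @LocallyOfFiniteType.isLocallyNoetherian _ _ W₀.hom inferInstance ‹IsLocallyNoetherian X›
  have : IsAffine (N : Scheme.{u}) := hN
  have : AlgebraicGeometry.IsNoetherian (N : Scheme.{u}) := {}
  have hfinN : {z : (N : Scheme.{u}) | W₀.hom.base (N.ι.base z) = genericPoint X}.Finite := by
    have hmax : ∀ z, W₀.hom.base (N.ι.base z) = genericPoint X →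
        irreducibleComponent z = closure {z} := by
      intro z hz
      have hg := (isIrreducible_irreducibleComponent (x := z)).isGenericPoint_genericPoint
        isClosed_irreducibleComponent
      have hs : N.ι.base (isIrreducible_irreducibleComponent (x := z)).genericPoint ⤳ N.ι.base z :=
        (hg.specializes mem_irreducibleComponent).map N.ι.continuous
      have heq : W₀.hom.base (N.ι.base (isIrreducible_irreducibleComponent (x := z)).genericPoint) =
          genericPoint X :=
        (((genericPoint_spec X).specializes trivial).antisymm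
          (by rw [← hz]; exact hs.map W₀.hom.continuous)).eq.symm
      have := N.ι.isOpenEmbedding.injective
        (Groth.EGA43Topo.eq_of_specializes_of_lqf W₀.hom (heq.trans hz.symm) hs)
      exact (hg.def).symm.trans (by rw [this])
    refine Set.Finite.of_finite_image
      ((NoetherianSpace.finite_irreducibleComponents (α := (N : Scheme.{u}))).subset ?_)
      (f := irreducibleComponent) ?_
    · rintro _ ⟨z, -, rfl⟩
      exact irreducibleComponent_mem_irreducibleComponents z
    · intro a ha b hb hab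
      rw [hmax a ha, hmax b hb] at hab
      exact (IsGenericPoint.eq (show IsGenericPoint a (closure {a}) from rfl) hab.symm)
  let S : Set W₀.left := ⋃ z ∈ {z : (N : Scheme.{u}) | W₀.hom.base (N.ι.base z) = genericPoint X ∧ N.ι.base z ≠ z₀},
    closure {N.ι.base z}
  have hS : IsClosed S := (hfinN.subset fun z hz => hz.1).isClosed_biUnion fun z _ => isClosed_closure
  let O : W₀.left.Opens := ⟨(N : Set W₀.left) \ S, N.2.sdiff hS⟩
  have hz₀O : z₀ ∈ O := ⟨hzN, fun h => by
    obtain ⟨z, ⟨hz, hne⟩, hs⟩ := Set.mem_iUnion₂.1 h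
    exact hne (Groth.EGA43Topo.eq_of_specializes_of_lqf W₀.hom (hz.trans hz₀.symm)
      (specializes_iff_mem_closure.2 hs))⟩
  have honly : ∀ z ∈ O, W₀.hom.base z = genericPoint X → z = z₀ := fun z hz hzg => by
    by_contra hne
    exact hz.2 (Set.mem_biUnion (x := (⟨z, hz.1⟩ : (N : Scheme.{u}))) ⟨hzg, hne⟩
      (subset_closure rfl))
  obtain ⟨w, hw⟩ := exists_lift_open η O w₀ hz₀O
  let W := openObj W₀ O
  let σ : Fin k → A.obj.obj (op W) := fun j => A.obj.map (openHom W₀ O).op (σ₀ j)
  have hσ : ∀ j, (germM η G W w).hom (σ j) = m j := fun j => by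
    refine (he W w (σ j)).symm.trans ?_
    rw [show σ j = A.obj.map (openHom W₀ O).op (σ₀ j) from rfl, germ_res, hw, hσ₀ j]
    exact e.inv_hom_id_apply (m j)
  obtain ⟨U, hηU, hU⟩ := hF
  let V : X.Opens := ⟨Set.range W.hom.base ∩ U, by
    have : AlgebraicGeometry.Etale W.hom := W.prop
    exact (W.hom.isOpenMap.isOpen_range).inter U.2⟩
  refine ⟨V, ⟨⟨fiberPoint η w, (hom_fiberPoint η w).trans (geomPoint_apply _ _)⟩, hηU⟩,
    fun Ω _ _ ξ hξ θ => ?_⟩
  obtain ⟨⟨u, hu⟩, -⟩ := hξ
  obtain ⟨v, -⟩ := exists_fiber_of_point ξ W u hu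
  let t := θ.hom.app W v
  have htp : fiberPoint η t = fiberPoint η w := by
    apply O.ι.isOpenEmbedding.injective
    have h1 := honly _ (fiberPoint η t).2 ((hom_fiberPoint η t).trans (geomPoint_apply _ _))
    have h2 := honly _ (fiberPoint η w).2 ((hom_fiberPoint η w).trans (geomPoint_apply _ _))
    exact h1.trans h2.symm
  -- endomorphisms of the generic stalk preserving a submodule restrict to automorphisms
  obtain ⟨ψ, hψ, hiso⟩ := exists_pointHom_of_immersion (η := η) (ξ := η) U.ι hU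
    (by rw [Scheme.Opens.range_ι]; exact (geomPoint_apply _ _).symm ▸ hηU)
    (by rw [Scheme.Opens.range_ι]; exact (geomPoint_apply _ _).symm ▸ hηU) W t w (by rw [htp])
  let f : (EtModW.stalk Λ η).obj F →ₗ[Λ] (EtModW.stalk Λ η).obj F := ((cospec ψ).app F).hom
  have hf : Function.Bijective f := (ConcreteCategory.isIso_iff_bijective _).1 hiso
  let R := LinearMap.range ((EtModW.stalk Λ η).map i).hom
  have hR : R ≤ R.comap f := by
    rintro _ ⟨y, rfl⟩
    exact ⟨_, (cospec_naturality ψ i y).symm⟩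
  have hback : R.comap f ≤ R := by
    have hmono : Monotone fun n => R.comap (f ^ n) := monotone_nat_of_le_succ fun n => by
      rw [pow_succ', Module.End.mul_eq_comp, Submodule.comap_comp]
      exact Submodule.comap_mono hR
    obtain ⟨n, hn⟩ := monotone_stabilizes_iff_noetherian.2 inferInstance ⟨_, hmono⟩
    have hn' : R.comap (f ^ n) = R.comap (f ^ (n + 1)) := hn (n + 1) (Nat.le_succ n)
    rw [pow_succ' f n, Module.End.mul_eq_comp, Submodule.comap_comp] at hn'
    have hsurj : Function.Surjective (f ^ n) := by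
      rw [Module.End.coe_pow]
      exact hf.surjective.iterate n
    exact le_of_eq (Submodule.comap_injective_of_surjective hsurj hn').symm
  have hψG : Function.Surjective ((cospec ψ).app G).hom := fun y => by
    obtain ⟨z, hz⟩ := hf.surjective (((EtModW.stalk Λ η).map i).hom y)
    obtain ⟨y', hy'⟩ := hback (show f z ∈ R from hz.symm ▸ ⟨y, rfl⟩)
    refine ⟨y', hi ?_⟩
    rw [← cospec_naturality ψ i y', hy']
    exact hz
  rw [← LinearMap.range_eq_top]
  refine top_le_iff.1 ?_
  rw [← LinearMap.range_eq_top.2 hψG, LinearMap.range_eq_map, ← hm, Submodule.map_span,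
    Submodule.span_le]
  rintro _ ⟨_, ⟨j, rfl⟩, rfl⟩
  refine ⟨(germM ξ G W v).hom (σ j), ?_⟩
  rw [cospec_germ, ← hσ j, cospec_germ, hψ]

omit [IsLocallyNoetherian X] [IrreducibleSpace X] [IsNoetherianRing Λ] in
/-- Noetherian induction: a property which holds near every generic point of an irreducible immersed
subscheme holds on a stratification. -/
theorem isCons_of_generic [AlgebraicGeometry.IsNoetherian X] {Q : ∀ ⦃T : Scheme.{u}⦄, (T ⟶ X) → Prop}
    (hQ : Stable Q)
    (hgen : ∀ ⦃T : Scheme.{u}⦄ (g : T ⟶ X) [IsImmersion g] [IsLocallyNoetherian T] [IrreducibleSpace T]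
      [IsReduced T],
      ∃ V : T.Opens, genericPoint T ∈ V ∧ Q (V.ι ≫ g)) : IsCons Q := by
  rw [isCons_iff_adapted_univ hQ]
  suffices ∀ C : Closeds X, ∃ (m : ℕ) (E : Fin m → Set X),
      (∀ i, Piece Q (E i)) ∧ (∀ i, IsLocallyClosed (E i)) ∧ (C : Set X) ⊆ ⋃ i, E i by
    obtain ⟨m, E, hE, hlc, hcov⟩ := this ⊤
    refine adapted_of_pieces hQ isOpen_univ E hE (fun i => ?_) (fun i => Set.subset_univ _) hcov
    obtain ⟨U, Z, hU, hZ, he⟩ := hlc i
    have : NoetherianSpace (Set.univ : Set X) := NoetherianSpace.set _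
    rw [he, Set.preimage_inter]
    have hop : ∀ s : Set (Set.univ : Set X), IsOpen s → Topology.IsConstructible s := fun s hs =>
      (show IsRetrocompact s from fun _ _ _ => NoetherianSpace.isCompact _).isConstructible hs
    refine (hop _ (hU.preimage continuous_subtype_val)).inter ?_
    rw [← compl_compl (Subtype.val ⁻¹' Z)]
    exact (hop _ (hZ.preimage continuous_subtype_val).isOpen_compl).compl
  intro C
  induction C using (wellFounded_lt (α := Closeds X)).induction with
  | _ C ih =>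
    by_cases hne : (C : Set X).Nonempty
    swap
    · exact ⟨0, fun i => i.elim0, fun i => i.elim0, fun i => i.elim0, fun y hy => absurd ⟨y, hy⟩ hne⟩
    have : NoetherianSpace (C : Set X) := NoetherianSpace.set _
    have := hne.to_subtype
    let x : (C : Set X) := Classical.arbitrary _
    obtain ⟨O₁, hO₁, hne₁, hle⟩ := NoetherianSpace.exists_isOpen_nonempty_subset_irreducibleComponent
      (irreducibleComponent x) (irreducibleComponent_mem_irreducibleComponents x)
    obtain ⟨O, hO, rfl⟩ := hO₁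
    have hirr : IsIrreducible ((C : Set X) ∩ O) := by
      have h1 : IsIrreducible (Subtype.val ⁻¹' O : Set (C : Set X)) :=
        ⟨hne₁, (isIrreducible_irreducibleComponent (x := x)).2.open_subset (hO.preimage continuous_subtype_val) hle⟩
      have := h1.image Subtype.val continuous_subtype_val.continuousOn
      rwa [Subtype.image_preimage_coe] at this
    obtain ⟨⟨T, g, hg, hred, hr⟩, -⟩ :=
      PropsBasic2.existsUnique_reduced X ((C : Set X) ∩ O) ⟨O, C, hO, C.2, Set.inter_comm _ _⟩
    have := hg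
    have : IrreducibleSpace T := by
      let e : T ≃ₜ ↥((C : Set X) ∩ O) := g.isEmbedding.toHomeomorph.trans (Homeomorph.setCongr hr)
      have := isIrreducible_iff_irreducibleSpace.1 hirr
      exact { isPreirreducible_univ := by
                have := (IrreducibleSpace.isIrreducible_univ ↥((C : Set X) ∩ O)).image e.symm e.symm.continuous.continuousOn
                rw [Set.image_univ, e.symm.surjective.range_eq] at this
                exact this.2
              toNonempty := ⟨e.symm (Classical.arbitrary _)⟩ }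
    have : IsLocallyNoetherian T := LocallyOfFiniteType.isLocallyNoetherian g
    have := hred
    obtain ⟨V, hηV, hV⟩ := hgen g
    obtain ⟨O₂, hO₂, hO₂V⟩ := g.isEmbedding.isInducing.isOpen_iff.1 V.2
    have hrange : (C : Set X) ∩ (O ∩ O₂) = Set.range (V.ι ≫ g) := by
      rw [Scheme.Hom.comp_base, TopCat.coe_comp, Set.range_comp, Scheme.Opens.range_ι]
      change _ = g '' (V.carrier)
      rw [show V.carrier = g ⁻¹' O₂ from hO₂V.symm, Set.image_preimage_eq_inter_range, hr,
        ← Set.inter_assoc, Set.inter_comm]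
    have hne' : ((C : Set X) ∩ (O ∩ O₂)).Nonempty := by
      rw [hrange]; exact ⟨g (genericPoint T), ⟨_, hηV⟩, rfl⟩
    have hp : Piece Q ((C : Set X) ∩ (O ∩ O₂)) := ⟨_, V.ι ≫ g, inferInstance, hrange.symm, hV⟩
    let C' : Closeds X := ⟨(C : Set X) \ (O ∩ O₂), C.2.sdiff (hO.inter hO₂)⟩
    obtain ⟨m, E, hE, hlc, hcov⟩ := ih C' (lt_of_le_of_ne (fun _ h => h.1) fun h => by
      obtain ⟨y, hy, hy'⟩ := hne'
      have : y ∈ (C' : Set X) := by rw [h]; exact hy
      exact this.2 hy')
    refine ⟨m + 1, Fin.cons ((C : Set X) ∩ (O ∩ O₂)) E, Fin.cases hp hE,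
      Fin.cases ⟨O ∩ O₂, C, hO.inter hO₂, C.2, Set.inter_comm _ _⟩ hlc, fun y hy => ?_⟩
    by_cases hyO : y ∈ O ∩ O₂
    · exact Set.mem_iUnion.2 ⟨0, hy, hyO⟩
    · obtain ⟨i, hi⟩ := Set.mem_iUnion.1 (hcov ⟨hy, hyO⟩)
      exact Set.mem_iUnion.2 ⟨i.succ, hi⟩

/-- Near the generic point, a subsheaf of a constructible sheaf has bijective specialization maps from
the generic geometric point. -/
theorem exists_open_bijective_cospec {F G : EtModW.Mod Λ X} (i : G ⟶ F) [Mono i]
    (hF : EtModW.IsConstructible Λ F) :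
    ∃ V : X.Opens, genericPoint X ∈ V ∧ ∀ (Ω : Type u) [Field Ω] [IsSepClosed Ω]
      (ξ : Spec (CommRingCat.of Ω) ⟶ X), ξ.base default ∈ V →
      ∀ θ : Scheme.pointSmallEtale (geomPoint (genericPoint X)) ⟶ Scheme.pointSmallEtale ξ,
        Function.Bijective ((cospec θ).app G).hom := by
  let η := geomPoint (genericPoint X)
  obtain ⟨U, hηU, hU⟩ := exists_open_ftOn hF
  obtain ⟨V, hηV, hV⟩ := exists_open_surjective_cospec i ⟨U, hηU, hU⟩
    (finite_stalk_of_isConstructible η hF)
  refine ⟨V ⊓ U, ⟨hηV, hηU⟩, fun Ω _ _ ξ hξ θ => ⟨?_, hV Ω ξ hξ.1 θ⟩⟩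
  -- injectivity: compare with the locally constant sheaf `F`
  have hθ : Function.Injective ((cospec θ).app F).hom :=
    ((ConcreteCategory.isIso_iff_bijective _).1 (isIso_cospec_of_open U hU
      (by rw [geomPoint_apply]; exact hηU) hξ.2 θ)).1
  intro a b hab
  apply injective_stalk i ξ
  apply hθ
  rw [cospec_naturality, cospec_naturality, hab]

/-- A subsheaf of a constructible sheaf is locally constant near the generic point. -/
theorem exists_open_ftOn_of_mono {F G : EtModW.Mod Λ X} (i : G ⟶ F) [Mono i]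
    (hF : EtModW.IsConstructible Λ F) :
    ∃ V : X.Opens, genericPoint X ∈ V ∧ EtModW.IsFTLocConst Λ ((EtModW.pull Λ V.ι).obj G) := by
  obtain ⟨V, hηV, hV⟩ := exists_open_bijective_cospec i hF
  have := Groth.PullModExact.preservesFiniteLimits_pull Λ V.ι
  refine ⟨V, hηV, isFT_of_spec (fun x => ?_) fun Ω₁ _ _ Ω₂ _ _ η₁ ξ₁ φ => ?_⟩
  · have : IsNoetherian Λ ((EtModW.stalk Λ (geomPoint x)).obj ((EtModW.pull Λ V.ι).obj F)) :=
      have := finite_stalk_of_isConstructible (geomPoint x) (isConstructibleMod_pull V.ι hF)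
      isNoetherian_of_isNoetherianRing_of_finite _ _
    exact Module.Finite.of_injective _ (injective_stalk ((EtModW.pull Λ V.ι).map i) (geomPoint x))
  · rw [isIso_cospec_map_iff]
    have hmem : ∀ {Ω₀ : Type u} [Field Ω₀] (ζ : Spec (CommRingCat.of Ω₀) ⟶ (V : Scheme.{u})),
        (ζ ≫ V.ι).base default ∈ V := fun ζ => by
      rw [Scheme.Hom.comp_apply]; exact (ζ.base default).2
    let θ₀ := nonempty_pointHom (geomPoint (genericPoint X)) (η₁ ≫ V.ι) (by
      rw [geomPoint_apply]; exact (genericPoint_spec X).specializes trivial)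
    obtain ⟨θ⟩ := θ₀
    have h1 := hV _ (η₁ ≫ V.ι) (hmem η₁) θ
    have h2 := hV _ (ξ₁ ≫ V.ι) (hmem ξ₁) (θ ≫ mapPointHom V.ι φ)
    have : HasColimitsOfSize.{u, u} (ModuleCat.{u + 1} Λ) :=
      hasColimitsOfSizeShrink.{u, u, u + 1, u + 1} _
    have hcomp : (cospec (θ ≫ mapPointHom V.ι φ)).app G =
        (cospec (mapPointHom V.ι φ)).app G ≫ (cospec θ).app G :=
      congrArg (fun t => NatTrans.app t G)
        (GrothendieckTopology.Point.Hom.sheafFiber_comp θ (mapPointHom V.ι φ))
    rw [hcomp] at h2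
    exact (ConcreteCategory.isIso_iff_bijective _).2 ((h1.of_comp_iff' _).1 h2)

/-- An increasing chain of subsheaves of a constructible sheaf is stationary near the generic point. -/
theorem exists_open_stationary {F : EtModW.Mod Λ X} (hF : EtModW.IsConstructible Λ F)
    (G : ℕ → EtModW.Mod Λ X) (i : ∀ k, G k ⟶ F) [∀ k, Mono (i k)]
    (j : ∀ {a b : ℕ}, a ≤ b → (G a ⟶ G b)) (hj : ∀ {a b : ℕ} (h : a ≤ b), j h ≫ i b = i a) :
    ∃ (V : X.Opens) (k₀ : ℕ), genericPoint X ∈ V ∧ ∀ (k : ℕ) (h : k₀ ≤ k) (Ω : Type u) [Field Ω]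
      [IsSepClosed Ω] (ξ : Spec (CommRingCat.of Ω) ⟶ X), ξ.base default ∈ V →
        Function.Surjective ((EtModW.stalk Λ ξ).map (j h)).hom := by
  let η := geomPoint (genericPoint X)
  have : Module.Finite Λ ((EtModW.stalk Λ η).obj F) := finite_stalk_of_isConstructible η hF
  have : IsNoetherian Λ ((EtModW.stalk Λ η).obj F) := isNoetherian_of_isNoetherianRing_of_finite _ _
  let R : ℕ →o Submodule Λ ((EtModW.stalk Λ η).obj F) :=
    ⟨fun k => LinearMap.range ((EtModW.stalk Λ η).map (i k)).hom, fun a b h => by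
      rintro _ ⟨y, rfl⟩
      refine ⟨((EtModW.stalk Λ η).map (j h)).hom y, ?_⟩
      rw [← hj h, Functor.map_comp]
      rfl⟩
  obtain ⟨k₀, hk₀⟩ := monotone_stabilizes_iff_noetherian.2 inferInstance R
  obtain ⟨V₁, hV₁η, hV₁⟩ := exists_open_bijective_cospec (i k₀) hF
  obtain ⟨U, hUη, hU⟩ := exists_open_ftOn hF
  refine ⟨V₁ ⊓ U, k₀, ⟨hV₁η, hUη⟩, fun k h Ω _ _ ξ hξ z => ?_⟩
  obtain ⟨θ⟩ := nonempty_pointHom η ξ (by rw [geomPoint_apply]; exact (genericPoint_spec X).specializes trivial)
  have hθ : Function.Injective ((cospec θ).app F).hom :=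
    ((ConcreteCategory.isIso_iff_bijective _).1 (isIso_cospec_of_open U hU
      (by rw [geomPoint_apply]; exact hUη) hξ.2 θ)).1
  obtain ⟨y, hy⟩ : ((EtModW.stalk Λ η).map (i k)).hom (((cospec θ).app (G k)).hom z) ∈ R k₀ := by
    rw [hk₀ k h]
    exact ⟨_, rfl⟩
  obtain ⟨w, hw⟩ := (hV₁ Ω ξ hξ.1 θ).2 y
  refine ⟨w, injective_stalk (i k) ξ (hθ ?_)⟩
  have he : ((EtModW.stalk Λ ξ).map (i k)).hom (((EtModW.stalk Λ ξ).map (j h)).hom w) =
      ((EtModW.stalk Λ ξ).map (i k₀)).hom w := by
    rw [← hj h, Functor.map_comp]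
    rfl
  rw [he, cospec_naturality, hw, hy, cospec_naturality]

omit [IsLocallyNoetherian X] [IrreducibleSpace X] in
/-- Subsheaves of constructible sheaves on Noetherian schemes are constructible. -/
theorem isConstructibleMod_of_mono [AlgebraicGeometry.IsNoetherian X] {F G : EtModW.Mod Λ X} (i : G ⟶ F)
    [Mono i] (hF : EtModW.IsConstructible Λ F) : EtModW.IsConstructible Λ G :=
  (isConstructibleMod_iff _).2 <| isCons_of_generic (stable_FTOn G) fun T g _ _ _ _ => by
    have := Groth.PullModExact.preservesFiniteLimits_pull Λ g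
    obtain ⟨V, hV, h⟩ := exists_open_ftOn_of_mono ((EtModW.pull Λ g).map i) (isConstructibleMod_pull g hF)
    exact ⟨V, hV, (ftOn_pull_iff g G V.ι).1 h⟩

omit [IsLocallyNoetherian X] [IrreducibleSpace X] in
/-- Quotients of constructible sheaves on Noetherian schemes are constructible. -/
theorem isConstructibleMod_of_epi [AlgebraicGeometry.IsNoetherian X] {F G : EtModW.Mod Λ X} (p : F ⟶ G)
    [Epi p] (hF : EtModW.IsConstructible Λ F) : EtModW.IsConstructible Λ G := by
  let hc := Abelian.epiIsCokernelOfKernel _ (limit.isLimit (parallelPair p 0))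
  exact isConstructibleMod_of_iso ((colimit.isColimit _).coconePointUniqueUpToIso hc)
    (isConstructibleMod_cokernel (kernel.ι p) (isConstructibleMod_of_mono (kernel.ι p) hF) hF)

omit [IsLocallyNoetherian X] [IrreducibleSpace X] in
/-- Constructible sheaves on Noetherian schemes are Noetherian objects. -/
theorem isNoetherianObject_of_isConstructible [AlgebraicGeometry.IsNoetherian X] {F : EtModW.Mod Λ X}
    (hF : EtModW.IsConstructible Λ F) : IsNoetherianObject F := by
  rw [isNoetherianObject_iff_monotone_chain_condition]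
  intro Z
  let Q : ∀ ⦃T : Scheme.{u}⦄, (T ⟶ X) → Prop := fun _ g => ∃ k₀ : ℕ, ∀ (k : ℕ) (h : k₀ ≤ k) (Ω : Type u)
    [Field Ω] [IsSepClosed Ω] (ξ : Spec (CommRingCat.of Ω) ⟶ X), ξ.base default ∈ Set.range g →
      Function.Surjective ((EtModW.stalk Λ ξ).map (Subobject.ofLE (Z k₀) (Z k) (Z.monotone h))).hom
  have hQ : Stable Q := fun _ _ p g ⟨k₀, hk⟩ => ⟨k₀, fun k h Ω _ _ ξ hξ => hk k h Ω ξ (by
    obtain ⟨z, hz⟩ := hξ
    exact ⟨p.base z, hz⟩)⟩
  have hcons : IsCons Q := isCons_of_generic hQ fun T g _ _ _ _ => by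
    let P := EtModW.pull Λ g
    have : PreservesFiniteLimits P := Groth.PullModExact.preservesFiniteLimits_pull Λ g
    have : ∀ k, Mono (P.map (Z k).arrow) := fun k => inferInstance
    obtain ⟨V, k₀, hηV, hV⟩ := exists_open_stationary (isConstructibleMod_pull g hF)
      (fun k => P.obj (Subobject.underlying.obj (Z k))) (fun k => P.map (Z k).arrow)
      (fun {a b} h => P.map (Subobject.ofLE (Z a) (Z b) (Z.monotone h)))
      (fun {a b} h => by rw [← P.map_comp, Subobject.ofLE_arrow])
    refine ⟨V, hηV, k₀, fun k h Ω _ _ ξ hξ => ?_⟩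
    obtain ⟨ξ', rfl⟩ := exists_lift_immersion ξ g (by
      obtain ⟨z, hz⟩ := hξ
      exact ⟨V.ι.base z, hz⟩)
    have hmem : ξ'.base default ∈ V := by
      obtain ⟨z, hz⟩ := hξ
      rw [Scheme.Hom.comp_apply, Scheme.Hom.comp_apply] at hz
      exact g.isEmbedding.injective hz ▸ z.2
    let f := Subobject.ofLE (Z k₀) (Z k) (Z.monotone h)
    let e := PullModExact.stalkPullModIso Λ g ξ'
    have hsurj := hV k h Ω ξ' hmem
    intro z
    obtain ⟨w, hw⟩ := hsurj ((e.app _).hom.hom z)
    refine ⟨(e.app _).inv.hom w, ?_⟩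
    have hnat := ConcreteCategory.congr_hom (e.inv.naturality f) w
    refine hnat.symm.trans ?_
    refine (congrArg (e.app _).inv.hom hw).trans ?_
    exact ConcreteCategory.congr_hom (e.app _).hom_inv_id z
  obtain ⟨m, T, g, hg, -, -, hu, hk⟩ := (isCons_iff_adapted_univ hQ).1 hcons
  choose k₀ hk₀ using hk
  obtain ⟨K, hK⟩ := (Set.finite_range k₀).bddAbove
  refine ⟨K, fun k h => le_antisymm (Z.monotone h) ?_⟩
  let f := Subobject.ofLE (Z K) (Z k) (Z.monotone h)
  have : IsIso f := isIso_of_stalk f fun x => by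
    refine ⟨injective_stalk f (geomPoint x), ?_⟩
    obtain ⟨i, hi⟩ := Set.mem_iUnion.1 (hu.ge (Set.mem_univ ((geomPoint x).base default)))
    have hle : k₀ i ≤ K := hK ⟨i, rfl⟩
    have hs := hk₀ i k (hle.trans h) _ (geomPoint x) hi
    rw [← Subobject.ofLE_comp_ofLE _ _ _ (Z.monotone hle) (Z.monotone h), Functor.map_comp] at hs
    exact Function.Surjective.of_comp hs
  exact Subobject.le_of_comm (inv f) (by
    rw [IsIso.inv_comp_eq, Subobject.ofLE_arrow])

end Groth.EtaleDeep.Cons
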