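import Groth.Agent.EtaleDeep.Cons.Mod
import Groth.Agent.EtaleDeep.AR.MapExact
import Groth.Agent.PropsBasic2.Reduced
import Mathlib.RingTheory.Finiteness.Basic

/-!
# Stalks of constructible sheaves of modules
-/

set_option autoImplicit false
set_option backward.isDefEq.respectTransparency.types false
set_option linter.style.haveILetI false

universe u

open CategoryTheory CategoryTheory.Limits AlgebraicGeometry Opposite

namespace Groth.EtaleDeep.Cons

open Groth.EtaleBase Groth.EtaleBase.LocConst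

variable {Λ : Type (u + 1)} [CommRing Λ] {X : Scheme.{u}} {Ω : Type u} [Field Ω] [IsSepClosed Ω]
  (ξ : Spec (CommRingCat.of Ω) ⟶ X)

/-- The germ of a section of a sheaf of modules. -/
noncomputable abbrev germM (F : EtModW.Mod Λ X) (U : X.Etale)
    (t : (Scheme.pointSmallEtale ξ).fiber.obj U) : F.obj.obj (op U) ⟶ (EtModW.stalk Λ ξ).obj F :=
  (Scheme.pointSmallEtale ξ).toPresheafFiber U t F.obj

/-- Underlying stalks. -/
theorem exists_stalk_forget (F : EtModW.Mod Λ X) :
    ∃ e : (EtCoh.stalk ξ).obj ((toAb Λ X).obj F) ≅ (G Λ).obj ((EtModW.stalk Λ ξ).obj F),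
      ∀ (U : X.Etale) (t : (Scheme.pointSmallEtale ξ).fiber.obj U) (σ : F.obj.obj (op U)),
        e.hom (germ ξ ((toAb Λ X).obj F) U t σ) = (germM ξ F U t).hom σ := by
  have : PreservesFilteredColimitsOfSize.{u, u} (G Λ) := ⟨fun _ _ _ => inferInstance⟩
  have : HasColimitsOfSize.{u, u} (ModuleCat.{u + 1} Λ) :=
    hasColimitsOfSizeShrink.{u, u, u + 1, u + 1} _
  exact ⟨((Scheme.pointSmallEtale ξ).presheafFiberCompIso (G Λ)).app F.obj, fun U t σ =>
    ConcreteCategory.congr_hom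
      ((Scheme.pointSmallEtale ξ).toPresheafFiber_presheafFiberCompIso_hom_app (G Λ) U t F.obj) σ⟩

/-- Trivializing sections compute the stalks. -/
theorem stalkBijM_linearEquiv {F : EtModW.Mod Λ X} {U : X.Etale} {M : Type (u + 1)} [AddCommGroup M]
    [Module Λ M] {s : M →ₗ[Λ] EtModW.sect Λ F U} (hs : StalkBijM F U s)
    (t : (Scheme.pointSmallEtale ξ).fiber.obj U) :
    Nonempty (M ≃ₗ[Λ] (EtModW.stalk Λ ξ).obj F) := by
  obtain ⟨e, he⟩ := exists_stalk_forget ξ F
  refine ⟨LinearEquiv.ofBijective ((germM ξ F U t).hom.comp s) ?_⟩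
  have h : (fun a => (germM ξ F U t).hom (s a)) =
      e.hom ∘ fun a => germ ξ ((toAb Λ X).obj F) U t (s a) := funext fun a => (he U t (s a)).symm
  exact (congrArg Function.Bijective h).mpr
    (((ConcreteCategory.isIso_iff_bijective e.hom).1 inferInstance).comp (hs Ω _ _ ξ t))

/-- Stalks of finite type locally constant sheaves are finite modules. -/
theorem finite_stalk_of_isFT {F : EtModW.Mod Λ X} (hF : EtModW.IsFTLocConst Λ F) :
    Module.Finite Λ ((EtModW.stalk Λ ξ).obj F) := by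
  obtain ⟨U, ⟨y, hy⟩, M, _, _, hM, s, hs⟩ := isFT_iff.1 hF (ξ.base default)
  obtain ⟨t, -⟩ := exists_fiber_of_point ξ U y hy
  obtain ⟨e⟩ := stalkBijM_linearEquiv ξ hs t
  exact Module.Finite.equiv e

omit [IsSepClosed Ω] in
/-- Geometric points lift through immersions containing their image. -/
theorem exists_lift_immersion {T : Scheme.{u}} (g : T ⟶ X) [IsImmersion g]
    (h : ξ.base default ∈ Set.range g) :
    ∃ ξ' : Spec (CommRingCat.of Ω) ⟶ T, ξ' ≫ g = ξ := by
  let q : pullback g ξ ⟶ Spec (CommRingCat.of Ω) := pullback.snd g ξ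
  have : IsImmersion q := MorphismProperty.pullback_snd _ _ inferInstance
  obtain ⟨t, ht⟩ := h
  obtain ⟨z, -, hz⟩ := Scheme.Pullback.exists_preimage_pullback (f := g) (g := ξ) t default ht
  have : Surjective q := ⟨fun w => ⟨z, hz.trans (Subsingleton.elim _ _)⟩⟩
  have : IsClosedImmersion q := IsClosedImmersion.of_isPreimmersion q (by
    rw [q.surjective.range_eq]; exact isClosed_univ)
  have := isIso_of_isClosedImmersion_of_surjective q
  exact ⟨inv q ≫ pullback.fst g ξ, by rw [Category.assoc, pullback.condition, IsIso.inv_hom_id_assoc]⟩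

/-- Stalks of constructible sheaves are finite modules. -/
theorem finite_stalk_of_isConstructible {F : EtModW.Mod Λ X} (hF : EtModW.IsConstructible Λ F) :
    Module.Finite Λ ((EtModW.stalk Λ ξ).obj F) := by
  obtain ⟨U, hU, hxU, -⟩ := exists_isAffineOpen_mem_and_subset (U := ⊤) (Set.mem_univ (ξ.base default))
  obtain ⟨n, T, g, hg, -, -, hu, hFT⟩ := hF U hU
  obtain ⟨i, hi⟩ := Set.mem_iUnion.1 (hu.ge hxU)
  have := hg i
  obtain ⟨ξ', rfl⟩ := exists_lift_immersion ξ (g i) hi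
  have : Module.Finite Λ ↑((EtModW.pull Λ (g i) ⋙ EtModW.stalk Λ ξ').obj F) :=
    finite_stalk_of_isFT ξ' (hFT i)
  exact Module.Finite.equiv ((PullModExact.stalkPullModIso Λ (g i) ξ').app F).symm.toLinearEquiv

/-- Stalks on sheaves of modules are exact. -/
theorem preservesFiniteLimits_stalkMod : PreservesFiniteLimits (EtModW.stalk Λ ξ) := by
  have : HasColimitsOfSize.{u, u} (ModuleCat.{u + 1} Λ) :=
    hasColimitsOfSizeShrink.{u, u, u + 1, u + 1} _
  have : PreservesFilteredColimitsOfSize.{u, u} (forget (ModuleCat.{u + 1} Λ)) :=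
    preservesFilteredColimitsOfSize_shrink.{u, u + 1, u, u + 1} _
  have : AB5OfSize.{u, u} (ModuleCat.{u + 1} Λ) := AB5OfSize_shrink.{u, u, u + 1, u + 1} _
  infer_instance

/-- Adic up to translation systems have adic up to translation stalks. -/
theorem isARAdic_stalk (I : Ideal Λ) (F : ARSys.PS (EtModW.Mod Λ X))
    (hF : ARSys.TermKilled I F ∧ ∃ (Y : ARSys.PS (EtModW.Mod Λ X)) (v : Y ⟶ F), ARSys.IsAdic I Y ∧
      (∀ n : ℕ, EtModW.IsConstructible Λ (Y.obj (op n))) ∧ ARSys.IsARIso v) :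
    ARSys.TermKilled I (F ⋙ EtModW.stalk Λ ξ) ∧ ∃ (Y : ARSys.PS (ModuleCat.{u + 1} Λ))
      (v : Y ⟶ F ⋙ EtModW.stalk Λ ξ), ARSys.IsAdic I Y ∧ (∀ n : ℕ, Module.Finite Λ (Y.obj (op n))) ∧
        ARSys.IsARIso v := by
  have : HasProductsOfShape.{u} PUnit (ModuleCat.{u + 1} Λ) := inferInstance
  have : HasLimitsOfSize.{u, u} (ModuleCat.{u + 1} Λ) := ModuleCat.hasLimitsOfSize.{u, u, u + 1, u + 1}
  let adj := (Scheme.pointSmallEtale ξ).skyscraperSheafAdjunction (A := ModuleCat.{u + 1} Λ)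
  have := preservesFiniteLimits_stalkMod (Λ := Λ) ξ
  have : PreservesFiniteColimits (EtModW.stalk Λ ξ) :=
    have : PreservesColimitsOfSize.{0, 0} (EtModW.stalk Λ ξ) := adj.leftAdjoint_preservesColimits
    PreservesColimitsOfSize.preservesFiniteColimits _
  have : PreservesBinaryBiproducts (EtModW.stalk Λ ξ) :=
    preservesBinaryBiproducts_of_preservesBinaryCoproducts _
  have : (EtModW.stalk Λ ξ).Additive := Functor.additive_of_preservesBinaryBiproducts _
  obtain ⟨hk, Y, v, hY, hYc, hv⟩ := hF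
  have hR : ∀ {Z Z' : ModuleCat.{u + 1} Λ} (g : Z ⟶ Z') (a : Λ),
      (Scheme.pointSmallEtale ξ).skyscraperSheafFunctor.map (a • g) =
        a • (Scheme.pointSmallEtale ξ).skyscraperSheafFunctor.map g := fun g a => by
    refine Sheaf.hom_ext (NatTrans.ext (funext fun T => ?_))
    change (Limits.Pi.map fun _ => a • g) = a • (Limits.Pi.map fun _ => g)
    ext i : 1
    simp
  exact ⟨fun n => AdicP.killedBy_map adj hR _ (hk n), Y ⋙ EtModW.stalk Λ ξ,
    Functor.whiskerRight v _, AR.isAdic_map _ adj hR hY,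
    fun n => finite_stalk_of_isConstructible ξ (hYc n), AR.isARIso_map _ v hv⟩

omit [IsSepClosed Ω] in
/-- Adic up to translation systems pull back. -/
theorem isARAdic_pull (I : Ideal Λ) {X' : Scheme.{u}} (f : X' ⟶ X) (F : ARSys.PS (EtModW.Mod Λ X))
    (hF : ARSys.TermKilled I F ∧ ∃ (Y : ARSys.PS (EtModW.Mod Λ X)) (v : Y ⟶ F), ARSys.IsAdic I Y ∧
      (∀ n : ℕ, EtModW.IsConstructible Λ (Y.obj (op n))) ∧ ARSys.IsARIso v) :
    ARSys.TermKilled I (F ⋙ EtModW.pull Λ f) ∧ ∃ (Y : ARSys.PS (EtModW.Mod Λ X'))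
      (v : Y ⟶ F ⋙ EtModW.pull Λ f), ARSys.IsAdic I Y ∧
        (∀ n : ℕ, EtModW.IsConstructible Λ (Y.obj (op n))) ∧ ARSys.IsARIso v := by
  have := Groth.PullModExact.preservesFiniteLimits_pull Λ f
  obtain ⟨hk, Y, v, hY, hYc, hv⟩ := hF
  have hR : ∀ {Z Z' : EtModW.Mod Λ X'} (g : Z ⟶ Z') (a : Λ),
      (EtModW.push Λ f).map (a • g) = a • (EtModW.push Λ f).map g := fun g a => rfl
  exact ⟨fun n => AdicP.killedBy_map (FixPt.pullPushAdj f) hR _ (hk n), Y ⋙ EtModW.pull Λ f,
    Functor.whiskerRight v _, AR.isAdic_map _ (FixPt.pullPushAdj f) hR hY,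
    fun n => isConstructibleMod_pull f (hYc n), AR.isARIso_map _ v hv⟩

end Groth.EtaleDeep.Cons
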