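import Groth.Agent.EtaleBase.SitePoints
import Groth.Agent.EtaleDeep.Cons.StalkMod
import Groth.Agent.SGA7.UnitOnProduct
import Mathlib.CategoryTheory.Sites.Point.Category
import Mathlib.AlgebraicGeometry.Morphisms.UniversallyOpen

/-!
# Specialization maps between geometric stalks
-/

set_option autoImplicit false
set_option backward.isDefEq.respectTransparency.types false
set_option linter.style.haveILetI false

universe u

open CategoryTheory CategoryTheory.Limits AlgebraicGeometry Opposite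

namespace Groth.EtaleDeep.Cons

open Groth.EtaleBase Groth.EtaleBase.SitePt

variable {X : Scheme.{u}} {Ω : Type u} [Field Ω] [IsSepClosed Ω] {Ω' : Type u} [Field Ω'] [IsSepClosed Ω']
  (η : Spec (CommRingCat.of Ω) ⟶ X) (ξ : Spec (CommRingCat.of Ω') ⟶ X)

/-- The lifts of `η` generalizing a lift of `ξ`. -/
noncomputable def genLifts : (Scheme.pointSmallEtale ξ).fiber.Elements ⥤ Type u where
  obj e := {t : (Scheme.pointSmallEtale η).fiber.obj e.1 // fiberPoint η t ⤳ fiberPoint ξ e.2}
  map {e e'} f := TypeCat.ofHom fun t => ⟨(Scheme.pointSmallEtale η).fiber.map f.1 t.1, by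
    have h : fiberPoint ξ ((Scheme.pointSmallEtale ξ).fiber.map f.1 e.2) = fiberPoint ξ e'.2 :=
      congrArg (fun x => fiberPoint ξ x) f.2
    rw [fiberPoint_map] at h ⊢
    exact h ▸ t.2.map f.1.left.continuous⟩
  map_id e := by
    ext t
    exact congrArg (fun m => m t.1) ((Scheme.pointSmallEtale η).fiber.map_id e.1)
  map_comp {e e' e''} f g := by
    ext t
    exact congrArg (fun m => m t.1) ((Scheme.pointSmallEtale η).fiber.map_comp f.1 g.1)

/-- Specializations of points induce maps of the geometric points of the small etale site. -/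
theorem nonempty_pointHom (h : η.base default ⤳ ξ.base default) :
    Nonempty (Scheme.pointSmallEtale η ⟶ Scheme.pointSmallEtale ξ) := by
  have : IsCofiltered (Scheme.pointSmallEtale ξ).fiber.Elements := (Scheme.pointSmallEtale ξ).isCofiltered
  have hn : ∀ e, Nonempty ((genLifts η ξ).obj e) := fun e => by
    have : AlgebraicGeometry.Etale e.1.hom := e.1.prop
    have hb : e.1.hom.base (fiberPoint ξ e.2) = ξ.base default :=
      congrArg (fun m : Spec (CommRingCat.of Ω') ⟶ X => m.base default) (Over.w e.2)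
    obtain ⟨v, hv, hv'⟩ := Flat.generalizingMap e.1.hom (hb.symm ▸ h)
    obtain ⟨t, ht⟩ := exists_fiber_of_point η e.1 v hv'
    exact ⟨⟨t, by rw [show fiberPoint η t = v from ht]; exact hv⟩⟩
  have hf : ∀ e, Finite ((genLifts η ξ).obj e) := fun e => by
    obtain ⟨N, A, hz, hN, hA, hNA⟩ := exists_affine_nhd e.1 (fiberPoint ξ e.2)
    have : IsAffine (openObj e.1 N).left := hN
    have := finite_fiber_of_affine η (U := openObj e.1 N) hA (fun z => hNA _ z.2)
    have key : ∀ t : (genLifts η ξ).obj e, ∃ t',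
        (Scheme.pointSmallEtale η).fiber.map (openHom e.1 N) t' = t.1 :=
      fun t => exists_lift_open η N t.1 (t.2.mem_open N.isOpen hz)
    choose F hF using key
    exact Finite.of_injective F fun t t' h => Subtype.ext (by rw [← hF t, ← hF t', h])
  obtain ⟨σ, hσ⟩ := nonempty_sections_of_finite_cofiltered_system (genLifts η ξ)
  refine ⟨⟨{ app := fun U => TypeCat.ofHom fun x => (σ (Functor.elementsMk _ U x)).1
             naturality := fun U V g => ?_ }⟩⟩
  ext x
  have h := hσ (j := Functor.elementsMk _ U x)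
    (j' := Functor.elementsMk _ V ((Scheme.pointSmallEtale ξ).fiber.map g x)) ⟨g, rfl⟩
  exact (congrArg Subtype.val h).symm

variable {Λ : Type (u + 1)} [CommRing Λ] {η ξ}

/-- The map of stalks of sheaves of modules induced by a map of geometric points. -/
noncomputable def cospec (φ : Scheme.pointSmallEtale η ⟶ Scheme.pointSmallEtale ξ) :
    EtModW.stalk Λ ξ ⟶ EtModW.stalk Λ η :=
  have : HasColimitsOfSize.{u, u} (ModuleCat.{u + 1} Λ) :=
    hasColimitsOfSizeShrink.{u, u, u + 1, u + 1} _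
  φ.sheafFiber

/-- Specialization maps of finite type locally constant sheaves are bijective. -/
theorem isIso_cospec {F : EtModW.Mod Λ X} (hF : EtModW.IsFTLocConst Λ F)
    (φ : Scheme.pointSmallEtale η ⟶ Scheme.pointSmallEtale ξ) : IsIso ((cospec φ).app F) := by
  have : HasColimitsOfSize.{u, u} (ModuleCat.{u + 1} Λ) :=
    hasColimitsOfSizeShrink.{u, u, u + 1, u + 1} _
  obtain ⟨U, ⟨y, hy⟩, M, _, _, hM, s, hs⟩ := isFT_iff.1 hF (ξ.base default)
  obtain ⟨t, -⟩ := exists_fiber_of_point ξ U y hy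
  rw [ConcreteCategory.isIso_iff_bijective]
  have key : ∀ {Ω₀ : Type u} [Field Ω₀] [IsSepClosed Ω₀] (ζ : Spec (CommRingCat.of Ω₀) ⟶ X)
      (t₀ : (Scheme.pointSmallEtale ζ).fiber.obj U),
      Function.Bijective fun a => (germM ζ F U t₀).hom (s a) := by
    intro Ω₀ _ _ ζ t₀
    obtain ⟨e, he⟩ := exists_stalk_forget ζ F
    exact (congrArg Function.Bijective (funext fun a => (he U t₀ (s a)).symm : _ = e.hom ∘
      fun a => germ ζ ((toAb Λ X).obj F) U t₀ (s a))).mpr
      (((ConcreteCategory.isIso_iff_bijective e.hom).1 inferInstance).comp (hs Ω₀ _ _ ζ t₀))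
  have hc : (fun a => (germM η F U (φ.hom.app U t)).hom (s a)) =
      ((cospec φ).app F).hom ∘ fun a => (germM ξ F U t).hom (s a) := funext fun a => by
    have := congrArg (fun m => m.hom (s a))
      ((Scheme.pointSmallEtale ξ).toPresheafFiber_presheafFiberDesc
        (P := F.obj) (fun V x => (Scheme.pointSmallEtale η).toPresheafFiber V (φ.hom.app V x) F.obj)
        (fun V W f x => by
          rw [GrothendieckTopology.Point.toPresheafFiber_w, NatTrans.naturality_apply φ.hom f x]) U t)
    exact this.symm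
  exact (key ξ t).of_comp_iff _ |>.1 (hc ▸ key η (φ.hom.app U t))

/-- Systems of locally constant sheaves have isomorphic stalks at all geometric points. -/
theorem nonempty_stalkIso [IsNoetherian X] [ConnectedSpace X] {J : Type*} [Category J]
    (F : J ⥤ EtModW.Mod Λ X) (hF : ∀ j, EtModW.IsFTLocConst Λ (F.obj j))
    (η : Spec (CommRingCat.of Ω) ⟶ X) (ξ : Spec (CommRingCat.of Ω') ⟶ X) :
    Nonempty ((F ⋙ EtModW.stalk Λ η) ≅ (F ⋙ EtModW.stalk Λ ξ)) := by
  have spec : ∀ {Ω₁ : Type u} [Field Ω₁] [IsSepClosed Ω₁] {Ω₂ : Type u} [Field Ω₂] [IsSepClosed Ω₂]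
      (a : Spec (CommRingCat.of Ω₁) ⟶ X) (b : Spec (CommRingCat.of Ω₂) ⟶ X),
      a.base default ⤳ b.base default →
        Nonempty ((F ⋙ EtModW.stalk Λ b) ≅ (F ⋙ EtModW.stalk Λ a)) := by
    intro Ω₁ _ _ Ω₂ _ _ a b hab
    obtain ⟨φ⟩ := nonempty_pointHom a b hab
    have : ∀ j, IsIso ((Functor.whiskerLeft F (cospec (Λ := Λ) φ)).app j) := fun j => isIso_cospec (hF j) φ
    have := NatIso.isIso_of_isIso_app (Functor.whiskerLeft F (cospec (Λ := Λ) φ))
    exact ⟨asIso (Functor.whiskerLeft F (cospec (Λ := Λ) φ))⟩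
  let v : X → Prop := fun x => Nonempty ((F ⋙ EtModW.stalk Λ η) ≅ (F ⋙ EtModW.stalk Λ (geomPoint x)))
  have hv : ∀ x y : X, x ⤳ y → v x = v y := fun x y hxy => by
    obtain ⟨e⟩ := spec (geomPoint x) (geomPoint y) (by rwa [geomPoint_apply, geomPoint_apply])
    exact propext ⟨fun ⟨i⟩ => ⟨i ≪≫ e.symm⟩, fun ⟨i⟩ => ⟨i ≪≫ e⟩⟩
  obtain ⟨e₁⟩ := spec (geomPoint (η.base default)) η (by rw [geomPoint_apply])
  obtain ⟨e₂⟩ : v (ξ.base default) :=
    Groth.SGA7.UnitOnProduct.const_of_specializes v hv (η.base default) (ξ.base default) ▸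
      (⟨e₁⟩ : v (η.base default))
  obtain ⟨e₃⟩ := spec ξ (geomPoint (ξ.base default)) (by rw [geomPoint_apply])
  exact ⟨e₂ ≪≫ e₃⟩

end Groth.EtaleDeep.Cons
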