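import Groth.Agent.EtaleDeep.Cons.StalkMod
import Groth.Agent.EtaleDeep.Cons.Noetherian
import Groth.Agent.EtaleDeep.Cons.Specialize
import Groth.Agent.EtaleDeep.AR.Criteria
import Groth.Agent.S13621

/-!
# Systems of constructible sheaves which are adic up to translation
-/

set_option autoImplicit false
set_option backward.isDefEq.respectTransparency.types false
set_option linter.style.haveILetI false

universe u

open CategoryTheory CategoryTheory.Limits AlgebraicGeometry Opposite

namespace Groth.EtaleDeep.Cons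

open Groth.EtaleBase Groth.EtaleDeep

variable {Λ : Type (u + 1)} [CommRing Λ] {X : Scheme.{u}}

/-- Morphisms of sheaves of modules vanish when they vanish on stalks. -/
theorem eq_zero_of_stalk {F G : EtModW.Mod Λ X} (g : F ⟶ G)
    (h : ∀ x : X, (EtModW.stalk Λ (geomPoint x)).map g = 0) : g = 0 := by
  have : IsIso (kernel.ι g) := isIso_of_stalk _ fun x => by
    have := preservesFiniteLimits_stalkMod (Λ := Λ) (geomPoint x)
    have hz : (EtModW.stalk Λ (geomPoint x)).PreservesZeroMorphisms := inferInstance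
    rw [← ConcreteCategory.isIso_iff_bijective, ← kernelComparison_comp_ι g (EtModW.stalk Λ (geomPoint x)),
      ← PreservesKernel.iso_hom]
    have : IsSplitEpi (kernel.ι ((EtModW.stalk Λ (geomPoint x)).map g)) :=
      IsSplitEpi.mk' ⟨kernel.lift _ (𝟙 _) (by rw [Category.id_comp, h x]), kernel.lift_ι _ _ _⟩
    have : IsIso (kernel.ι ((EtModW.stalk Λ (geomPoint x)).map g)) := isIso_of_mono_of_isSplitEpi _
    infer_instance
  rw [← cancel_epi (kernel.ι g), kernel.condition, comp_zero]

section exact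

variable {Ω : Type u} [Field Ω] [IsSepClosed Ω] (ξ : Spec (CommRingCat.of Ω) ⟶ X)

theorem preservesFiniteColimits_stalkMod : PreservesFiniteColimits (EtModW.stalk Λ ξ) := by
  have : HasProductsOfShape.{u} PUnit (ModuleCat.{u + 1} Λ) := inferInstance
  have : HasLimitsOfSize.{u, u} (ModuleCat.{u + 1} Λ) := ModuleCat.hasLimitsOfSize.{u, u, u + 1, u + 1}
  have : PreservesColimitsOfSize.{0, 0} (EtModW.stalk Λ ξ) :=
    ((Scheme.pointSmallEtale ξ).skyscraperSheafAdjunction
      (A := ModuleCat.{u + 1} Λ)).leftAdjoint_preservesColimits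
  exact PreservesColimitsOfSize.preservesFiniteColimits _

theorem additive_stalkMod : (EtModW.stalk Λ ξ).Additive := by
  have := preservesFiniteColimits_stalkMod (Λ := Λ) ξ
  have : PreservesBinaryBiproducts (EtModW.stalk Λ ξ) :=
    preservesBinaryBiproducts_of_preservesBinaryCoproducts _
  exact Functor.additive_of_preservesBinaryBiproducts _

/-- Stalks preserve quotients modulo ideals. -/
theorem isQuot_stalk {I : Ideal Λ} {F Q : EtModW.Mod Λ X} {q : F ⟶ Q} (hq : ARSys.IsQuot I q) :
    ARSys.IsQuot I ((EtModW.stalk Λ ξ).map q) := by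
  have : HasProductsOfShape.{u} PUnit (ModuleCat.{u + 1} Λ) := inferInstance
  have : HasLimitsOfSize.{u, u} (ModuleCat.{u + 1} Λ) := ModuleCat.hasLimitsOfSize.{u, u, u + 1, u + 1}
  have := preservesFiniteColimits_stalkMod (Λ := Λ) ξ
  have : PreservesBinaryBiproducts (EtModW.stalk Λ ξ) :=
    preservesBinaryBiproducts_of_preservesBinaryCoproducts _
  have : (EtModW.stalk Λ ξ).Additive := Functor.additive_of_preservesBinaryBiproducts _
  refine AdicP.isQuot_map ((Scheme.pointSmallEtale ξ).skyscraperSheafAdjunction (A := ModuleCat.{u + 1} Λ))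
    (fun g a => ?_) _ _ hq
  refine Sheaf.hom_ext (NatTrans.ext (funext fun T => ?_))
  change (Limits.Pi.map fun _ => a • g) = a • (Limits.Pi.map fun _ => g)
  ext i : 1
  simp

end exact

/-- Finitely generated adic systems of modules with zero limit vanish. -/
theorem id_eq_zero_of_isZero_limit {I : Ideal Λ} {Y : ARSys.PS (ModuleCat.{u + 1} Λ)} (hY : ARSys.IsAdic I Y)
    (h : IsZero (limit Y)) : 𝟙 (Y.obj (op 0)) = 0 := by
  refine ModuleCat.hom_ext (LinearMap.ext fun x => ?_)
  have hs := fun n => AR.surjective_tr hY (Nat.le_succ n)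
  let y : ∀ n, Y.obj (op n) := fun n => Nat.rec x (fun n yn => (hs n yn).choose) n
  have hy : ∀ n, (ARSys.tr Y (Nat.le_succ n)).hom (y (n + 1)) = y n := fun n => (hs n (y n)).choose_spec
  let α : (Functor.const ℕᵒᵖ).obj (ModuleCat.of Λ Λ) ⟶ Y :=
    NatTrans.ofOpSequence (fun n => ModuleCat.ofHom (LinearMap.toSpanSingleton Λ _ (y n))) fun n => by
      refine ModuleCat.hom_ext (LinearMap.ext_ring ?_)
      show LinearMap.toSpanSingleton Λ _ (y n) (1 : Λ) =
        (ARSys.tr Y (Nat.le_succ n)).hom (LinearMap.toSpanSingleton Λ _ (y (n + 1)) (1 : Λ))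
      rw [LinearMap.toSpanSingleton_apply, LinearMap.toSpanSingleton_apply, one_smul, one_smul, hy]
  have h0 : α.app (op 0) = 0 := by
    rw [show α.app (op 0) = limit.lift Y (Cone.mk _ α) ≫ limit.π Y (op 0) from (limit.lift_π (Cone.mk _ α) (op 0)).symm,
      h.eq_of_tgt (limit.lift Y (Cone.mk _ α)) 0, zero_comp]
  have := ConcreteCategory.congr_hom h0 (1 : Λ)
  show x = 0
  simpa [α, y] using this

/-- A morphism as an extension of its image by its kernel. -/
theorem shortExact_kernel_image {F G : EtModW.Mod Λ X} (g : F ⟶ G) :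
    (ShortComplex.mk (kernel.ι g) (Abelian.factorThruImage g)
      (by rw [← cancel_mono (Abelian.image.ι g), Category.assoc, Abelian.image.fac, zero_comp,
        kernel.condition])).ShortExact :=
  { exact := by
      rw [ShortComplex.exact_iff_exact_up_to_refinements]
      intro T x hx
      have hx' : x ≫ g = 0 :=
        (congrArg (x ≫ ·) (Abelian.image.fac g)).symm.trans
          (by rw [← Category.assoc, hx, zero_comp])
      exact ⟨T, 𝟙 _, inferInstance, kernel.lift g x hx', by simp⟩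
    mono_f := inferInstanceAs (Mono (kernel.ι g))
    epi_g := inferInstanceAs (Epi (Abelian.factorThruImage g)) }

variable [IsNoetherianRing Λ] (I : Ideal Λ)

/-- The condition that a system of sheaves be adic up to translation. -/
abbrev IsARAdicCons (F : ARSys.PS (EtModW.Mod Λ X)) : Prop :=
  ARSys.TermKilled I F ∧ ∃ (Y : ARSys.PS (EtModW.Mod Λ X)) (v : Y ⟶ F), ARSys.IsAdic I Y ∧
    (∀ n : ℕ, EtModW.IsConstructible Λ (Y.obj (op n))) ∧ ARSys.IsARIso v

variable [AlgebraicGeometry.IsNoetherian X]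

/-- Adic systems receiving constructibility from the systems they approximate. -/
theorem isConstructible_of_kerNull {F Y : ARSys.PS (EtModW.Mod Λ X)} {v : Y ⟶ F} {r : ℕ}
    (hv : AR.KerNull v r) (hY : ARSys.IsStrict Y)
    (hF : ∀ n : ℕ, EtModW.IsConstructible Λ (F.obj (op n))) (n : ℕ) :
    EtModW.IsConstructible Λ (Y.obj (op n)) :=
  AR.finite_app (P := fun G => EtModW.IsConstructible Λ G)
    (fun {a b} f _ hb => isConstructibleMod_of_mono f hb)
    (fun f _ ha => isConstructibleMod_of_epi f ha)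
    (fun S hS h1 h3 => by
      have := hS.epi_kernelLift
      have h1' : EtModW.IsConstructible Λ (kernel S.g) :=
        isConstructibleMod_of_epi (kernel.lift S.g S.f S.zero) h1
      have h3' : EtModW.IsConstructible Λ (Abelian.image S.g) :=
        isConstructibleMod_of_mono (Abelian.image.ι S.g) h3
      have := isConstructibleMod_extension (shortExact_kernel_image S.g) h1' h3'
      exact this)
    (fun {a} ha => by
      have : Mono (0 : a ⟶ F.obj (op 0)) := ⟨fun _ _ _ => ha.eq_of_tgt _ _⟩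
      exact isConstructibleMod_of_mono (0 : a ⟶ F.obj (op 0)) (hF 0))
    v hv hY hF n

theorem isARAdicCons_of_isARAdicNoeth {F : ARSys.PS (EtModW.Mod Λ X)} (h : ARSys.IsARAdic I F)
    (hF : ∀ n : ℕ, EtModW.IsConstructible Λ (F.obj (op n))) : IsARAdicCons I F := by
  obtain ⟨hk, Y, v, hY, hv⟩ := h
  obtain ⟨r, hkv, -⟩ := (AR.isARIso_iff v).1 hv
  exact ⟨hk, Y, v, hY, isConstructible_of_kerNull hkv (AR.isStrict_of_isAdic hY) hF, hv⟩

/-- Kernels and cokernels of morphisms of adic systems. -/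
theorem isARAdicCons_kernel_cokernel {F G : ARSys.PS (EtModW.Mod Λ X)} (hF : ARSys.IsAdic I F)
    (hG : ARSys.IsAdic I G) (hFc : ∀ n : ℕ, EtModW.IsConstructible Λ (F.obj (op n)))
    (hGc : ∀ n : ℕ, EtModW.IsConstructible Λ (G.obj (op n))) (w : F ⟶ G) :
    IsARAdicCons I (kernel w) ∧ IsARAdicCons I (cokernel w) := by
  have hn : ∀ {Z : ARSys.PS (EtModW.Mod Λ X)}, ARSys.IsAdic I Z →
      (∀ n : ℕ, EtModW.IsConstructible Λ (Z.obj (op n))) → ARSys.IsARAdicNoeth I Z := fun {Z} h hc =>
    ⟨⟨h.1, Z, 𝟙 Z, h, AR.isARIso_of_isIso _⟩, fun n => isNoetherianObject_of_isConstructible (hc n)⟩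
  obtain ⟨h1, h2⟩ := AR.isARAdicNoeth_kernel_cokernel w (hn hF hFc) (hn hG hGc)
  refine ⟨isARAdicCons_of_isARAdicNoeth I h1.1 fun n => ?_, isARAdicCons_of_isARAdicNoeth I h2.1 fun n => ?_⟩
  · have := AR.mono_app (kernel.ι w) (op n)
    exact isConstructibleMod_of_mono ((kernel.ι w).app (op n)) (hFc n)
  · have := AR.epi_app (cokernel.π w) (op n)
    exact isConstructibleMod_of_epi ((cokernel.π w).app (op n)) (hGc n)

/-- Chains of subsystems which are adic up to translation are stationary up to translation. -/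
theorem chain_eventually_isARIso {F : ARSys.PS (EtModW.Mod Λ X)} (hF : ARSys.IsAdic I F)
    (hFc : ∀ n : ℕ, EtModW.IsConstructible Λ (F.obj (op n))) (Z : ℕ →o Subobject F)
    (hZ : ∀ k : ℕ, IsARAdicCons I (Subobject.underlying.obj (Z k) : ARSys.PS (EtModW.Mod Λ X))) :
    ∃ k₀ : ℕ, ∀ k : ℕ, k₀ ≤ k →
      ARSys.IsARIso (Subobject.ofLE (Z k) (Z (k + 1)) (Z.monotone (Nat.le_succ k))) := by
  choose hk Y v hY hYc hv using hZ
  choose r hvk hvc using fun k => (AR.isARIso_iff (v k)).1 (hv k)
  let f : ∀ k, Y k ⟶ F := fun k => v k ≫ (Z k).arrow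
  have hle : ∀ k, imageSubobject (f k) ≤ imageSubobject (f (k + 1)) := fun k => by
    refine (AR.imageSubobject_le_iff _ _).2 fun W p hp => NatTrans.ext (funext fun ⟨n⟩ => ?_)
    let j := Subobject.ofLE (Z k) (Z (k + 1)) (Z.monotone (Nat.le_succ k))
    have hp' : (v (k + 1)).app (op n) ≫ (Z (k + 1)).arrow.app (op n) ≫ p.app (op n) = 0 := by
      rw [← Category.assoc]
      exact congrArg (fun t => NatTrans.app t (op n)) hp
    have h1 : ARSys.tr (Subobject.underlying.obj (Z (k + 1)) : ARSys.PS (EtModW.Mod Λ X))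
        (Nat.le_add_right n (r (k + 1))) ≫ (Z (k + 1)).arrow.app (op n) ≫ p.app (op n) = 0 :=
      hvc (k + 1) _ le_rfl _ hp'
    have := AR.isStrict_of_isAdic (hY k) n (n + r (k + 1)) (Nat.le_add_right _ _)
    show (f k ≫ p).app (op n) = 0
    rw [← cancel_epi (ARSys.tr (Y k) (Nat.le_add_right n (r (k + 1)))), comp_zero, NatTrans.comp_app,
      NatTrans.comp_app, Category.assoc, reassoc_of% (AR.tr_naturality (v k)),
      show (Z k).arrow.app (op n) = j.app (op n) ≫ (Z (k + 1)).arrow.app (op n) by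
        rw [← NatTrans.comp_app, Subobject.ofLE_arrow],
      Category.assoc, reassoc_of% (AR.tr_naturality j), h1, comp_zero, comp_zero]
  obtain ⟨k₀, hk₀⟩ := AR.strict_chain_stationary
    (⟨hF, fun n => isNoetherianObject_of_isConstructible (hFc n)⟩ : ARSys.IsAdicNoeth I F)
    ⟨fun k => imageSubobject (f k), monotone_nat_of_le_succ hle⟩
    (fun k => AR.isStrict_of_epi (factorThruImageSubobject (f k)) (AR.isStrict_of_isAdic (hY k)))
  refine ⟨k₀, fun k hkk => ?_⟩
  have hsub : imageSubobject (f (k + 1)) ≤ Z k := by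
    have e1 : imageSubobject (f (k + 1)) = imageSubobject (f k) :=
      (hk₀ (k + 1) (by omega)).trans (hk₀ k hkk).symm
    rw [e1]
    exact imageSubobject_le _ (v k) rfl
  let b : Y (k + 1) ⟶ _ := factorThruImageSubobject (f (k + 1)) ≫ Subobject.ofLE _ _ hsub
  have hb : b ≫ Subobject.ofLE (Z k) (Z (k + 1)) (Z.monotone (Nat.le_succ k)) = v (k + 1) := by
    rw [← cancel_mono (Z (k + 1)).arrow]
    simp [b, f]
  refine (AR.isARIso_iff _).2 ⟨r (k + 1), AR.kerNull_of_mono _ _, fun n m h hle' W p hp => ?_⟩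
  refine hvc (k + 1) h hle' p ?_
  rw [← hb, NatTrans.comp_app, Category.assoc, hp, comp_zero]

/-- Systems adic up to translation are null when the limits of their stalk systems vanish. -/
theorem isARNull_iff_limit {F : ARSys.PS (EtModW.Mod Λ X)} (hF : IsARAdicCons I F) :
    ARSys.IsARNull F ↔ ∀ (Ω : Type u) [Field Ω] [IsSepClosed Ω] (x : Spec (CommRingCat.of Ω) ⟶ X),
      IsZero (limit (F ⋙ EtModW.stalk Λ x)) := by
  constructor
  · rintro ⟨r, hr⟩ Ω _ _ x
    have := preservesFiniteColimits_stalkMod (Λ := Λ) x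
    refine AR.isZero_limit_of_isARNull ⟨r, fun n => ?_⟩
    show (EtModW.stalk Λ x).map (ARSys.shiftMap F r n) = 0
    rw [hr n, Functor.map_zero]
  · intro h
    obtain ⟨-, Y, v, hY, -, hv⟩ := hF
    obtain ⟨r, -, hvc⟩ := (AR.isARIso_iff v).1 hv
    refine AR.isARNull_of_cokNull hvc fun n => eq_zero_of_stalk _ fun x => ?_
    have := preservesFiniteLimits_stalkMod (Λ := Λ) (geomPoint x)
    have := preservesFiniteColimits_stalkMod (Λ := Λ) (geomPoint x)
    have := additive_stalkMod (Λ := Λ) (geomPoint x)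
    have hYx : ARSys.IsAdic I (Y ⋙ EtModW.stalk Λ (geomPoint x)) := isAdic_stalk _ hY
    have hiso := Groth.Agent.S13621.result _ (AR.isARIso_map (EtModW.stalk Λ (geomPoint x)) v hv)
    have h0 := AR.id_eq_zero_of_isAdic hYx
      (id_eq_zero_of_isZero_limit hYx ((h _ (geomPoint x)).of_iso
        (@asIso _ _ _ _ (limMap (Functor.whiskerRight v (EtModW.stalk Λ (geomPoint x)))) hiso))) n
    exact ((IsZero.iff_id_eq_zero _).2 h0).eq_of_src _ _

/-- Locally constant systems on a connected scheme are adic up to translation if one stalk system is. -/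
theorem isARAdicCons_of_stalk [ConnectedSpace X] {F : ARSys.PS (EtModW.Mod Λ X)}
    (hc : ∀ n : ℕ, EtModW.IsConstructible Λ (F.obj (op n)))
    (hl : ∀ n : ℕ, EtModW.IsFTLocConst Λ (F.obj (op n))) (hk : ARSys.TermKilled I F)
    {Ω : Type u} [Field Ω] [IsSepClosed Ω] (s : Spec (CommRingCat.of Ω) ⟶ X)
    {Y : ARSys.PS (ModuleCat.{u + 1} Λ)} {v : Y ⟶ F ⋙ EtModW.stalk Λ s} (hY : ARSys.IsAdic I Y)
    (hv : ARSys.IsARIso v) : IsARAdicCons I F := by
  obtain ⟨a, hvk, hvc⟩ := (AR.isARIso_iff v).1 hv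
  have hst := AR.isStrict_of_isAdic hY
  have hx : ∀ x : X, ∃ v' : Y ⟶ F ⋙ EtModW.stalk Λ (geomPoint x), AR.KerNull v' a ∧ AR.CokNull v' a :=
    fun x => by
      obtain ⟨e⟩ := nonempty_stalkIso F (fun o => hl o.unop) s (geomPoint x)
      exact ⟨v ≫ e.hom, (hvk.comp (AR.kerNull_of_mono e.hom 0)).mono (by omega),
        (hvc.comp (AR.cokNull_of_epi e.hom 0)).mono (by omega)⟩
  choose v' hk' hc' using hx
  obtain ⟨r, hr⟩ : ∃ r, ∀ x : X, AR.MLKills (F ⋙ EtModW.stalk Λ (geomPoint x)) r :=
    ⟨a, fun x => fun n m hm _ W p hp k hk₁ hk₂ => hc' x hk₁ hk₂ p (by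
      have := hst n m hm
      rw [← cancel_epi (ARSys.tr Y hm), comp_zero, ← Category.assoc, AR.tr_naturality, Category.assoc, hp,
        comp_zero])⟩
  have hrF : AR.MLKills F r := by
    intro n m hm hle W p hp k hk₁ hk₂
    suffices h0 : ARSys.tr F hk₁ ≫ cokernel.π (ARSys.tr F hm) = 0 by
      rw [← cokernel.π_desc (ARSys.tr F hm) p hp, ← Category.assoc, h0, zero_comp]
    refine eq_zero_of_stalk _ fun x => ?_
    have := preservesFiniteColimits_stalkMod (Λ := Λ) (geomPoint x)
    rw [Functor.map_comp]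
    refine hr x hm hle _ ?_ hk₁ hk₂
    show (EtModW.stalk Λ (geomPoint x)).map (ARSys.tr F hm) ≫ _ = 0
    rw [← Functor.map_comp, cokernel.condition, Functor.map_zero]
  obtain ⟨F', ι, _, hF', hι, -⟩ := AR.exists_univImages hrF
  have hkF' : ARSys.TermKilled I F' := AR.termKilled_of_mono ι hk
  have hInI : ∀ n, ∀ ⦃T : EtModW.Mod Λ X⦄ (y : T ⟶ F'.obj (op n)), AR.InF F' n n y →
      AR.InI (I ^ (n - a)) y := by
    intro n T y hy
    obtain ⟨Q, q, hq⟩ := AR.exists_isQuot (I := I ^ (n - a)) (A := Λ)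
      (Or.inl (IsNoetherian.noetherian (I ^ (n - a)))) (F'.obj (op n))
    refine AR.IsQuot.inI hq (eq_zero_of_stalk _ fun x => ?_)
    let L := EtModW.stalk Λ (geomPoint x)
    have := preservesFiniteLimits_stalkMod (Λ := Λ) (geomPoint x)
    have := preservesFiniteColimits_stalkMod (Λ := Λ) (geomPoint x)
    let ι' : F' ⋙ L ⟶ F ⋙ L := Functor.whiskerRight ι L
    have : ∀ o, Mono (ι'.app o) := fun o => by
      have := AR.mono_app ι o
      exact inferInstanceAs (Mono (L.map (ι.app o)))
    have : Mono ι' := NatTrans.mono_of_mono_app ι'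
    have hstrict : ARSys.IsStrict (F' ⋙ L) := fun i j hij => by
      have := hF' i j hij
      exact inferInstanceAs (Epi (L.map (ARSys.tr F' hij)))
    obtain ⟨s', -, hsk, hse⟩ := AR.exists_lift_univImages hst (hk' x) (hc' x) ι' hstrict (r := r)
      fun i W p hp => by
        have h1 : (cokernel.π (ι.app (op i)) : _ ⟶ _) = cokernel.π (ι.app (op i)) := rfl
        have h2 : L.map (ARSys.tr F (Nat.le_add_right i r) ≫ cokernel.π (ι.app (op i))) = 0 := by
          rw [hι (Nat.le_add_right i r) le_rfl _ (cokernel.condition _), Functor.map_zero]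
        rw [Functor.map_comp] at h2
        have hc0 : L.map (ι.app (op i)) ≫ p = 0 := hp
        have hd : p = L.map (cokernel.π (ι.app (op i))) ≫ (PreservesCokernel.iso L (ι.app (op i))).hom ≫
            cokernel.desc (L.map (ι.app (op i))) p hc0 := by
          rw [← Category.assoc, PreservesCokernel.π_iso_hom, cokernel.π_desc]
        show L.map (ARSys.tr F (Nat.le_add_right i r)) ≫ p = 0
        rw [hd, ← Category.assoc, h2, zero_comp]
    have hin := AR.inI_of_epi_adic hY hsk hse n (L.map y) (fun l hl hlq => by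
      show L.map y ≫ L.map (ARSys.tr F' hl) = 0
      rw [← Functor.map_comp, hy l hl hlq, Functor.map_zero])
    rw [Functor.map_comp]
    exact hin _ (AR.homKilledBy_of_killedBy_target _ (isQuot_stalk (geomPoint x) hq).1)
  have hAR := AR.isARAdic_of_arIso ((AR.isARIso_iff ι).2 ⟨r, AR.kerNull_of_mono ι r, hι⟩)
    (AR.isARAdic_of_fker_le (Or.inl (IsNoetherian.noetherian I)) hF' hkF' a hInI) hk
  exact isARAdicCons_of_isARAdicNoeth I hAR hc

end Groth.EtaleDeep.Cons
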