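import Groth.Agent.EtaleDeep.Cons.Mod
import Groth.Agent.EtaleDeep.Eps.Module

/-!
# Constructible sheaves of modules on the pro-etale site
-/

set_option autoImplicit false
set_option backward.isDefEq.respectTransparency.types false
set_option linter.style.haveILetI false

universe u

open CategoryTheory CategoryTheory.Limits AlgebraicGeometry Opposite

namespace Groth.EtaleDeep.Cons

variable {Λ : Type (u + 1)} [CommRing Λ] {X : Scheme.{u}}

theorem isFT_of_isZero {F : EtModW.Mod Λ X} (hF : IsZero F) : EtModW.IsFTLocConst Λ F := by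
  rw [isFT_iff]
  intro x
  refine ⟨Scheme.Etale.mk (𝟙 X), ⟨x, rfl⟩, PUnit, inferInstance, inferInstance, inferInstance, 0,
    fun Ω _ _ ξ t => ?_⟩
  have := AddCommGrpCat.subsingleton_of_isZero
    ((EtCoh.stalk ξ).map_isZero ((toAb Λ X).map_isZero hF))
  exact ⟨fun a b _ => Subsingleton.elim a b, fun z => ⟨0, Subsingleton.elim _ _⟩⟩

theorem isConstructibleMod_of_isZero {F : EtModW.Mod Λ X} (hF : IsZero F) :
    EtModW.IsConstructible Λ F := fun U _ =>
  ⟨1, fun _ => U.toScheme, fun _ => U.ι, fun _ => inferInstance,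
    fun _ => by
      rw [Scheme.Opens.range_ι, Subtype.coe_preimage_self]
      exact Topology.IsConstructible.univ,
    fun i j h => absurd (Subsingleton.elim i j) h,
    by rw [Set.iUnion_const, Scheme.Opens.range_ι],
    fun _ => isFT_of_isZero ((EtModW.pull Λ U.ι).map_isZero hF)⟩

variable [ProEtS.EpsCont X]

theorem additive_epsPull : (EtModW.epsPullMod Λ X).Additive := by
  have : PreservesFiniteColimits (EtModW.epsPullMod Λ X) := by
    have : PreservesColimitsOfSize.{0, 0} (EtModW.epsPullMod Λ X) :=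
      (Eps.epsAdjMod Λ (X := X)).leftAdjoint_preservesColimits
    exact PreservesColimitsOfSize.preservesFiniteColimits (EtModW.epsPullMod Λ X)
  have : PreservesBinaryBiproducts (EtModW.epsPullMod Λ X) :=
    preservesBinaryBiproducts_of_preservesBinaryCoproducts _
  exact Functor.additive_of_preservesBinaryBiproducts _

/-- `ε⁻¹` on sheaves of modules is exact. -/
theorem preservesFiniteLimits_epsPullMod : PreservesFiniteLimits (EtModW.epsPullMod Λ X) := by
  have := additive_epsPull (Λ := Λ) (X := X)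
  have := Eps.epsPull_preservesFiniteLimits (X := X)
  have : (ProEtS.epsPull X).Additive := (ProEtS.epsAdj X).left_adjoint_additive
  have : PreservesFiniteColimits (ProEtS.epsPull X) :=
    have : PreservesColimitsOfSize.{0, 0} (ProEtS.epsPull X) :=
      (ProEtS.epsAdj X).leftAdjoint_preservesColimits
    PreservesColimitsOfSize.preservesFiniteColimits _
  refine (Functor.preservesFiniteLimits_iff_forall_exact_map_and_mono _).2 fun S hS => ?_
  have hA : (S.map (toAb Λ X)).ShortExact := hS.map_of_exact (toAb Λ X)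
  have hP := hA.map_of_exact (ProEtS.epsPull X)
  have := Eps.isIso_cmpMod Λ S.X₁
  have := Eps.isIso_cmpMod Λ S.X₂
  have := Eps.isIso_cmpMod Λ S.X₃
  let e : ((S.map (toAb Λ X)).map (ProEtS.epsPull X)) ≅
      (S.map (EtModW.epsPullMod Λ X)).map (Eps.toAbP Λ X) :=
    ShortComplex.isoMk (@asIso _ _ _ _ _ (Eps.isIso_cmpMod Λ S.X₁)) (@asIso _ _ _ _ _ (Eps.isIso_cmpMod Λ S.X₂))
      (@asIso _ _ _ _ _ (Eps.isIso_cmpMod Λ S.X₃)) ((Eps.cmpMod Λ).naturality S.f).symm
      ((Eps.cmpMod Λ).naturality S.g).symm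
  have hP' := ShortComplex.shortExact_of_iso e hP
  refine ⟨(ShortComplex.exact_map_iff_of_faithful _ (Eps.toAbP Λ X)).1 hP'.exact, ?_⟩
  exact (Eps.toAbP Λ X).mono_of_mono_map hP'.mono_f

variable (X) (Λ) in
/-- A constructible sheaf on the pro-etale site. -/
abbrev ConsP : ObjectProperty (EtModW.ModP Λ X) := fun F =>
  ∃ E : EtModW.Mod Λ X, EtModW.IsConstructible Λ E ∧ Nonempty ((EtModW.epsPullMod Λ X).obj E ≅ F)

/-- Constructible pro-etale sheaves form a weak Serre class. -/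
theorem isWeakSerre_consP [IsNoetherianRing Λ] : WSerre.IsWeakSerre (ConsP Λ X) := by
  let L := EtModW.epsPullMod Λ X
  have := additive_epsPull (Λ := Λ) (X := X)
  have := preservesFiniteLimits_epsPullMod (Λ := Λ) (X := X)
  have : PreservesFiniteColimits L :=
    have : PreservesColimitsOfSize.{0, 0} L := (Eps.epsAdjMod Λ (X := X)).leftAdjoint_preservesColimits
    PreservesColimitsOfSize.preservesFiniteColimits _
  have : ∀ G, IsIso ((Eps.epsAdjMod Λ (X := X)).unit.app G) := Eps.isIso_unitMod Λ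
  have : IsIso (Eps.epsAdjMod Λ (X := X)).unit := NatIso.isIso_of_isIso_app _
  have hff := (Eps.epsAdjMod Λ (X := X)).fullyFaithfulLOfIsIsoUnit
  have := hff.full
  have := hff.faithful
  obtain ⟨Z, hz⟩ := HasZeroObject.zero (C := EtModW.Mod Λ X)
  have hzero : (ConsP Λ X).ContainsZero :=
    ⟨⟨L.obj Z, L.map_isZero hz, Z, isConstructibleMod_of_isZero hz, ⟨Iso.refl _⟩⟩⟩
  have hker : (ConsP Λ X).IsClosedUnderKernels := by
    refine ⟨fun K hK => ?_⟩
    obtain ⟨f, k, hk, ⟨A, hA, ⟨eA⟩⟩, ⟨B, hB, ⟨eB⟩⟩⟩ := hK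
    obtain ⟨g, hg⟩ := L.map_surjective (eA.hom ≫ f ≫ eB.inv)
    refine ⟨kernel g, isConstructibleMod_kernel g hA hB,
      ⟨PreservesKernel.iso L g ≪≫ kernel.mapIso (L.map g) f eA eB ?_ ≪≫
        (limit.isLimit _).conePointUniqueUpToIso hk⟩⟩
    rw [hg, Category.assoc, Category.assoc, Iso.inv_hom_id, Category.comp_id]
  have hcok : (ConsP Λ X).IsClosedUnderCokernels := by
    refine ⟨fun K hK => ?_⟩
    obtain ⟨f, k, hk, ⟨A, hA, ⟨eA⟩⟩, ⟨B, hB, ⟨eB⟩⟩⟩ := hK
    obtain ⟨g, hg⟩ := L.map_surjective (eA.hom ≫ f ≫ eB.inv)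
    refine ⟨cokernel g, isConstructibleMod_cokernel g hA hB,
      ⟨PreservesCokernel.iso L g ≪≫ cokernel.mapIso (L.map g) f eA eB ?_ ≪≫
        (colimit.isColimit _).coconePointUniqueUpToIso hk⟩⟩
    rw [hg, Category.assoc, Category.assoc, Iso.inv_hom_id, Category.comp_id]
  have hext : (ConsP Λ X).IsClosedUnderExtensions := by
    refine ⟨fun {T} hT h₁ h₃ => ?_⟩
    obtain ⟨A, hA, ⟨eA⟩⟩ := h₁
    obtain ⟨B, hB, ⟨eB⟩⟩ := h₃
    let P : ObjectProperty (ProEtS.AbP X) := fun F => ∃ G : EtCoh.Ab X,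
      (⊤ : ObjectProperty (EtCoh.Ab X)) G ∧ Nonempty ((ProEtS.epsPull X).obj G ≅ F)
    have hW : WSerre.IsWeakSerre (⊤ : ObjectProperty (EtCoh.Ab X)) := inferInstance
    have hP : WSerre.IsWeakSerre P := Eps.isWeakSerre_image_epsPull ⊤
    have h1 : ∀ F, L.essImage F ↔ P ((Eps.toAbP Λ X).obj F) := fun F => by
      rw [Eps.essImage_epsPullMod_iff]
      exact ⟨fun h => ⟨h.witness, trivial, ⟨h.getIso⟩⟩, fun ⟨G, _, e⟩ => ⟨G, e⟩⟩
    have h2 : L.essImage T.X₂ := (h1 _).2 (P.prop_X₂_of_shortExact (hT.map_of_exact (Eps.toAbP Λ X))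
      ((h1 _).1 ⟨A, ⟨eA⟩⟩) ((h1 _).1 ⟨B, ⟨eB⟩⟩))
    let eE := h2.getIso
    let f' : A ⟶ h2.witness := L.preimage (eA.hom ≫ T.f ≫ eE.inv)
    let g' : h2.witness ⟶ B := L.preimage (eE.hom ≫ T.g ≫ eB.inv)
    have hw : f' ≫ g' = 0 := L.map_injective (by simp [f', g', T.zero_assoc])
    let S' := ShortComplex.mk f' g' hw
    let e : S'.map L ≅ T := ShortComplex.isoMk eA eE eB (by simp [S', f']; exact congrArg (eA.hom ≫ ·) ((Category.assoc _ _ _).trans ((congrArg (T.f ≫ ·) eE.inv_hom_id).trans (Category.comp_id _))).symm) (by simp [S', g']; exact congrArg (eE.hom ≫ ·) ((Category.assoc _ _ _).trans ((congrArg (T.g ≫ ·) eB.inv_hom_id).trans (Category.comp_id _))).symm)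
    have hS : (S'.map L).ShortExact := ShortComplex.shortExact_of_iso e.symm hT
    have hS' : S'.ShortExact :=
      { exact := (ShortComplex.exact_map_iff_of_faithful _ L).1 hS.exact
        mono_f := L.mono_of_mono_map hS.mono_f
        epi_g := L.epi_of_epi_map hS.epi_g }
    exact ⟨_, isConstructibleMod_extension hS' hA hB, ⟨eE⟩⟩
  exact { hzero, hker, hcok, hext with }

end Groth.EtaleDeep.Cons
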