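import Groth.Agent.PropsBasic2.Reduced
import Groth.Agent.EGA41Two.ConsTop
import Groth.Agent.SpectralTopology.Constructible
import Mathlib.AlgebraicGeometry.Morphisms.QuasiCompact
import Mathlib.AlgebraicGeometry.PullbackCarrier

/-!
# Stratifications adapted to a property of immersed subschemes

For a property `Q` of schemes over `X`, stable under composition, this file proves the formal
properties of "every affine open has a finite partition into constructible strata with `Q`".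
-/

set_option autoImplicit false

universe u

open CategoryTheory CategoryTheory.Limits AlgebraicGeometry Topology Set

namespace Groth.EtaleDeep.Cons

variable {X X' : Scheme.{u}}

/-- Properties of schemes over `X` which are stable under composition. -/
def Stable (Q : ∀ ⦃T : Scheme.{u}⦄, (T ⟶ X) → Prop) : Prop :=
  ∀ ⦃T T' : Scheme.{u}⦄ (h : T' ⟶ T) (g : T ⟶ X), Q g → Q (h ≫ g)

/-- A subset which is the image of an immersion with `Q`. -/
def Piece (Q : ∀ ⦃T : Scheme.{u}⦄, (T ⟶ X) → Prop) (E : Set X) : Prop :=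
  ∃ (T : Scheme.{u}) (g : T ⟶ X), IsImmersion g ∧ Set.range g = E ∧ Q g

/-- A finite partition of `S` into constructible strata with `Q`. -/
def Adapted (Q : ∀ ⦃T : Scheme.{u}⦄, (T ⟶ X) → Prop) (S : Set X) : Prop :=
  ∃ (n : ℕ) (T : Fin n → Scheme.{u}) (g : ∀ i, T i ⟶ X),
    (∀ i, IsImmersion (g i)) ∧
    (∀ i, Topology.IsConstructible ((Subtype.val : S → X) ⁻¹' Set.range (g i))) ∧
    Pairwise (fun i j => Disjoint (Set.range (g i)) (Set.range (g j))) ∧
    (⋃ i, Set.range (g i)) = S ∧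
    ∀ i, Q (g i)

/-- Every affine open has an adapted partition. -/
def IsCons (Q : ∀ ⦃T : Scheme.{u}⦄, (T ⟶ X) → Prop) : Prop :=
  ∀ U : X.Opens, IsAffineOpen U → Adapted Q (U : Set X)

variable {Q Q₁ Q₂ : ∀ ⦃T : Scheme.{u}⦄, (T ⟶ X) → Prop}

theorem Stable.comp (hQ : Stable Q) (f : X' ⟶ X) : Stable fun _ g => Q (g ≫ f) :=
  fun _ _ h g hg => by simpa only [Category.assoc] using hQ h _ hg

theorem Stable.and (h₁ : Stable Q₁) (h₂ : Stable Q₂) : Stable fun _ g => Q₁ g ∧ Q₂ g :=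
  fun _ _ h g hg => ⟨h₁ h g hg.1, h₂ h g hg.2⟩

theorem Adapted.mono {S : Set X} (h : Adapted Q₁ S) (hle : ∀ ⦃T⦄ (g : T ⟶ X), Q₁ g → Q₂ g) :
    Adapted Q₂ S := by
  obtain ⟨n, T, g, h1, h2, h3, h4, h5⟩ := h
  exact ⟨n, T, g, h1, h2, h3, h4, fun i => hle _ (h5 i)⟩

theorem IsCons.mono (h : IsCons Q₁) (hle : ∀ ⦃T⦄ (g : T ⟶ X), Q₁ g → Q₂ g) : IsCons Q₂ :=
  fun U hU => (h U hU).mono hle

/-- The range of the second projection of a fibre product. -/
lemma range_snd_comp {T T' : Scheme.{u}} (g : T ⟶ X) (i : T' ⟶ X) :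
    Set.range (pullback.snd g i ≫ i) = Set.range g ∩ Set.range i := by
  rw [Scheme.Hom.comp_base, TopCat.coe_comp, Set.range_comp, Scheme.Pullback.range_snd,
    Set.image_preimage_eq_inter_range]

theorem Piece.restrict (hQ : Stable Q) {E L : Set X} (h : Piece Q E) (hL : IsLocallyClosed L)
    (hle : L ⊆ E) : Piece Q L := by
  obtain ⟨T, g, hg, rfl, hQg⟩ := h
  obtain ⟨⟨Y, i, hi, -, rfl⟩, -⟩ := PropsBasic2.existsUnique_reduced X L hL
  have := hg
  have := hi
  have : IsImmersion (pullback.snd g i) := MorphismProperty.pullback_snd _ _ inferInstance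
  refine ⟨_, pullback.snd g i ≫ i, inferInstance, ?_, ?_⟩
  · rw [range_snd_comp, Set.inter_eq_right.2 hle]
  · rw [← pullback.condition]
    exact hQ _ _ hQg

/-- A constructible set is determined by finitely many retrocompact opens. -/
theorem exists_finset_pattern {Y : Type*} [TopologicalSpace Y] {C : Set Y} (hC : IsConstructible C) :
    ∃ 𝒰 : Finset (Set Y), (∀ U ∈ 𝒰, IsOpen U ∧ IsRetrocompact U) ∧
      ∀ x y, (∀ U ∈ 𝒰, x ∈ U ↔ y ∈ U) → (x ∈ C ↔ y ∈ C) := by
  classical
  induction hC using IsConstructible.empty_union_induction with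
  | open_retrocompact U hUo hUc =>
    exact ⟨{U}, fun V hV => by rw [Finset.mem_singleton] at hV; subst hV; exact ⟨hUo, hUc⟩,
      fun x y h => h U (Finset.mem_singleton_self U)⟩
  | union s _ t _ hs ht =>
    obtain ⟨a, ha, ha'⟩ := hs
    obtain ⟨b, hb, hb'⟩ := ht
    refine ⟨a ∪ b, fun V hV => (Finset.mem_union.1 hV).elim (ha V) (hb V), fun x y h => ?_⟩
    exact or_congr (ha' x y fun U hU => h U (Finset.mem_union_left _ hU))
      (hb' x y fun U hU => h U (Finset.mem_union_right _ hU))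
  | compl s _ hs =>
    obtain ⟨a, ha, ha'⟩ := hs
    exact ⟨a, ha, fun x y h => not_congr (ha' x y h)⟩

/-- A finite cover of an open by constructible pieces can be refined to a partition. -/
theorem adapted_of_pieces (hQ : Stable Q) {S : Set X} (hS : IsOpen S) {ι : Type*} [Finite ι]
    (E : ι → Set X) (hE : ∀ i, Piece Q (E i))
    (hc : ∀ i, IsConstructible ((Subtype.val : S → X) ⁻¹' E i))
    (hsub : ∀ i, E i ⊆ S) (hcov : S ⊆ ⋃ i, E i) : Adapted Q S := by
  classical
  have := Fintype.ofFinite ι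
  choose 𝒱 h𝒱 h𝒱' using fun i => exists_finset_pattern (hc i)
  let 𝒰 := Finset.univ.biUnion 𝒱
  have h𝒰 : ∀ U ∈ 𝒰, IsOpen U ∧ IsRetrocompact U := fun U hU => by
    obtain ⟨i, -, hi⟩ := Finset.mem_biUnion.1 hU
    exact h𝒱 i U hi
  let A : Finset (Set S) → Set S := fun 𝒜 => {x | ∀ U ∈ 𝒰, x ∈ U ↔ U ∈ 𝒜}
  have hA : ∀ 𝒜, A 𝒜 = (⋂ U ∈ 𝒰.filter (· ∈ 𝒜), U) ∩ ⋂ U ∈ 𝒰.filter (· ∉ 𝒜), Uᶜ := fun 𝒜 => by
    ext x
    simp only [Set.mem_inter_iff, Set.mem_iInter, Finset.mem_filter, Set.mem_compl_iff]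
    refine ⟨fun h => ⟨fun U hU => (h U hU.1).2 hU.2, fun U hU hx => hU.2 ((h U hU.1).1 hx)⟩,
      fun h U hU => ⟨fun hx => by_contra fun hn => h.2 U ⟨hU, hn⟩ hx, fun hm => h.1 U ⟨hU, hm⟩⟩⟩
  let κ := {𝒜 : Finset (Set S) // 𝒜 ∈ 𝒰.powerset ∧ (A 𝒜).Nonempty}
  have : Finite κ := ((𝒰.powerset : Set (Finset (Set S))).toFinite.subset
    (fun _ h => h.1 : {𝒜 | 𝒜 ∈ 𝒰.powerset ∧ (A 𝒜).Nonempty} ⊆ _)).to_subtype
  have hpiece : ∀ k : κ, Piece Q (Subtype.val '' A k.1) := by
    rintro ⟨𝒜, -, x, hx⟩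
    obtain ⟨i, hi⟩ := Set.mem_iUnion.1 (hcov x.2)
    have hle : (Subtype.val '' A 𝒜 : Set X) ⊆ E i := by
      rintro _ ⟨y, hy, rfl⟩
      exact (h𝒱' i x y fun U hU => by
        have hU' : U ∈ 𝒰 := Finset.mem_biUnion.2 ⟨i, Finset.mem_univ i, hU⟩
        rw [hx U hU', hy U hU']).1 hi
    refine (hE i).restrict hQ ?_ hle
    refine IsLocallyClosed.image ?_ IsInducing.subtypeVal (by
      rw [Subtype.range_coe]; exact hS.isLocallyClosed)
    rw [hA]
    exact ⟨_, _, isOpen_biInter_finset fun U hU => (h𝒰 U (Finset.mem_filter.1 hU).1).1,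
      isClosed_biInter fun U hU => (h𝒰 U (Finset.mem_filter.1 hU).1).1.isClosed_compl, rfl⟩
  choose T g hg hr hQg using hpiece
  let e := (Finite.equivFin κ).symm
  refine ⟨Nat.card κ, fun k => T (e k), fun k => g (e k), fun k => hg _, fun k => ?_, ?_, ?_,
    fun k => hQg _⟩
  · rw [hr, Set.preimage_image_eq _ Subtype.val_injective, hA]
    exact (IsConstructible.biInter (Finset.finite_toSet _) fun U hU =>
        (h𝒰 U (Finset.mem_filter.1 hU).1).2.isConstructible (h𝒰 U (Finset.mem_filter.1 hU).1).1).inter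
      (IsConstructible.biInter (Finset.finite_toSet _) fun U hU =>
        ((h𝒰 U (Finset.mem_filter.1 hU).1).2.isConstructible (h𝒰 U (Finset.mem_filter.1 hU).1).1).compl)
  · intro k l hkl
    dsimp only
    rw [hr, hr, Set.disjoint_left]
    rintro _ ⟨x, hx, rfl⟩ ⟨y, hy, hyx⟩
    obtain rfl := Subtype.ext hyx
    refine hkl (e.injective (Subtype.ext (Finset.ext fun U => ?_)))
    have hk := (e k).2.1
    have hl := (e l).2.1
    rw [Finset.mem_powerset] at hk hl
    exact ⟨fun h => (hy U (hk h)).1 ((hx U (hk h)).2 h), fun h => (hx U (hl h)).1 ((hy U (hl h)).2 h)⟩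
  · refine Set.Subset.antisymm (Set.iUnion_subset fun k => ?_) fun x hx => ?_
    · rw [hr]
      rintro _ ⟨y, -, rfl⟩
      exact y.2
    · let 𝒜 := 𝒰.filter fun U => (⟨x, hx⟩ : S) ∈ U
      have hxA : (⟨x, hx⟩ : S) ∈ A 𝒜 := fun U hU => ⟨fun h => Finset.mem_filter.2 ⟨hU, h⟩,
        fun h => (Finset.mem_filter.1 h).2⟩
      obtain ⟨k, hk⟩ := e.surjective ⟨𝒜, Finset.mem_powerset.2 (Finset.filter_subset _ _), _, hxA⟩
      refine Set.mem_iUnion.2 ⟨k, ?_⟩
      rw [hr, hk]
      exact ⟨⟨x, hx⟩, hxA, rfl⟩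

/-- Common refinements. -/
theorem Adapted.inter (h₁ : Stable Q₁) (h₂ : Stable Q₂) {S : Set X} (hA₁ : Adapted Q₁ S)
    (hA₂ : Adapted Q₂ S) : Adapted (fun _ g => Q₁ g ∧ Q₂ g) S := by
  obtain ⟨n, T, g, hg, hc, hd, hu, hQ⟩ := hA₁
  obtain ⟨n', T', g', hg', hc', hd', hu', hQ'⟩ := hA₂
  let e := (finProdFinEquiv (m := n) (n := n')).symm
  have hr : ∀ k, Set.range (pullback.snd (g (e k).1) (g' (e k).2) ≫ g' (e k).2) =
      Set.range (g (e k).1) ∩ Set.range (g' (e k).2) := fun k => range_snd_comp _ _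
  refine ⟨n * n', fun k => pullback (g (e k).1) (g' (e k).2),
    fun k => pullback.snd (g (e k).1) (g' (e k).2) ≫ g' (e k).2, fun k => ?_, fun k => ?_, ?_, ?_,
    fun k => ⟨?_, h₂ _ _ (hQ' _)⟩⟩
  · have := hg (e k).1
    have := hg' (e k).2
    have : IsImmersion (pullback.snd (g (e k).1) (g' (e k).2)) :=
      MorphismProperty.pullback_snd _ _ inferInstance
    infer_instance
  · rw [hr, Set.preimage_inter]
    exact (hc _).inter (hc' _)
  · intro k l hkl
    dsimp only
    rw [hr, hr]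
    by_cases h : (e k).1 = (e l).1
    · exact (hd' fun h' => hkl (e.injective (Prod.ext h h'))).mono Set.inter_subset_right
        Set.inter_subset_right
    · exact (hd h).mono Set.inter_subset_left Set.inter_subset_left
  · refine Set.Subset.antisymm (Set.iUnion_subset fun k => ?_) fun x hx => ?_
    · rw [hr, ← hu]
      exact Set.inter_subset_left.trans (Set.subset_iUnion (fun i => Set.range (g i)) _)
    · obtain ⟨i, hi⟩ := Set.mem_iUnion.1 (hu.ge hx)
      obtain ⟨j, hj⟩ := Set.mem_iUnion.1 (hu'.ge hx)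
      refine Set.mem_iUnion.2 ⟨e.symm (i, j), ?_⟩
      rw [hr, Equiv.apply_symm_apply]
      exact ⟨hi, hj⟩
  · dsimp only
    rw [← pullback.condition]
    exact h₁ _ _ (hQ _)

theorem IsCons.inter (h₁ : Stable Q₁) (h₂ : Stable Q₂) (hA₁ : IsCons Q₁) (hA₂ : IsCons Q₂) :
    IsCons (fun _ g => Q₁ g ∧ Q₂ g) :=
  fun U hU => (hA₁ U hU).inter h₁ h₂ (hA₂ U hU)

/-- Inverse images of partitions. -/
theorem Adapted.preimage (hQ : Stable Q) (f : X' ⟶ X) {S : Set X} (hA : Adapted Q S) {S' : Set X'}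
    (hS' : IsOpen S') (hle : S' ⊆ f ⁻¹' S)
    (hcons : ∀ C : Set X, IsConstructible ((Subtype.val : S → X) ⁻¹' C) →
      IsConstructible ((Subtype.val : S' → X') ⁻¹' (f ⁻¹' C))) :
    Adapted (fun _ g => Q (g ≫ f)) S' := by
  obtain ⟨n, T, g, hg, hc, -, hu, hQg⟩ := hA
  refine adapted_of_pieces (hQ.comp f) hS' (fun i => f ⁻¹' Set.range (g i) ∩ S') (fun i => ?_)
    (fun i => ?_) (fun i => Set.inter_subset_right) fun x hx => ?_
  · have := hg i
    have : IsImmersion (pullback.snd (g i) f) := MorphismProperty.pullback_snd _ _ inferInstance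
    have hp : Piece (fun _ g => Q (g ≫ f)) (f ⁻¹' Set.range (g i)) :=
      ⟨_, pullback.snd (g i) f, this, Scheme.Pullback.range_snd (g i) f,
        by dsimp only; rw [← pullback.condition]; exact hQ _ _ (hQg i)⟩
    exact hp.restrict (hQ.comp f)
      (((g i).isLocallyClosed_range.preimage f.continuous).inter hS'.isLocallyClosed)
      Set.inter_subset_left
  · rw [Set.preimage_inter, Subtype.coe_preimage_self, Set.inter_univ]
    exact hcons _ (hc i)
  · obtain ⟨i, hi⟩ := Set.mem_iUnion.1 (hu.ge (hle hx))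
    exact Set.mem_iUnion.2 ⟨i, hi, hx⟩

/-- Inverse images of constructible subsets between affine opens. -/
theorem isConstructible_preimage_affine (f : X' ⟶ X) {U : X.Opens} (hU : IsAffineOpen U)
    {V : X'.Opens} (hV : IsAffineOpen V) (hle : V ≤ f ⁻¹ᵁ U) {C : Set X}
    (hC : IsConstructible ((Subtype.val : ↥(U : Set X) → X) ⁻¹' C)) :
    IsConstructible ((Subtype.val : ↥(V : Set X') → X') ⁻¹' (f ⁻¹' C)) := by
  have : IsAffine U.toScheme := hU
  have : IsAffine V.toScheme := hV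
  let r : V.toScheme ⟶ U.toScheme := f.resLE U V hle
  have hr : ∀ v, (r v).1 = f v.1 := fun v => congrArg (fun q => q v) (Scheme.Hom.resLE_comp_ι f hle)
  have h := hC.preimage (f := (r : V.toScheme → U.toScheme)) r.continuous fun s hso hsc => by
    have hs : IsCompact (r ⁻¹' s) :=
      r.isSpectralMap.isCompact_preimage_of_isOpen hso (IsRetrocompact.isCompact hsc)
    exact hs.isRetrocompact (hso.preimage r.continuous)
  have e : ((Subtype.val : ↥(V : Set X') → X') ⁻¹' (f ⁻¹' C)) =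
      (r : V.toScheme → U.toScheme) ⁻¹' ((Subtype.val : ↥(U : Set X) → X) ⁻¹' C) := by
    ext v
    change f v.1 ∈ C ↔ (r v).1 ∈ C
    rw [hr]
  rw [e]
  exact h

/-- A partition on an affine open gives one on every affine open mapped into it. -/
theorem Adapted.of_affine (hQ : Stable Q) (f : X' ⟶ X) {U : X.Opens} (hU : IsAffineOpen U)
    (hA : Adapted Q (U : Set X)) {V : X'.Opens} (hV : IsAffineOpen V) (hle : V ≤ f ⁻¹ᵁ U) :
    Adapted (fun _ g => Q (g ≫ f)) (V : Set X') :=
  hA.preimage hQ f V.2 hle fun _ hC => isConstructible_preimage_affine f hU hV hle hC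

/-- Gluing partitions on finitely many affine opens. -/
theorem adapted_of_affine_cover (hQ : Stable Q) {S : X.Opens} [QuasiSeparatedSpace (S : Set X)]
    [CompactSpace (S : Set X)] {ι : Type*} [Finite ι] (V : ι → X.Opens) (hV : ∀ i, IsAffineOpen (V i))
    (hle : ∀ i, V i ≤ S) (hcov : (S : Set X) ⊆ ⋃ i, (V i : Set X))
    (hA : ∀ i, Adapted Q (V i : Set X)) : Adapted Q (S : Set X) := by
  choose n T g hg hc hd hu hQg using hA
  have hsub : ∀ i k, Set.range (g i k) ⊆ (V i : Set X) := fun i k =>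
    (Set.subset_iUnion (fun k => Set.range (g i k)) k).trans (hu i).le
  refine adapted_of_pieces hQ S.2 (fun p : Σ i, Fin (n i) => Set.range (g p.1 p.2))
    (fun p => ⟨_, g p.1 p.2, hg _ _, rfl, hQg _ _⟩) (fun p => ?_)
    (fun p => (hsub _ _).trans (hle _)) fun x hx => ?_
  · let j : (V p.1 : Set X) → (S : Set X) := Set.inclusion (hle p.1)
    have hj : IsOpenEmbedding j :=
      Topology.IsOpenEmbedding.inclusion (hle p.1) ((V p.1).2.preimage continuous_subtype_val)
    have hVc : CompactSpace (V p.1 : Set X) := isCompact_iff_compactSpace.1 (hV p.1).isCompact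
    have hr : IsRetrocompact (Set.range j) :=
      (isCompact_range hj.continuous).isRetrocompact hj.isOpen_range
    refine (isConstructible_preimage_iff_of_isOpenEmbedding hj hr ?_).1 (hc p.1 p.2)
    rintro ⟨x, hxS⟩ hx'
    exact ⟨⟨x, hsub _ _ hx'⟩, rfl⟩
  · obtain ⟨i, hi⟩ := Set.mem_iUnion.1 (hcov hx)
    obtain ⟨k, hk⟩ := Set.mem_iUnion.1 ((hu i).ge hi)
    exact Set.mem_iUnion.2 ⟨⟨i, k⟩, hk⟩

/-- Pushing a partition forward along an immersion. -/
theorem Adapted.image (f : X' ⟶ X) [IsImmersion f] {S' : Set X'}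
    (hA : Adapted (fun _ g => Q (g ≫ f)) S') : Adapted Q (f '' S') := by
  obtain ⟨n, T, g, hg, hc, hd, hu, hQg⟩ := hA
  refine ⟨n, T, fun i => g i ≫ f, fun i => inferInstance, fun i => ?_, ?_, ?_, hQg⟩
  · let e : S' ≃ₜ ↥(f '' S') := (f.isEmbedding.comp IsEmbedding.subtypeVal).toHomeomorph.trans
      (Homeomorph.setCongr (by rw [Set.range_comp, Subtype.range_coe]))
    have he : ∀ s, (e s : X) = f s.1 := fun s => rfl
    have h := (hc i).preimage_of_isOpenEmbedding e.symm.isOpenEmbedding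
    have hrw : ((Subtype.val : ↥(f '' S') → X) ⁻¹' Set.range (g i ≫ f)) =
        e.symm ⁻¹' ((Subtype.val : S' → X') ⁻¹' Set.range (g i)) := by
      ext x
      obtain ⟨s, rfl⟩ := e.surjective x
      rw [Set.mem_preimage, Set.mem_preimage, Set.mem_preimage, he, Homeomorph.symm_apply_apply]
      exact ⟨fun ⟨t, ht⟩ => ⟨t, f.isEmbedding.injective ht⟩, fun ⟨t, ht⟩ => ⟨t, congrArg f ht⟩⟩
    rw [hrw]
    exact h
  · intro i j hij
    dsimp only
    rw [Scheme.Hom.comp_base, Scheme.Hom.comp_base, TopCat.coe_comp, TopCat.coe_comp, Set.range_comp,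
      Set.range_comp]
    exact (Set.disjoint_image_iff f.isEmbedding.injective).2 (hd hij)
  · rw [← hu, Set.image_iUnion]
    exact Set.iUnion_congr fun i => Set.range_comp f (g i)

/-- Constructibility is inherited by inverse images. -/
theorem IsCons.comp (hQ : Stable Q) (f : X' ⟶ X) (h : IsCons Q) :
    IsCons (fun _ g => Q (g ≫ f)) := by
  intro U' hU'
  have hx : ∀ x : (U' : Set X'), ∃ (U : X.Opens) (V : X'.Opens), IsAffineOpen U ∧ IsAffineOpen V ∧
      x.1 ∈ V ∧ V ≤ U' ∧ V ≤ f ⁻¹ᵁ U := fun x => by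
    obtain ⟨U, hU, hxU, -⟩ := exists_isAffineOpen_mem_and_subset (U := ⊤) (Set.mem_univ (f x.1))
    obtain ⟨V, hV, hxV, hle⟩ := exists_isAffineOpen_mem_and_subset (U := U' ⊓ f ⁻¹ᵁ U) ⟨x.2, hxU⟩
    exact ⟨U, V, hU, hV, hxV, hle.trans inf_le_left, hle.trans inf_le_right⟩
  choose U V hU hV hxV hle hle' using hx
  obtain ⟨s, hs⟩ := hU'.isCompact.elim_finite_subcover (fun x => (V x : Set X')) (fun x => (V x).2)
    fun x hx => Set.mem_iUnion.2 ⟨⟨x, hx⟩, hxV _⟩
  have : IsAffine U'.toScheme := hU'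
  have : QuasiSeparatedSpace (U' : Set X') := inferInstanceAs (QuasiSeparatedSpace U'.toScheme)
  have : CompactSpace (U' : Set X') := isCompact_iff_compactSpace.1 hU'.isCompact
  refine adapted_of_affine_cover (hQ.comp f) (fun x : s => V x.1) (fun x => hV _) (fun x => hle _)
    (fun y hy => ?_) fun x => (h _ (hU x.1)).of_affine hQ f (hU _) (hV _) (hle' _)
  obtain ⟨x, hx, hy⟩ := Set.mem_iUnion₂.1 (hs hy)
  exact Set.mem_iUnion.2 ⟨⟨x, hx⟩, hy⟩

/-- Constructibility is local. -/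
theorem isCons_of_openCover (hQ : Stable Q) {ι : Type*} (U : ι → X.Opens) (hU : ⨆ i, U i = ⊤)
    (h : ∀ i, IsCons (fun _ g => Q (g ≫ (U i).ι))) : IsCons Q := by
  intro S hS
  have hx : ∀ x : (S : Set X), ∃ (i : ι) (V : X.Opens), IsAffineOpen V ∧ x.1 ∈ V ∧ V ≤ S ∧ V ≤ U i :=
    fun x => by
      obtain ⟨i, hi⟩ := TopologicalSpace.Opens.mem_iSup.1 (hU.ge (Set.mem_univ x.1))
      obtain ⟨V, hV, hxV, hle⟩ := exists_isAffineOpen_mem_and_subset (U := S ⊓ U i) ⟨x.2, hi⟩
      exact ⟨i, V, hV, hxV, hle.trans inf_le_left, hle.trans inf_le_right⟩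
  choose i V hV hxV hle hle' using hx
  obtain ⟨s, hs⟩ := hS.isCompact.elim_finite_subcover (fun x => (V x : Set X)) (fun x => (V x).2)
    fun x hx => Set.mem_iUnion.2 ⟨⟨x, hx⟩, hxV _⟩
  have : IsAffine S.toScheme := hS
  have : QuasiSeparatedSpace (S : Set X) := inferInstanceAs (QuasiSeparatedSpace S.toScheme)
  have : CompactSpace (S : Set X) := isCompact_iff_compactSpace.1 hS.isCompact
  refine adapted_of_affine_cover hQ (fun x : s => V x.1) (fun x => hV _) (fun x => hle _)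
    (fun y hy => ?_) fun x => ?_
  · obtain ⟨x, hx, hy⟩ := Set.mem_iUnion₂.1 (hs hy)
    exact Set.mem_iUnion.2 ⟨⟨x, hx⟩, hy⟩
  · have e : (V x.1 : Set X) = (U (i x.1)).ι '' ((U (i x.1)).ι ⁻¹ᵁ V x.1 : Set _) := by
      refine (Set.image_preimage_eq_of_subset ?_).symm
      rw [Scheme.Opens.range_ι]
      exact hle' x.1
    rw [e]
    refine (h (i x.1) _ ?_).image (U (i x.1)).ι
    refine (AlgebraicGeometry.Scheme.Hom.isAffineOpen_iff_of_isOpenImmersion (U (i x.1)).ι).1 ?_
    convert hV x.1 using 1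
    exact TopologicalSpace.Opens.ext e.symm

/-- On a quasi-compact quasi-separated scheme one global partition is enough. -/
theorem isCons_iff_adapted_univ [CompactSpace X] [QuasiSeparatedSpace X] (hQ : Stable Q) :
    IsCons Q ↔ Adapted Q (Set.univ : Set X) := by
  constructor
  · intro h
    have hx : ∀ x : X, ∃ V : X.Opens, IsAffineOpen V ∧ x ∈ V := fun x => by
      obtain ⟨V, hV, hxV, -⟩ := exists_isAffineOpen_mem_and_subset (U := ⊤) (Set.mem_univ x)
      exact ⟨V, hV, hxV⟩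
    choose V hV hxV using hx
    obtain ⟨s, hs⟩ := isCompact_univ.elim_finite_subcover (fun x => (V x : Set X)) (fun x => (V x).2)
      fun x _ => Set.mem_iUnion.2 ⟨x, hxV x⟩
    have : QuasiSeparatedSpace ((⊤ : X.Opens) : Set X) :=
      .of_isOpenEmbedding (Homeomorph.Set.univ X).isOpenEmbedding
    have : CompactSpace ((⊤ : X.Opens) : Set X) := isCompact_iff_compactSpace.1 isCompact_univ
    refine adapted_of_affine_cover hQ (S := ⊤) (fun x : s => V x.1) (fun x => hV _)
      (fun x => le_top) (fun y hy => ?_) fun x => h _ (hV _)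
    obtain ⟨x, hx, hy⟩ := Set.mem_iUnion₂.1 (hs hy)
    exact Set.mem_iUnion.2 ⟨⟨x, hx⟩, hy⟩
  · intro h U hU
    have h' := h.preimage hQ (𝟙 X) U.2 (fun x _ => Set.mem_univ _) fun C hC => ?_
    · exact h'.mono fun T g hg => by simpa using hg
    · exact hC.preimage_of_isOpenEmbedding
        (f := Set.inclusion (Set.subset_univ (U : Set X)))
        (Topology.IsOpenEmbedding.inclusion _ (U.2.preimage continuous_subtype_val))

/-- Gluing along a covering by constructible immersed subschemes. -/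
theorem isCons_of_immersions [CompactSpace X] [QuasiSeparatedSpace X] (hQ : Stable Q) {ι : Type*}
    (T : ι → Scheme.{u}) (g : ∀ i, T i ⟶ X) [∀ i, IsImmersion (g i)]
    (hc : ∀ i, IsConstructible (Set.range (g i))) (hcov : (⋃ i, Set.range (g i)) = Set.univ)
    (h : ∀ i, IsCons (fun _ k => Q (k ≫ g i))) : IsCons Q := by
  have hsp : SpectralSpace X :=
    @SpectralSpace.mk X _ inferInstance inferInstance inferInstance inferInstance inferInstance
  obtain ⟨s, hs⟩ := @IsCompact.elim_finite_subcover X (constructibleTopology X) Set.univ ι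
    (Groth.SpectralTopology.isCompact_ct_of_isClosed_ct (@isClosed_univ X (constructibleTopology X)))
    (fun i => Set.range (g i))
    (fun i => Groth.EGA41Two.isOpen_ct_of_isLocallyConstructible (hc i).isLocallyConstructible)
    hcov.ge
  have hA : ∀ i, Adapted Q (Set.range (g i)) := fun i => by
    have hcomp : IsCompact (Set.range (g i)) :=
      (Groth.SpectralTopology.isRetrocompact_of_isConstructible (hc i)).isCompact
    have : CompactSpace (T i) := ⟨by
      rw [(g i).isEmbedding.isCompact_iff, Set.image_univ]; exact hcomp⟩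
    have : QuasiSeparatedSpace (T i) := quasiSeparatedSpace_of_quasiSeparated (g i)
    rw [← Set.image_univ]
    exact ((isCons_iff_adapted_univ (hQ.comp (g i))).1 (h i)).image (g i)
  choose n T' g' hg' hc' hd' hu' hQ' using hA
  rw [isCons_iff_adapted_univ hQ]
  refine adapted_of_pieces hQ isOpen_univ (fun p : Σ i : s, Fin (n i.1) => Set.range (g' p.1.1 p.2))
    (fun p => ⟨_, g' p.1.1 p.2, hg' _ _, rfl, hQ' _ _⟩) (fun p => ?_)
    (fun p => Set.subset_univ _) fun x hx => ?_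
  · have h1 := Groth.SpectralTopology.isConstructible_image_val (hc p.1.1) (hc' p.1.1 p.2)
    rw [Subtype.image_preimage_coe, Set.inter_eq_right.2
      ((Set.subset_iUnion (fun k => Set.range (g' p.1.1 k)) p.2).trans (hu' p.1.1).le)] at h1
    exact h1.preimage_of_isOpenEmbedding isOpen_univ.isOpenEmbedding_subtypeVal
  · obtain ⟨i, hi, hxi⟩ := Set.mem_iUnion₂.1 (hs hx)
    obtain ⟨k, hk⟩ := Set.mem_iUnion.1 ((hu' i).ge hxi)
    exact Set.mem_iUnion.2 ⟨⟨⟨i, hi⟩, k⟩, hk⟩

end Groth.EtaleDeep.Cons
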