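import Groth.Agent.EtaleDeep.Cons.Noetherian
import Groth.Agent.EtaleDeep.Cons.Ab

/-!
# Abelian sheaves as sheaves of modules over the integers
-/

set_option autoImplicit false
set_option backward.isDefEq.respectTransparency.types false
set_option linter.style.haveILetI false

universe u

open CategoryTheory CategoryTheory.Limits AlgebraicGeometry Opposite

namespace Groth.EtaleDeep.Cons

open Groth.EtaleBase Groth.EtaleBase.LocConst

/-- The integers, one universe up. -/
abbrev Zint : Type (u + 1) := ULift.{u + 1} ℤ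

/-- Additive maps are linear over the integers. -/
def toZintLinear {M N : Type (u + 1)} [AddCommGroup M] [AddCommGroup N] [Module Zint.{u} M]
    [Module Zint.{u} N] (f : M →+ N) : M →ₗ[Zint.{u}] N where
  toFun := f
  map_add' := map_add f
  map_smul' z x := by
    obtain ⟨n⟩ := z
    exact map_intCast_smul f Zint.{u} Zint.{u} n x

instance full_G : (G Zint.{u}).Full where
  map_surjective {A B} f := ⟨ModuleCat.ofHom (toZintLinear f.hom), rfl⟩

instance essSurj_G : (G Zint.{u}).EssSurj where
  mem_essImage A := by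
    letI : Module Zint.{u} A := Module.compHom A (ULift.ringEquiv (R := ℤ)).toRingHom
    exact ⟨ModuleCat.of Zint.{u} A, ⟨{ hom := 𝟙 A, inv := 𝟙 A }⟩⟩

instance isEquivalence_G : (G Zint.{u}).IsEquivalence where

variable {X Y : Scheme.{u}}

instance isEquivalence_toAb : (toAb Zint.{u} X).IsEquivalence :=
  have : (toAb Zint.{u} X).EssSurj := ⟨fun A => by
    let E := (G Zint.{u}).asEquivalence
    let P : X.Etaleᵒᵖ ⥤ ModuleCat.{u + 1} Zint.{u} := A.obj ⋙ E.inverse
    let e : P ⋙ G Zint.{u} ≅ A.obj :=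
      Functor.associator _ _ _ ≪≫ Functor.isoWhiskerLeft A.obj E.counitIso ≪≫ A.obj.rightUnitor
    have h : Presheaf.IsSheaf X.smallEtaleTopology (P ⋙ G Zint.{u}) :=
      (Presheaf.isSheaf_of_iso_iff e).2 A.property
    exact ⟨⟨P, Presheaf.isSheaf_of_isSheaf_comp _ _ (G Zint.{u}) h⟩,
      ⟨(fullyFaithfulSheafToPresheaf _ _).preimageIso e⟩⟩⟩
  { }

/-- The module sheaf of an abelian sheaf. -/
noncomputable def ofAb (F : EtCoh.Ab X) : EtModW.Mod Zint.{u} X := (toAb Zint.{u} X).objPreimage F

/-- Its underlying abelian sheaf. -/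
noncomputable def ofAbIso (F : EtCoh.Ab X) : (toAb Zint.{u} X).obj (ofAb F) ≅ F :=
  (toAb Zint.{u} X).objObjPreimageIso F

variable {F : EtModW.Mod Zint.{u} X}

/-- Finite locally constant sheaves are of finite type. -/
theorem isFT_of_isFLC (h : EtCoh.IsFiniteLocallyConstant ((toAb Zint.{u} X).obj F)) :
    EtModW.IsFTLocConst Zint.{u} F := by
  rw [isFT_iff]
  intro x
  obtain ⟨U, hU, M, _, hM, s, hs⟩ := isFLC_iff.1 h x
  letI : Module Zint.{u} (ULift.{u + 1} M) := Module.compHom _ (ULift.ringEquiv (R := ℤ)).toRingHom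
  let s₀ : ULift.{u + 1} M →+ EtModW.sect Zint.{u} F U := s
  refine ⟨U, hU, ULift.{u + 1} M, inferInstance, inferInstance, inferInstance, toZintLinear s₀, hs⟩

/-- Finite type locally constant sheaves with finite stalks are finite locally constant. -/
theorem isFLC_of_isFT (h : EtModW.IsFTLocConst Zint.{u} F)
    (hfin : ∀ x : X, Finite ((EtCoh.stalk (geomPoint x)).obj ((toAb Zint.{u} X).obj F))) :
    EtCoh.IsFiniteLocallyConstant ((toAb Zint.{u} X).obj F) := by
  rw [isFLC_iff]
  intro x
  obtain ⟨U, ⟨y, hy⟩, M, _, _, _, s, hs⟩ := isFT_iff.1 h x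
  obtain ⟨t, -⟩ := exists_fiber_of_point (geomPoint x) U y (hy.trans (geomPoint_apply _ _).symm)
  have := hfin x
  have hfM : Finite M := Finite.of_injective _ (hs _ _ _ (geomPoint x) t).1
  -- a copy of `M` in `Type`
  obtain ⟨n, ⟨e⟩⟩ := Finite.exists_equiv_fin M
  letI : AddCommGroup (Fin n) := e.symm.addCommGroup
  let e' : ULift.{u + 1} (Fin n) →+ M := AddMonoidHom.mk' (fun a => e.symm a.down) fun a b => by
    show e.symm (e (e.symm a.down + e.symm b.down)) = _
    exact e.symm_apply_apply _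
  refine ⟨U, ⟨y, hy⟩, Fin n, inferInstance, inferInstance, s.toAddMonoidHom.comp e',
    fun Ω _ _ ξ t' => ?_⟩
  exact (hs Ω _ _ ξ t').comp (e.symm.bijective.comp Equiv.ulift.bijective)

/-- Constructible abelian sheaves give constructible sheaves of modules. -/
theorem isConstructibleMod_of_isConstructible (h : EtPBC.IsConstructible ((toAb Zint.{u} X).obj F)) :
    EtModW.IsConstructible Zint.{u} F :=
  (isConstructibleMod_iff _).2 <| IsCons.mono ((isConstructible_iff _).1 h) fun _ g hg => by
    have := isIso_cmpPull Zint.{u} g F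
    exact isFT_of_isFLC (isFLC_of_iso (asIso ((cmpPull Zint.{u} g).app F)) hg)

/-- Constructible sheaves of modules with finite stalks are constructible abelian sheaves. -/
theorem isConstructible_of_isConstructibleMod (h : EtModW.IsConstructible Zint.{u} F)
    (hfin : ∀ (Ω : Type u) [Field Ω] [IsSepClosed Ω] (ξ : Spec (CommRingCat.of Ω) ⟶ X),
      Finite ((EtCoh.stalk ξ).obj ((toAb Zint.{u} X).obj F))) :
    EtPBC.IsConstructible ((toAb Zint.{u} X).obj F) :=
  (isConstructible_iff _).2 <| IsCons.mono ((isConstructibleMod_iff _).1 h) fun T g hg => by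
    intro _
    have := isIso_cmpPull Zint.{u} g F
    refine isFLC_of_iso (asIso ((cmpPull Zint.{u} g).app F)).symm (isFLC_of_isFT hg fun x => ?_)
    have := hfin _ (geomPoint x ≫ g)
    let e := ((stalkPullIso g (geomPoint x)).app ((toAb Zint.{u} X).obj F)) ≪≫
      (EtCoh.stalk (geomPoint x)).mapIso (asIso ((cmpPull Zint.{u} g).app F))
    exact Finite.of_injective e.inv ((ConcreteCategory.isIso_iff_bijective e.inv).1 inferInstance).1

/-- Stalks of constructible abelian sheaves are finite. -/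
theorem finite_stalk_of_isConstructibleAb {F : EtCoh.Ab X} (hF : EtPBC.IsConstructible F) {Ω : Type u}
    [Field Ω] [IsSepClosed Ω] (ξ : Spec (CommRingCat.of Ω) ⟶ X) : Finite ((EtCoh.stalk ξ).obj F) := by
  obtain ⟨U, hU, hxU, -⟩ := exists_isAffineOpen_mem_and_subset (U := ⊤) (Set.mem_univ (ξ.base default))
  obtain ⟨n, T, g, hg, -, -, hu, hFT⟩ := (isConstructible_iff F).1 hF U hU
  obtain ⟨i, hi⟩ := Set.mem_iUnion.1 (hu.ge hxU)
  have := hg i
  obtain ⟨ξ', rfl⟩ := exists_lift_immersion ξ (g i) hi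
  obtain ⟨W, ⟨y, hy⟩, M, _, hM, s, hs⟩ := isFLC_iff.1 (hFT i) (ξ'.base default)
  obtain ⟨t, -⟩ := exists_fiber_of_point ξ' W y hy
  have : Finite ((EtCoh.stalk ξ').obj ((EtCoh.pull (g i)).obj F)) :=
    Finite.of_surjective _ (hs _ _ _ ξ' t).2
  let e := (stalkPullIso (g i) ξ').app F
  exact @Finite.of_injective _ _ this e.hom ((ConcreteCategory.isIso_iff_bijective e.hom).1 inferInstance).1

end Groth.EtaleDeep.Cons
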