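import Groth.Agent.EtaleDeep.Cons.AbNoetherian
import Groth.Agent.EtaleDeep.Cons.StalkLocus
import Groth.Agent.EtaleBase.LocConstOps

/-!
# Specialization maps of abelian sheaves: criteria for local constancy and constructibility
-/

set_option autoImplicit false
set_option backward.isDefEq.respectTransparency.types false
set_option linter.style.haveILetI false

universe u

open CategoryTheory CategoryTheory.Limits AlgebraicGeometry Opposite Topology TopologicalSpace

namespace Groth.EtaleDeep.Cons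

open Groth.EtaleBase Groth.EtaleBase.LocConst Groth.EtaleBase.SitePt

variable {X : Scheme.{u}} {Ω Ω' : Type u} [Field Ω] [IsSepClosed Ω] [Field Ω'] [IsSepClosed Ω']
  {η : Spec (CommRingCat.of Ω) ⟶ X} {ξ : Spec (CommRingCat.of Ω') ⟶ X}

/-- Maps of geometric points only generize lifts. -/
theorem specializes_fiberPoint (θ : Scheme.pointSmallEtale η ⟶ Scheme.pointSmallEtale ξ) (W : X.Etale)
    (t : (Scheme.pointSmallEtale ξ).fiber.obj W) : fiberPoint η (θ.hom.app W t) ⤳ fiberPoint ξ t := by
  rw [specializes_iff_forall_open]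
  intro s hs hts
  obtain ⟨v, hv⟩ := exists_lift_open ξ (⟨s, hs⟩ : W.left.Opens) t hts
  rw [← hv, NatTrans.naturality_apply θ.hom (openHom W ⟨s, hs⟩) v, fiberPoint_map]
  exact (fiberPoint η (θ.hom.app (openObj W ⟨s, hs⟩) v)).2

/-- Maps of geometric points go to generizations. -/
theorem specializes_of_pointHom (θ : Scheme.pointSmallEtale η ⟶ Scheme.pointSmallEtale ξ) :
    η.base default ⤳ ξ.base default := by
  obtain ⟨t, -⟩ := exists_fiber_of_point ξ (EtCoh.top X) (ξ.base default) rfl
  have h := (specializes_fiberPoint θ (EtCoh.top X) t).map (EtCoh.top X).hom.continuous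
  rwa [hom_fiberPoint, hom_fiberPoint] at h

/-- Specialization maps of abelian sheaves and of their module sheaves. -/
theorem isIso_cospec_ofAb_iff (F : EtCoh.Ab X) (φ : Scheme.pointSmallEtale η ⟶ Scheme.pointSmallEtale ξ) :
    IsIso ((cospec φ).app (ofAb F)) ↔
      IsIso ((GrothendieckTopology.Point.Hom.sheafFiber (A := AddCommGrpCat.{u + 1}) φ).app F) := by
  rw [cospec_bijective_iff, ← ConcreteCategory.isIso_iff_bijective]
  exact NatTrans.isIso_app_iff_of_iso
    (GrothendieckTopology.Point.Hom.sheafFiber (A := AddCommGrpCat.{u + 1}) φ) (ofAbIso F)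

/-- Finite locally constant sheaves have bijective specialization maps. -/
theorem isIso_sheafFiber_of_isFLC {F : EtCoh.Ab X} (hF : EtCoh.IsFiniteLocallyConstant F)
    (φ : Scheme.pointSmallEtale η ⟶ Scheme.pointSmallEtale ξ) :
    IsIso ((GrothendieckTopology.Point.Hom.sheafFiber (A := AddCommGrpCat.{u + 1}) φ).app F) :=
  (isIso_cospec_ofAb_iff F φ).1 (isIso_cospec (isFT_of_isFLC (isFLC_of_iso (ofAbIso F).symm hF)) φ)

/-- Sheaves which are finite locally constant on an open have bijective specialization maps there. -/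
theorem isIso_sheafFiber_of_open {F : EtCoh.Ab X} (U : X.Opens)
    (hF : EtCoh.IsFiniteLocallyConstant ((EtCoh.pull U.ι).obj F)) (hη : η.base default ∈ U)
    (hξ : ξ.base default ∈ U) (φ : Scheme.pointSmallEtale η ⟶ Scheme.pointSmallEtale ξ) :
    IsIso ((GrothendieckTopology.Point.Hom.sheafFiber (A := AddCommGrpCat.{u + 1}) φ).app F) := by
  have := isIso_cmpPull Zint.{u} U.ι (ofAb F)
  exact (isIso_cospec_ofAb_iff F φ).1 (isIso_cospec_of_open U (isFT_of_isFLC
    (isFLC_of_iso ((EtCoh.pull U.ι).mapIso (ofAbIso F).symm ≪≫ asIso ((cmpPull Zint.{u} U.ι).app (ofAb F))) hF))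
    hη hξ φ)

/-- Specialization criterion for finite local constancy. -/
theorem isFLC_of_spec [IsLocallyNoetherian X] {F : EtCoh.Ab X}
    (hfin : ∀ x : X, Finite ((EtCoh.stalk (geomPoint x)).obj F))
    (hspec : ∀ (Ω₁ : Type u) [Field Ω₁] [IsSepClosed Ω₁] (Ω₂ : Type u) [Field Ω₂] [IsSepClosed Ω₂]
      (η : Spec (CommRingCat.of Ω₁) ⟶ X) (ξ : Spec (CommRingCat.of Ω₂) ⟶ X)
      (φ : Scheme.pointSmallEtale η ⟶ Scheme.pointSmallEtale ξ),
      IsIso ((GrothendieckTopology.Point.Hom.sheafFiber (A := AddCommGrpCat.{u + 1}) φ).app F)) :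
    EtCoh.IsFiniteLocallyConstant F := by
  have hfin' : ∀ x : X, Finite ((EtCoh.stalk (geomPoint x)).obj ((toAb Zint.{u} X).obj (ofAb F))) :=
    fun x => by
      have := hfin x
      let e := (EtCoh.stalk (geomPoint x)).mapIso (ofAbIso F)
      exact Finite.of_equiv _ e.addCommGroupIsoToAddEquiv.toEquiv.symm
  refine isFLC_of_iso (ofAbIso F) (isFLC_of_isFT (isFT_of_spec (fun x => ?_) fun Ω₁ _ _ Ω₂ _ _ a b φ =>
    (isIso_cospec_ofAb_iff F φ).2 (hspec Ω₁ Ω₂ a b φ)) hfin')
  have := hfin' x
  obtain ⟨e, -⟩ := exists_stalk_forget (geomPoint x) (ofAb F)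
  have : Finite ((EtModW.stalk Zint.{u} (geomPoint x)).obj (ofAb F)) :=
    Finite.of_equiv ((EtCoh.stalk (geomPoint x)).obj ((toAb Zint.{u} X).obj (ofAb F)))
      e.addCommGroupIsoToAddEquiv.toEquiv
  exact Module.Finite.of_finite

/-- An etale chart with trivializing sections gives local constancy on its image. -/
theorem isFLC_pull_of_stalkBij {F : EtCoh.Ab X} (W : X.Etale) {M : Type} [AddCommGroup M] [Finite M]
    (s : ULift.{u + 1} M →+ F.obj.obj (op W)) (h : StalkBij F W s) (V : X.Opens)
    (hV : (V : Set X) ⊆ Set.range W.hom.base) :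
    EtCoh.IsFiniteLocallyConstant ((EtCoh.pull V.ι).obj F) :=
  isFLC_iff.2 fun x => ⟨_, exists_bc_point V.ι W x (hV x.2), M, _, inferInstance, _, stalkBij_pull V.ι s h⟩

/-- A constructible sheaf with bijective specialization maps to a geometric point is finite locally
constant near it. -/
theorem exists_open_isFLC {F : EtCoh.Ab X} (hF : EtPBC.IsConstructible F) {Ω : Type u} [Field Ω]
    [IsSepClosed Ω] (ξ : Spec (CommRingCat.of Ω) ⟶ X)
    (h : ∀ (Ω' : Type u) [Field Ω'] [IsSepClosed Ω'] (ξ' : Spec (CommRingCat.of Ω') ⟶ X)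
      (φ : Scheme.pointSmallEtale ξ' ⟶ Scheme.pointSmallEtale ξ),
      IsIso ((GrothendieckTopology.Point.Hom.sheafFiber (A := AddCommGrpCat.{u + 1}) φ).app F)) :
    ∃ V : X.Opens, ξ.base default ∈ V ∧ EtCoh.IsFiniteLocallyConstant ((EtCoh.pull V.ι).obj F) := by
  have := finite_stalk_of_isConstructibleAb hF ξ
  obtain ⟨W, w, M, _, _, s, hs⟩ := exists_section F ξ
  obtain ⟨U, hU, hxU, -⟩ := exists_isAffineOpen_mem_and_subset (U := ⊤) (Set.mem_univ (ξ.base default))
  obtain ⟨N, hN, hwN, hNU⟩ := exists_isAffineOpen_mem_and_subset (U := W.hom ⁻¹ᵁ U)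
    (show fiberPoint ξ w ∈ W.hom ⁻¹ᵁ U by
      show W.hom.base (fiberPoint ξ w) ∈ U
      rw [hom_fiberPoint]
      exact hxU)
  have := Groth.EGA41Two.spectralSpace_affine N hN
  have hnhd := mem_nhds_of_generizations (isConstructible_bijLocus hF hU W s hN hNU)
    (w := ⟨fiberPoint ξ w, hwN⟩) fun z hz Ω' _ _ η t ht => by
      obtain ⟨φ, hφ⟩ := exists_pointHom_fiber W t w (ht.symm ▸ hz.map continuous_subtype_val)
      rw [show (fun a => germ η F W t (s a)) =
        ((GrothendieckTopology.Point.Hom.sheafFiber (A := AddCommGrpCat.{u + 1}) φ).app F) ∘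
          fun a => germ ξ F W w (s a) from
        funext fun a => by rw [Function.comp_apply, sheafFiber_germ, hφ]]
      exact ((ConcreteCategory.isIso_iff_bijective _).1 (h Ω' η φ)).comp hs
  obtain ⟨O₀, hO₀, hO₀o, hwO₀⟩ := mem_nhds_iff.1 hnhd
  let O : W.left.Opens := ⟨Subtype.val '' O₀, N.2.isOpenEmbedding_subtypeVal.isOpenMap _ hO₀o⟩
  have hbij : StalkBij F (openObj W O) (res (openHom W O) s) := fun Ω' _ _ η t => by
    obtain ⟨⟨z, hzN⟩, hz, hze⟩ : fiberPoint η ((Scheme.pointSmallEtale η).fiber.map (openHom W O) t) ∈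
        (O : Set W.left) := by
      rw [fiberPoint_map]
      exact (fiberPoint η t).2
    have hb := hO₀ hz Ω' η _ hze.symm
    refine (congrArg Function.Bijective (funext fun a => ?_)).mpr hb
    exact germ_res η F (openHom W O) t (s a)
  refine ⟨⟨W.hom.base '' (O : Set W.left), isOpenMap_hom W _ O.2⟩, ⟨fiberPoint ξ w,
    ⟨⟨fiberPoint ξ w, hwN⟩, hwO₀, rfl⟩, hom_fiberPoint ξ w⟩, isFLC_pull_of_stalkBij _ _ hbij _ ?_⟩
  rintro _ ⟨z, hz, rfl⟩
  exact ⟨⟨z, hz⟩, rfl⟩

/-- Specialization maps between geometric points over the same point are injective on stalks. -/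
theorem injective_sheafFiber_of_same_point (θ : Scheme.pointSmallEtale η ⟶ Scheme.pointSmallEtale ξ)
    (h : η.base default = ξ.base default) (F : EtCoh.Ab X) :
    Function.Injective ((GrothendieckTopology.Point.Hom.sheafFiber (A := AddCommGrpCat.{u + 1}) θ).app F) := by
  rw [injective_iff_map_eq_zero]
  intro a ha
  obtain ⟨U, t, σ, rfl⟩ := germ_surjective ξ F a
  rw [sheafFiber_germ, germ_eq_zero_iff] at ha
  obtain ⟨V, k, v, hv, hk⟩ := ha
  have : AlgebraicGeometry.Etale U.hom := U.prop
  have heq : fiberPoint η (θ.hom.app U t) = fiberPoint ξ t :=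
    Groth.EGA43Topo.eq_of_specializes_of_lqf U.hom
      ((hom_fiberPoint η _).trans (h.trans (hom_fiberPoint ξ t).symm)) (specializes_fiberPoint θ U t)
  obtain ⟨s, hs, -⟩ := exists_fiber_lift ξ k t (fiberPoint η v) (by
    rw [← fiberPoint_map, hv, heq])
  exact (germ_eq_zero_iff ξ F U t σ).2 ⟨V, k, s, hs, hk⟩

/-- The order of a finite geometric stalk only depends on the point. -/
theorem card_stalk_eq (F : EtCoh.Ab X) (h : η.base default = ξ.base default)
    [Finite ((EtCoh.stalk η).obj F)] :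
    Nat.card ((EtCoh.stalk ξ).obj F) = Nat.card ((EtCoh.stalk η).obj F) := by
  obtain ⟨θ⟩ := nonempty_pointHom η ξ (specializes_of_eq h)
  obtain ⟨θ'⟩ := nonempty_pointHom ξ η (specializes_of_eq h.symm)
  have h1 := injective_sheafFiber_of_same_point θ h F
  have : Finite ((EtCoh.stalk ξ).obj F) := Finite.of_injective _ h1
  exact le_antisymm (Nat.card_le_card_of_injective _ h1)
    (Nat.card_le_card_of_injective _ (injective_sheafFiber_of_same_point θ' h.symm F))

variable [IsLocallyNoetherian X]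

omit [IsLocallyNoetherian X] in
/-- A point over the image of a map of geometric points. -/
theorem base_default_of_range {Ω : Type u} [Field Ω] {ξ : Spec (CommRingCat.of Ω) ⟶ X} {x : X}
    (h : Set.range ξ.base = {x}) : ξ.base default = x :=
  h.le ⟨default, rfl⟩

omit [IsLocallyNoetherian X] in
/-- The range of a geometric point. -/
theorem range_eq_singleton {Ω : Type u} [Field Ω] {ξ : Spec (CommRingCat.of Ω) ⟶ X} {x : X}
    (h : ξ.base default = x) : Set.range ξ.base = {x} :=
  Set.eq_singleton_iff_unique_mem.2 ⟨⟨default, h⟩, by rintro _ ⟨a, rfl⟩; rw [Subsingleton.elim a default, h]⟩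

/-- Near a point over the generic point, an etale chart has no other point over the generic point. -/
theorem exists_open_unique_generic [IrreducibleSpace X] (W₀ : X.Etale) (z₀ : W₀.left)
    (hz₀ : W₀.hom.base z₀ = genericPoint X) :
    ∃ O : W₀.left.Opens, z₀ ∈ O ∧ ∀ z ∈ O, W₀.hom.base z = genericPoint X → z = z₀ := by
  have : AlgebraicGeometry.Etale W₀.hom := W₀.prop
  obtain ⟨N, hN, hzN, -⟩ := exists_isAffineOpen_mem_and_subset (U := ⊤) (Set.mem_univ z₀)
  have : IsLocallyNoetherian W₀.left :=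
    @LocallyOfFiniteType.isLocallyNoetherian _ _ W₀.hom inferInstance ‹IsLocallyNoetherian X›
  have : IsAffine (N : Scheme.{u}) := hN
  have : AlgebraicGeometry.IsNoetherian (N : Scheme.{u}) := {}
  have hfinN : {z : (N : Scheme.{u}) | W₀.hom.base (N.ι.base z) = genericPoint X}.Finite := by
    have hmax : ∀ z, W₀.hom.base (N.ι.base z) = genericPoint X →
        irreducibleComponent z = closure {z} := by
      intro z hz
      have hg := (isIrreducible_irreducibleComponent (x := z)).isGenericPoint_genericPoint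
        isClosed_irreducibleComponent
      have hs : N.ι.base (isIrreducible_irreducibleComponent (x := z)).genericPoint ⤳ N.ι.base z :=
        (hg.specializes mem_irreducibleComponent).map N.ι.continuous
      have heq : W₀.hom.base (N.ι.base (isIrreducible_irreducibleComponent (x := z)).genericPoint) =
          genericPoint X :=
        (((genericPoint_spec X).specializes trivial).antisymm
          (by rw [← hz]; exact hs.map W₀.hom.continuous)).eq.symm
      have := N.ι.isOpenEmbedding.injective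
        (Groth.EGA43Topo.eq_of_specializes_of_lqf W₀.hom (heq.trans hz.symm) hs)
      exact (hg.def).symm.trans (by rw [this])
    refine Set.Finite.of_finite_image
      ((NoetherianSpace.finite_irreducibleComponents (α := (N : Scheme.{u}))).subset ?_)
      (f := irreducibleComponent) ?_
    · rintro _ ⟨z, -, rfl⟩
      exact irreducibleComponent_mem_irreducibleComponents z
    · intro a ha b hb hab
      rw [hmax a ha, hmax b hb] at hab
      exact (IsGenericPoint.eq (show IsGenericPoint a (closure {a}) from rfl) hab.symm)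
  let S : Set W₀.left := ⋃ z ∈ {z : (N : Scheme.{u}) | W₀.hom.base (N.ι.base z) = genericPoint X ∧ N.ι.base z ≠ z₀},
    closure {N.ι.base z}
  have hS : IsClosed S := (hfinN.subset fun z hz => hz.1).isClosed_biUnion fun z _ => isClosed_closure
  refine ⟨⟨(N : Set W₀.left) \ S, N.2.sdiff hS⟩, ⟨hzN, fun h => ?_⟩, fun z hz hzg => ?_⟩
  · obtain ⟨z, ⟨hz, hne⟩, hs⟩ := Set.mem_iUnion₂.1 h
    exact hne (Groth.EGA43Topo.eq_of_specializes_of_lqf W₀.hom (hz.trans hz₀.symm)
      (specializes_iff_mem_closure.2 hs))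
  · by_contra hne
    exact hz.2 (Set.mem_biUnion (x := (⟨z, hz.1⟩ : (N : Scheme.{u}))) ⟨hzg, hne⟩
      (subset_closure rfl))

/-- Sections near the generic point which are bijective on the generic stalk factor all
specializations to it. -/
theorem exists_generic_section [IrreducibleSpace X] (F : EtCoh.Ab X)
    [Finite ((EtCoh.stalk (geomPoint (genericPoint X))).obj F)] :
    ∃ (W : X.Etale) (M : Type) (_ : AddCommGroup M) (_ : Finite M)
      (s : ULift.{u + 1} M →+ F.obj.obj (op W)),
      genericPoint X ∈ Set.range W.hom.base ∧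
      Nonempty (ULift.{u + 1} M ≃ (EtCoh.stalk (geomPoint (genericPoint X))).obj F) ∧
      ∀ (Ω : Type u) [Field Ω] [IsSepClosed Ω] (ξ : Spec (CommRingCat.of Ω) ⟶ X)
        (t : (Scheme.pointSmallEtale ξ).fiber.obj W),
        ∃ θ : Scheme.pointSmallEtale (geomPoint (genericPoint X)) ⟶ Scheme.pointSmallEtale ξ,
          Function.Bijective fun a =>
            (GrothendieckTopology.Point.Hom.sheafFiber (A := AddCommGrpCat.{u + 1}) θ).app F
              (germ ξ F W t (s a)) := by
  let η := geomPoint (genericPoint X)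
  obtain ⟨W₀, w₀, M, _, _, s₀, hs₀⟩ := exists_section F η
  obtain ⟨O, hzO, honly⟩ := exists_open_unique_generic W₀ (fiberPoint η w₀)
    ((hom_fiberPoint η w₀).trans (geomPoint_apply _ _))
  obtain ⟨w, hw⟩ := exists_lift_open η O w₀ hzO
  have hsw : Function.Bijective fun a => germ η F (openObj W₀ O) w (res (openHom W₀ O) s₀ a) := by
    refine (congrArg Function.Bijective (funext fun a => ?_)).mpr hs₀
    rw [res_apply, germ_res, hw]
  refine ⟨openObj W₀ O, M, inferInstance, inferInstance, res (openHom W₀ O) s₀,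
    ⟨fiberPoint η w, (hom_fiberPoint η w).trans (geomPoint_apply _ _)⟩,
    ⟨Equiv.ofBijective _ hsw⟩, fun Ω _ _ ξ t => ?_⟩
  obtain ⟨θ₀⟩ := nonempty_pointHom η ξ (by
    rw [geomPoint_apply]; exact (genericPoint_spec X).specializes trivial)
  have heq : fiberPoint η (θ₀.hom.app (openObj W₀ O) t) = fiberPoint η w := by
    apply O.ι.isOpenEmbedding.injective
    have h1 := honly _ (fiberPoint η (θ₀.hom.app (openObj W₀ O) t)).2
      ((hom_fiberPoint η (θ₀.hom.app (openObj W₀ O) t)).trans (geomPoint_apply _ _))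
    have h2 := honly _ (fiberPoint η w).2 ((hom_fiberPoint η w).trans (geomPoint_apply _ _))
    exact h1.trans h2.symm
  obtain ⟨θ, hθ⟩ := exists_pointHom_fiber (openObj W₀ O) w t (heq ▸ specializes_fiberPoint θ₀ _ t)
  refine ⟨θ, (congrArg Function.Bijective (funext fun a => ?_)).mpr hsw⟩
  rw [sheafFiber_germ, hθ]

/-- Near the generic point, injective specialization maps give local constancy. -/
theorem exists_open_isFLC_of_mono [IrreducibleSpace X] {F : EtCoh.Ab X}
    [Finite ((EtCoh.stalk (geomPoint (genericPoint X))).obj F)]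
    (hmono : ∀ (Ω : Type u) [Field Ω] [IsSepClosed Ω] (ξ : Spec (CommRingCat.of Ω) ⟶ X)
      (θ : Scheme.pointSmallEtale (geomPoint (genericPoint X)) ⟶ Scheme.pointSmallEtale ξ),
      Function.Injective ((GrothendieckTopology.Point.Hom.sheafFiber (A := AddCommGrpCat.{u + 1}) θ).app F)) :
    ∃ V : X.Opens, genericPoint X ∈ V ∧ EtCoh.IsFiniteLocallyConstant ((EtCoh.pull V.ι).obj F) := by
  obtain ⟨W, M, _, _, s, hη, -, h⟩ := exists_generic_section F
  refine ⟨⟨Set.range W.hom.base, (isOpenMap_hom W).isOpen_range⟩, hη,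
    isFLC_pull_of_stalkBij W s (fun Ω _ _ ξ t => ?_) _ le_rfl⟩
  obtain ⟨θ, hθ⟩ := h Ω ξ t
  have hi := hmono Ω ξ θ
  refine ⟨fun a b hab => hθ.1 (congrArg _ hab), fun z => ?_⟩
  obtain ⟨a, ha⟩ := hθ.2 _
  exact ⟨a, hi ha⟩

/-- Near the generic point, constancy of the orders of stalks gives local constancy. -/
theorem exists_open_isFLC_of_card [IrreducibleSpace X] {F : EtCoh.Ab X}
    (hfin : ∀ x : X, Finite ((EtCoh.stalk (geomPoint x)).obj F)) {V₀ : X.Opens}
    (hV₀ : genericPoint X ∈ V₀) (hcard : ∀ x ∈ V₀, Nat.card ((EtCoh.stalk (geomPoint x)).obj F) =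
      Nat.card ((EtCoh.stalk (geomPoint (genericPoint X))).obj F)) :
    ∃ V : X.Opens, genericPoint X ∈ V ∧ EtCoh.IsFiniteLocallyConstant ((EtCoh.pull V.ι).obj F) := by
  have := hfin (genericPoint X)
  obtain ⟨W, M, _, _, s, hη, ⟨e⟩, h⟩ := exists_generic_section F
  let O : W.left.Opens := W.hom ⁻¹ᵁ V₀
  refine ⟨⟨W.hom.base '' (O : Set W.left), isOpenMap_hom W _ O.2⟩, ?_,
    isFLC_pull_of_stalkBij (openObj W O) (res (openHom W O) s) (fun Ω _ _ ξ t => ?_) _ ?_⟩
  · obtain ⟨z, hz⟩ := hη
    exact ⟨z, show W.hom.base z ∈ V₀ from hz.symm ▸ hV₀, hz⟩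
  · let t' := (Scheme.pointSmallEtale ξ).fiber.map (openHom W O) t
    have hmem : ξ.base default ∈ V₀ := by
      rw [← hom_fiberPoint ξ t', fiberPoint_map]
      exact (fiberPoint ξ t).2
    obtain ⟨θ, hθ⟩ := h Ω ξ t'
    have := hfin (ξ.base default)
    have hc : Nat.card ((EtCoh.stalk ξ).obj F) = Nat.card (ULift.{u + 1} M) := by
      rw [card_stalk_eq F (η := geomPoint (ξ.base default)) (geomPoint_apply _ _), hcard _ hmem,
        Nat.card_congr e]
    have : Finite ((EtCoh.stalk ξ).obj F) :=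
      Nat.finite_of_card_ne_zero (by rw [hc]; exact Nat.card_pos.ne')
    refine (congrArg Function.Bijective (funext fun a => germ_res ξ F (openHom W O) t (s a))).mpr ?_
    refine (Nat.bijective_iff_injective_and_card _).2 ⟨fun a b hab => hθ.1 (congrArg _ hab), hc.symm⟩
  · rintro _ ⟨z, hz, rfl⟩
    exact ⟨⟨z, hz⟩, rfl⟩

end Groth.EtaleDeep.Cons
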