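import Groth.Agent.EtaleDeep.Cons.SpecTransfer
import Groth.Agent.EtaleDeep.AR.AdicModule

/-!
# Common strata for adic systems of constructible sheaves
-/

set_option autoImplicit false
set_option backward.isDefEq.respectTransparency.types false
set_option linter.style.haveILetI false

universe u

open CategoryTheory CategoryTheory.Limits AlgebraicGeometry Opposite Topology TopologicalSpace

namespace Groth.EtaleDeep.Cons

open Groth.EtaleBase Groth.EtaleBase.LocConst

variable {Λ : Type (u + 1)} [CommRing Λ] {X : Scheme.{u}} {I : Ideal Λ}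
  {F : ARSys.PS (EtModW.Mod Λ X)}

/-- Stalks of adic systems are adic. -/
theorem isAdic_stalk {Ω : Type u} [Field Ω] [IsSepClosed Ω] (ξ : Spec (CommRingCat.of Ω) ⟶ X)
    (hF : ARSys.IsAdic I F) : ARSys.IsAdic I (F ⋙ EtModW.stalk Λ ξ) := by
  have : HasLimitsOfSize.{u, u} (ModuleCat.{u + 1} Λ) := ModuleCat.hasLimitsOfSize.{u, u, u + 1, u + 1}
  have : HasColimitsOfSize.{u, u} (ModuleCat.{u + 1} Λ) :=
    hasColimitsOfSizeShrink.{u, u, u + 1, u + 1} _
  let adj := (Scheme.pointSmallEtale ξ).skyscraperSheafAdjunction (A := ModuleCat.{u + 1} Λ)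
  have hR : ∀ {Z Z' : ModuleCat.{u + 1} Λ} (g : Z ⟶ Z') (a : Λ),
      (Scheme.pointSmallEtale ξ).skyscraperSheafFunctor.map (a • g) =
        a • (Scheme.pointSmallEtale ξ).skyscraperSheafFunctor.map g := fun g a => by
    refine Sheaf.hom_ext (NatTrans.ext (funext fun T => ?_))
    change (Limits.Pi.map fun _ => a • g) = a • (Limits.Pi.map fun _ => g)
    ext i : 1
    simp
  exact AR.isAdic_map _ adj hR hF

/-- Inverse images of adic systems are adic. -/
theorem isAdic_pull {X' : Scheme.{u}} (f : X' ⟶ X) (hF : ARSys.IsAdic I F) :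
    ARSys.IsAdic I (F ⋙ EtModW.pull Λ f) :=
  AR.isAdic_map _ (FixPt.pullPushAdj f) (fun _ _ => rfl) hF

omit [CommRing Λ] in
/-- A locally closed set through the generic point is open. -/
theorem isOpen_of_generic [IrreducibleSpace X] {E : Set X} (hE : IsLocallyClosed E)
    (h : genericPoint X ∈ E) : IsOpen E := by
  obtain ⟨U, C, hU, hC, rfl⟩ := hE
  have : C = Set.univ := Set.eq_univ_of_univ_subset
    ((genericPoint_spec X).def.ge.trans (hC.closure_subset_iff.2 (Set.singleton_subset_iff.2 h.2)))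
  rw [this, Set.inter_univ]
  exact hU

variable [IsNoetherianRing Λ]

/-- A constructible sheaf is locally constant near the generic point. -/
theorem exists_open_ftOn [IsLocallyNoetherian X] [IrreducibleSpace X] {G : EtModW.Mod Λ X}
    (hG : EtModW.IsConstructible Λ G) :
    ∃ U : X.Opens, genericPoint X ∈ U ∧ EtModW.IsFTLocConst Λ ((EtModW.pull Λ U.ι).obj G) := by
  obtain ⟨A, hA, hηA, -⟩ := exists_isAffineOpen_mem_and_subset (U := ⊤) (Set.mem_univ (genericPoint X))
  obtain ⟨n, T, g, hg, -, -, hu, hFT⟩ := hG A hA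
  obtain ⟨i, hi⟩ := Set.mem_iUnion.1 (hu.ge hηA)
  have := hg i
  let U : X.Opens := ⟨Set.range (g i), isOpen_of_generic (g i).isLocallyClosed_range hi⟩
  have hU : genericPoint X ∈ U := hi
  refine ⟨U, hU, ?_⟩
  have hr : Set.range (g i) ⊆ Set.range U.ι := by rw [Scheme.Opens.range_ι]; exact subset_rfl
  let g' := IsOpenImmersion.lift U.ι (g i) hr
  have hg' : g' ≫ U.ι = g i := IsOpenImmersion.lift_fac _ _ _
  have : IsImmersion (g' ≫ U.ι) := hg'.symm ▸ inferInstance
  have : IsImmersion g' := IsImmersion.of_comp g' U.ι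
  have hT : EtModW.IsFTLocConst Λ ((EtModW.pull Λ g').obj ((EtModW.pull Λ U.ι).obj G)) :=
    (ftOn_pull_iff U.ι G g').2 (show EtModW.IsFTLocConst Λ ((EtModW.pull Λ (g' ≫ U.ι)).obj G) by
      rw [hg']; exact hFT i)
  refine isFT_of_immersions (fun x => finite_stalk_of_isConstructible _ (isConstructibleMod_pull U.ι hG))
    (fun _ : PUnit.{1} => T i) (fun _ => g') (fun x y _ => ⟨⟨⟩, ?_, ?_⟩) fun _ => hT
  · obtain ⟨z, hz⟩ := (x.2 : x.1 ∈ (U : Set X))
    refine ⟨z, U.ι.isOpenEmbedding.injective ?_⟩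
    rw [← Scheme.Hom.comp_apply, hg']
    exact hz
  · obtain ⟨z, hz⟩ := (y.2 : y.1 ∈ (U : Set X))
    refine ⟨z, U.ι.isOpenEmbedding.injective ?_⟩
    rw [← Scheme.Hom.comp_apply, hg']
    exact hz

/-- An adic system of constructible sheaves is lisse near the generic point. -/
theorem exists_open_lisse [IsLocallyNoetherian X] [IrreducibleSpace X] (hF : ARSys.IsAdic I F)
    (hc : ∀ n : ℕ, EtModW.IsConstructible Λ (F.obj (op n))) :
    ∃ U : X.Opens, genericPoint X ∈ U ∧
      ∀ n : ℕ, EtModW.IsFTLocConst Λ ((EtModW.pull Λ U.ι).obj (F.obj (op n))) := by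
  let η := geomPoint (genericPoint X)
  have : Module.Finite Λ ((F ⋙ EtModW.stalk Λ η).obj (op 0)) :=
    finite_stalk_of_isConstructible η (hc 0)
  obtain ⟨N, hN⟩ := AR.exists_bound_bijective (isAdic_stalk η hF)
  choose U hU hUFT using fun n => exists_open_ftOn (X := X) (hc n)
  let V : X.Opens := ⟨⋂ n ∈ Finset.range (N + 1), (U n : Set X),
    isOpen_biInter_finset fun n _ => (U n).2⟩
  have hηV : genericPoint X ∈ V := Set.mem_iInter₂.2 fun n _ => hU n
  have hlow : ∀ n ≤ N, EtModW.IsFTLocConst Λ ((EtModW.pull Λ V.ι).obj (F.obj (op n))) := fun n hn => by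
    have hle : V ≤ U n := fun x hx => Set.mem_iInter₂.1 hx n (Finset.mem_range.2 (Nat.lt_succ_of_le hn))
    rw [← X.homOfLE_ι hle]
    exact stable_FTOn _ (X.homOfLE hle) (U n).ι (hUFT n)
  refine ⟨V, hηV, fun m => isFT_of_spec (fun x => finite_stalk_of_isConstructible _
    (isConstructibleMod_pull V.ι (hc m))) fun Ω₁ _ _ Ω₂ _ _ η₁ ξ₁ φ => ?_⟩
  let G : ARSys.PS (EtModW.Mod Λ (V : Scheme.{u})) := F ⋙ EtModW.pull Λ V.ι
  have hG : ARSys.IsAdic I G := isAdic_pull V.ι hF
  obtain ⟨ηV, hηV'⟩ := exists_lift_immersion η V.ι (by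
    rw [Scheme.Opens.range_ι]; exact (geomPoint_apply _ _).symm ▸ hηV)
  let e : G ⋙ EtModW.stalk Λ ηV ≅ F ⋙ EtModW.stalk Λ η :=
    Functor.associator _ _ _ ≪≫ Functor.isoWhiskerLeft F
      ((PullModExact.stalkPullModIso Λ V.ι ηV).symm ≪≫ eqToIso (by rw [hηV']))
  -- generization maps into the generic stalk are bijective in all degrees
  have key : ∀ {Ω' : Type u} [Field Ω'] [IsSepClosed Ω'] (ζ : Spec (CommRingCat.of Ω') ⟶ (V : Scheme.{u}))
      (θ : Scheme.pointSmallEtale ηV ⟶ Scheme.pointSmallEtale ζ) (n : ℕ),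
      Function.Bijective ((cospec θ).app (G.obj (op n))).hom := by
    intro Ω' _ _ ζ θ n
    have hb : ∀ n, Function.Bijective (e.hom.app (op n)).hom := fun n =>
      (ConcreteCategory.isIso_iff_bijective (e.hom.app (op n))).1 inferInstance
    have h := hN (G ⋙ EtModW.stalk Λ ζ) (isAdic_stalk ζ hG) (Functor.whiskerLeft G (cospec θ) ≫ e.hom)
      (fun k hk => (hb k).comp ((ConcreteCategory.isIso_iff_bijective _).1 (isIso_cospec (hlow k hk) θ))) n
    exact ((hb n).of_comp_iff' _).1 h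
  obtain ⟨θ⟩ := nonempty_pointHom ηV η₁ (by
    rw [← V.ι.isOpenEmbedding.isInducing.specializes_iff,
      show V.ι.base (ηV.base default) = genericPoint X from
        (congrArg (fun h : Spec (CommRingCat.of _) ⟶ X => h.base default) hηV').trans (geomPoint_apply _ _)]
    exact (genericPoint_spec X).specializes trivial)
  have : HasColimitsOfSize.{u, u} (ModuleCat.{u + 1} Λ) :=
    hasColimitsOfSizeShrink.{u, u, u + 1, u + 1} _
  have h2 := key ξ₁ (θ ≫ φ) m
  have hcomp : (cospec (θ ≫ φ)).app (G.obj (op m)) =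
      (cospec φ).app (G.obj (op m)) ≫ (cospec θ).app (G.obj (op m)) :=
    congrArg (fun t => NatTrans.app t (G.obj (op m))) (GrothendieckTopology.Point.Hom.sheafFiber_comp θ φ)
  rw [hcomp] at h2
  exact (ConcreteCategory.isIso_iff_bijective _).2 (((key η₁ θ m).of_comp_iff' _).1 h2)

/-- The property of being lisse for the whole system. -/
def LisseOn (F : ARSys.PS (EtModW.Mod Λ X)) : ∀ ⦃T : Scheme.{u}⦄, (T ⟶ X) → Prop :=
  fun _ g => ∀ n : ℕ, FTOn (F.obj (op n)) g

omit [IsNoetherianRing Λ] in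
theorem stable_lisseOn (F : ARSys.PS (EtModW.Mod Λ X)) : Stable (LisseOn F) :=
  fun _ _ h g hg n => stable_FTOn _ h g (hg n)

variable [IsNoetherian X]

/-- A nonempty closed subset contains a nonempty relatively open lisse piece. -/
theorem exists_piece_lisse (hF : ARSys.IsAdic I F)
    (hc : ∀ n : ℕ, EtModW.IsConstructible Λ (F.obj (op n))) {C : Set X} (hC : IsClosed C)
    (hne : C.Nonempty) :
    ∃ O : Set X, IsOpen O ∧ (C ∩ O).Nonempty ∧ Piece (LisseOn F) (C ∩ O) := by
  have : NoetherianSpace C := NoetherianSpace.set C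
  have := hne.to_subtype
  obtain ⟨x⟩ := this
  obtain ⟨O₁, hO₁, hne₁, hle⟩ : ∃ O₁ : Set C, IsOpen O₁ ∧ O₁.Nonempty ∧ O₁ ⊆ irreducibleComponent x := by
    let Z := irreducibleComponent x
    have hZ := irreducibleComponent_mem_irreducibleComponents x
    exact NoetherianSpace.exists_isOpen_nonempty_subset_irreducibleComponent Z hZ
  obtain ⟨O, hO, rfl⟩ := hO₁
  have hirr : IsIrreducible (C ∩ O) := by
    have h1 : IsIrreducible (Subtype.val ⁻¹' O : Set C) :=
      ⟨hne₁, (isIrreducible_irreducibleComponent (x := x)).2.open_subset (hO.preimage continuous_subtype_val) hle⟩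
    have := h1.image Subtype.val continuous_subtype_val.continuousOn
    rwa [Subtype.image_preimage_coe] at this
  obtain ⟨⟨T, g, hg, hred, hr⟩, -⟩ :=
    PropsBasic2.existsUnique_reduced X (C ∩ O) ⟨O, C, hO, hC, Set.inter_comm _ _⟩
  have := hg
  have : IrreducibleSpace T := by
    let e : T ≃ₜ ↥(C ∩ O) := g.isEmbedding.toHomeomorph.trans (Homeomorph.setCongr hr)
    have := isIrreducible_iff_irreducibleSpace.1 hirr
    have : Nonempty T := ⟨e.symm (Classical.arbitrary _)⟩
    exact { isPreirreducible_univ := by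
              have := (IrreducibleSpace.isIrreducible_univ ↥(C ∩ O)).image e.symm e.symm.continuous.continuousOn
              rw [Set.image_univ, e.symm.surjective.range_eq] at this
              exact this.2
            toNonempty := ⟨e.symm (Classical.arbitrary _)⟩ }
  have : IsLocallyNoetherian T := LocallyOfFiniteType.isLocallyNoetherian g
  obtain ⟨V, hηV, hV⟩ := exists_open_lisse (isAdic_pull g hF) fun n => isConstructibleMod_pull g (hc n)
  obtain ⟨O₂, hO₂, hO₂V⟩ := g.isEmbedding.isInducing.isOpen_iff.1 V.2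
  have hrange : C ∩ (O ∩ O₂) = Set.range (V.ι ≫ g) := by
    rw [Scheme.Hom.comp_base, TopCat.coe_comp, Set.range_comp, Scheme.Opens.range_ι]
    change _ = g '' (V.carrier)
    rw [show V.carrier = g ⁻¹' O₂ from hO₂V.symm, Set.image_preimage_eq_inter_range, hr,
      ← Set.inter_assoc, Set.inter_comm]
  refine ⟨O ∩ O₂, hO.inter hO₂, ?_, _, V.ι ≫ g, inferInstance, hrange.symm, fun n => ?_⟩
  · rw [hrange]
    exact ⟨g (genericPoint T), ⟨⟨_, hηV⟩, rfl⟩⟩
  · exact (ftOn_pull_iff g (F.obj (op n)) V.ι).1 (hV n)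

/-- Common strata for an adic system of constructible sheaves. -/
theorem isCons_lisseOn (hF : ARSys.IsAdic I F)
    (hc : ∀ n : ℕ, EtModW.IsConstructible Λ (F.obj (op n))) : IsCons (LisseOn F) := by
  rw [isCons_iff_adapted_univ (stable_lisseOn F)]
  suffices ∀ C : Closeds X, ∃ (m : ℕ) (E : Fin m → Set X),
      (∀ i, Piece (LisseOn F) (E i)) ∧ (∀ i, IsLocallyClosed (E i)) ∧ (C : Set X) ⊆ ⋃ i, E i by
    obtain ⟨m, E, hE, hlc, hcov⟩ := this ⊤
    refine adapted_of_pieces (stable_lisseOn F) isOpen_univ E hE (fun i => ?_)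
      (fun i => Set.subset_univ _) hcov
    obtain ⟨U, Z, hU, hZ, he⟩ := hlc i
    have : NoetherianSpace (Set.univ : Set X) := NoetherianSpace.set _
    rw [he, Set.preimage_inter]
    have hop : ∀ s : Set (Set.univ : Set X), IsOpen s → Topology.IsConstructible s := fun s hs =>
      (show IsRetrocompact s from fun _ _ _ => NoetherianSpace.isCompact _).isConstructible hs
    refine (hop _ (hU.preimage continuous_subtype_val)).inter ?_
    rw [← compl_compl (Subtype.val ⁻¹' Z)]
    exact (hop _ (hZ.preimage continuous_subtype_val).isOpen_compl).compl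
  intro C
  induction C using (wellFounded_lt (α := Closeds X)).induction with
  | _ C ih =>
    by_cases hne : (C : Set X).Nonempty
    · obtain ⟨O, hO, hne', hp⟩ := exists_piece_lisse hF hc C.2 hne
      let C' : Closeds X := ⟨(C : Set X) \ O, C.2.sdiff hO⟩
      obtain ⟨m, E, hE, hlc, hcov⟩ := ih C' (lt_of_le_of_ne (fun _ h => h.1) fun h => by
        obtain ⟨y, hy, hy'⟩ := hne'
        have : y ∈ (C' : Set X) := by rw [h]; exact hy
        exact this.2 hy')
      refine ⟨m + 1, Fin.cons ((C : Set X) ∩ O) E, Fin.cases hp hE,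
        Fin.cases ⟨O, C, hO, C.2, Set.inter_comm _ _⟩ hlc, fun y hy => ?_⟩
      by_cases hyO : y ∈ O
      · exact Set.mem_iUnion.2 ⟨0, hy, hyO⟩
      · obtain ⟨i, hi⟩ := Set.mem_iUnion.1 (hcov ⟨hy, hyO⟩)
        exact Set.mem_iUnion.2 ⟨i.succ, hi⟩
    · exact ⟨0, fun i => i.elim0, fun i => i.elim0, fun i => i.elim0, fun y hy => absurd ⟨y, hy⟩ hne⟩

/-- A dense open on which an adic system of constructible sheaves is lisse. -/
theorem exists_dense_lisse (hF : ARSys.IsAdic I F)
    (hc : ∀ n : ℕ, EtModW.IsConstructible Λ (F.obj (op n))) :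
    ∃ U : X.Opens, Dense (U : Set X) ∧
      ∀ n : ℕ, EtModW.IsFTLocConst Λ ((EtModW.pull Λ U.ι).obj (F.obj (op n))) := by
  have hfin := NoetherianSpace.finite_irreducibleComponents (α := X)
  -- the open parts of the components
  let W : irreducibleComponents X → X.Opens := fun Z =>
    ⟨(⋃₀ (irreducibleComponents X \ {Z.1}))ᶜ, by
      rw [Set.sUnion_eq_biUnion, isOpen_compl_iff]
      exact hfin.sdiff.isClosed_biUnion fun Z' h => isClosed_of_mem_irreducibleComponents Z' h.1⟩
  have hcl : ∀ Z, closure (W Z : Set X) = Z.1 := fun Z =>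
    closure_sUnion_irreducibleComponents_sdiff_singleton hfin Z.1 Z.2
  have hW : ∀ Z, (W Z : Set X) ⊆ Z.1 := fun Z => subset_closure.trans (hcl Z).le
  have : ∀ Z, IrreducibleSpace (W Z : Scheme.{u}) := fun Z => by
    have h1 : IsIrreducible (W Z : Set X) := isIrreducible_iff_closure.1 ((hcl Z).symm ▸ Z.2.1)
    exact isIrreducible_iff_irreducibleSpace.1 h1
  choose U hηU hU using fun Z => exists_open_lisse (X := (W Z : Scheme.{u}))
    (isAdic_pull (W Z).ι hF) fun n => isConstructibleMod_pull (W Z).ι (hc n)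
  let D : X.Opens := ⨆ Z, (W Z).ι ''ᵁ U Z
  refine ⟨D, fun x => ?_, fun n => ?_⟩
  · let Z : irreducibleComponents X := ⟨_, irreducibleComponent_mem_irreducibleComponents x⟩
    let V : X.Opens := (W Z).ι ''ᵁ U Z
    have hVne : ((W Z : Set X) ∩ V).Nonempty :=
      ⟨(W Z).ι (genericPoint (W Z : Scheme.{u})), (genericPoint (W Z : Scheme.{u})).2, _, hηU Z, rfl⟩
    have h1 : x ∈ closure (W Z : Set X) := (hcl Z).symm ▸ mem_irreducibleComponent
    have h2 : (W Z : Set X) ⊆ closure (D : Set X) :=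
      (subset_closure_inter_of_isPreirreducible_of_isOpen
        (isIrreducible_iff_closure.1 ((hcl Z).symm ▸ Z.2.1)).2 V.2 hVne).trans
        (closure_mono fun y hy => TopologicalSpace.Opens.mem_iSup.2 ⟨Z, hy.2⟩)
    exact closure_minimal h2 isClosed_closure h1
  · let G := (EtModW.pull Λ D.ι).obj (F.obj (op n))
    have hle : ∀ Z, (W Z).ι ''ᵁ U Z ≤ D := fun Z => le_iSup (fun Z => (W Z).ι ''ᵁ U Z) Z
    refine isFT_of_immersions (fun x => finite_stalk_of_isConstructible _ (isConstructibleMod_pull D.ι (hc n)))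
      (fun Z => (U Z : Scheme.{u}))
      (fun Z => IsOpenImmersion.lift D.ι ((U Z).ι ≫ (W Z).ι) (by
        rw [Scheme.Opens.range_ι]
        rintro _ ⟨z, rfl⟩
        exact hle Z ⟨z.1, z.2, rfl⟩)) (fun x y hxy => ?_) fun Z => ?_
    · obtain ⟨Z, hy⟩ := TopologicalSpace.Opens.mem_iSup.1 y.2
      have hx : x.1 ∈ (W Z).ι ''ᵁ U Z :=
        (hxy.map D.ι.continuous).mem_open ((W Z).ι ''ᵁ U Z).2 hy
      refine ⟨Z, ?_, ?_⟩
      · obtain ⟨a, ha, hax⟩ := hx
        refine ⟨⟨a, ha⟩, D.ι.isOpenEmbedding.injective ?_⟩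
        rw [← Scheme.Hom.comp_apply, IsOpenImmersion.lift_fac]
        exact hax
      · obtain ⟨a, ha, hay⟩ := hy
        refine ⟨⟨a, ha⟩, D.ι.isOpenEmbedding.injective ?_⟩
        rw [← Scheme.Hom.comp_apply, IsOpenImmersion.lift_fac]
        exact hay
    · have h := (ftOn_pull_iff (W Z).ι (F.obj (op n)) (U Z).ι).1 (hU Z n)
      refine (ftOn_pull_iff D.ι (F.obj (op n)) _).2 ?_
      rw [IsOpenImmersion.lift_fac]
      exact h

end Groth.EtaleDeep.Cons
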