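import Groth.Agent.EtaleDeep.Cons.AbSpec
import Groth.Agent.SpectralTopology.Constructible
import Mathlib.AlgebraicGeometry.Morphisms.FinitePresentation

/-!
# Constructibility through bijectivity loci

An abelian sheaf is constructible if and only if its stalks are finite and, for sections of it over an
etale chart indexed by a finite group, the locus where they give bijections on stalks is locally
constructible.
-/

set_option autoImplicit false
set_option backward.isDefEq.respectTransparency.types false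
set_option linter.style.haveILetI false

universe u

open CategoryTheory CategoryTheory.Limits AlgebraicGeometry Opposite Topology TopologicalSpace

namespace Groth.EtaleDeep.Cons

open Groth.EtaleBase Groth.EtaleBase.LocConst Groth.EtaleBase.SitePt

variable {X : Scheme.{u}}

/-- Bijectivity of sections on stalks does not depend on the geometric point over a point. -/
theorem bijective_germ_of_fiberPoint_eq (G : EtCoh.Ab X) (W : X.Etale) {M : Type (u + 1)} [AddCommGroup M]
    (s : M →+ G.obj.obj (op W)) {Ω Ω' : Type u} [Field Ω] [IsSepClosed Ω] [Field Ω'] [IsSepClosed Ω']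
    {η : Spec (CommRingCat.of Ω) ⟶ X} {ξ : Spec (CommRingCat.of Ω') ⟶ X}
    (t : (Scheme.pointSmallEtale η).fiber.obj W) (w : (Scheme.pointSmallEtale ξ).fiber.obj W)
    (h : fiberPoint η t = fiberPoint ξ w) (hw : Function.Bijective fun a => germ ξ G W w (s a)) :
    Function.Bijective fun a => germ η G W t (s a) := by
  have hb : η.base default = ξ.base default := by rw [← hom_fiberPoint η t, h, hom_fiberPoint ξ w]
  obtain ⟨φ, hφ⟩ := exists_pointHom_fiber W t w (specializes_of_eq h)
  obtain ⟨φ', hφ'⟩ := exists_pointHom_fiber W w t (specializes_of_eq h.symm)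
  have e1 : ∀ a, (GrothendieckTopology.Point.Hom.sheafFiber (A := AddCommGrpCat.{u + 1}) φ).app G
      (germ ξ G W w (s a)) = germ η G W t (s a) := fun a => by rw [sheafFiber_germ, hφ]
  have e2 : ∀ a, (GrothendieckTopology.Point.Hom.sheafFiber (A := AddCommGrpCat.{u + 1}) φ').app G
      (germ η G W t (s a)) = germ ξ G W w (s a) := fun a => by rw [sheafFiber_germ, hφ']
  refine ⟨fun a b hab => hw.1 (injective_sheafFiber_of_same_point φ hb G ?_), fun y => ?_⟩
  · rw [e1, e1]
    exact hab
  · obtain ⟨a, ha⟩ := hw.2 ((GrothendieckTopology.Point.Hom.sheafFiber (A := AddCommGrpCat.{u + 1}) φ').app G y)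
    exact ⟨a, injective_sheafFiber_of_same_point φ' hb.symm G ((e2 a).trans ha)⟩

/-- Sections which are bijective over the image of a morphism pull back to trivializing sections. -/
theorem stalkBij_pull_of_range {T : Scheme.{u}} (g : T ⟶ X) {F : EtCoh.Ab X} (W : X.Etale)
    {M : Type (u + 1)} [AddCommGroup M] (s : M →+ F.obj.obj (op W))
    (h : ∀ z : W.left, W.hom.base z ∈ Set.range g.base → z ∈ bijLocus F W s) :
    StalkBij ((EtCoh.pull g).obj F) ((EtCoh.bc g).obj W)
      (((((EtCoh.pullPushAdj g).unit.app F).hom.app (op W)).hom).comp s) := fun Ω _ _ ξ t' => by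
  let t := bcFiberEquiv g ξ W t'
  have ht : pushLift g ξ rfl W t = t' := (bcFiberEquiv g ξ W).symm_apply_apply t'
  have e : (fun a => germ ξ ((EtCoh.pull g).obj F) ((EtCoh.bc g).obj W) t'
        (((((EtCoh.pullPushAdj g).unit.app F).hom.app (op W)).hom).comp s a)) =
      fun a => (stalkPullIso g ξ).hom.app F (germ (ξ ≫ g) F W t (s a)) := funext fun a => by
    rw [stalkPullIso_germ, ht]
    rfl
  refine (congrArg Function.Bijective e).mpr
    (((ConcreteCategory.isIso_iff_bijective ((stalkPullIso g ξ).hom.app F)).1 inferInstance).comp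
      (h (fiberPoint (ξ ≫ g) t) ?_ Ω (ξ ≫ g) t rfl))
  rw [hom_fiberPoint, Scheme.Hom.comp_apply]
  exact ⟨_, rfl⟩

/-- The criterion: every point has an etale chart with sections which are bijective on stalks along a
locally constructible set through it. -/
theorem isConstructible_of_sections {G : EtCoh.Ab X}
    (hsec : ∀ x : X, ∃ (W : X.Etale) (w : (Scheme.pointSmallEtale (geomPoint x)).fiber.obj W) (M : Type)
      (_ : AddCommGroup M) (_ : Finite M) (s : ULift.{u + 1} M →+ G.obj.obj (op W)) (S : Set W.left),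
      IsLocallyConstructible S ∧ fiberPoint (geomPoint x) w ∈ S ∧ S ⊆ bijLocus G W s) :
    EtPBC.IsConstructible G := by
  rw [isConstructible_iff]
  intro U hU
  have : IsAffine U.toScheme := hU
  have : CompactSpace U.toScheme := isCompact_iff_compactSpace.mp hU.isCompact
  have hUs := Groth.EGA41Two.spectralSpace_affine U hU
  -- around every point, a constructible set with the property on its locally closed subsets
  have key : ∀ x : (U : Set X), ∃ E : Set (U : Set X), IsConstructible E ∧ x ∈ E ∧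
      ∀ L : Set X, IsLocallyClosed L → L ⊆ Subtype.val '' E → Piece (FLCOn G) L := by
    intro x
    obtain ⟨W, w, M, _, _, s, S, hSc, hwS, hS⟩ := hsec x.1
    have hw₀ : W.hom.base (fiberPoint (geomPoint x.1) w) = x.1 :=
      (hom_fiberPoint _ w).trans (geomPoint_apply _ _)
    have : AlgebraicGeometry.Etale W.hom := W.prop
    obtain ⟨O', hO', hw'⟩ := isOpen_induced_iff.1
      (@isOpen_discrete _ _ (W.hom.isDiscrete_preimage_singleton x.1).to_subtype
        {(⟨fiberPoint (geomPoint x.1) w, hw₀⟩ : W.hom.base ⁻¹' {x.1})})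
    obtain ⟨N, hN, hwN, hNle⟩ := exists_isAffineOpen_mem_and_subset
      (U := W.hom ⁻¹ᵁ U ⊓ ⟨O', hO'⟩) (x := fiberPoint (geomPoint x.1) w)
      ⟨show W.hom.base _ ∈ U by rw [hw₀]; exact x.2,
        show (⟨fiberPoint (geomPoint x.1) w, hw₀⟩ : W.hom.base ⁻¹' {x.1}) ∈ Subtype.val ⁻¹' O' from
          hw'.ge rfl⟩
    have hNU : N ≤ W.hom ⁻¹ᵁ U := fun z hz => (hNle hz).1
    have : IsAffine N.toScheme := hN
    have := Groth.EGA41Two.spectralSpace_affine N hN
    have hB : IsConstructible ((Subtype.val ⁻¹' S : Set (N : Set W.left))ᶜ) :=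
      ((hSc.preimage_of_isOpenEmbedding N.2.isOpenEmbedding_subtypeVal).isConstructible).compl
    have : IsAffineHom (W.hom.resLE U N hNU) := isAffineHom_of_isAffine _
    have hrel : ∀ z : (N : Set W.left), ((W.hom.resLE U N hNU) z).1 = W.hom.base z.1 :=
      fun z => congr($(Scheme.Hom.resLE_comp_ι W.hom hNU) z)
    refine ⟨(W.hom.resLE U N hNU) '' Set.univ \ (W.hom.resLE U N hNU) ''
        ((Subtype.val ⁻¹' S : Set (N : Set W.left))ᶜ),
      ((W.hom.resLE U N hNU).isConstructible_image IsConstructible.univ).sdiff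
        ((W.hom.resLE U N hNU).isConstructible_image hB),
      ⟨⟨⟨fiberPoint (geomPoint x.1) w, hwN⟩, trivial, Subtype.ext ((hrel _).trans hw₀)⟩, ?_⟩, ?_⟩
    · rintro ⟨⟨z, hzN⟩, hz, hzx⟩
      have hzx' : W.hom.base z = x.1 := (hrel ⟨z, hzN⟩).symm.trans (congrArg Subtype.val hzx)
      have hzw : z = fiberPoint (geomPoint x.1) w :=
        congrArg Subtype.val (hw'.le (show (⟨z, hzx'⟩ : W.hom.base ⁻¹' {x.1}) ∈ Subtype.val ⁻¹' O' from
          (hNle hzN).2))
      exact hz (show z ∈ S from hzw.symm ▸ hwS)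
    · intro L hL hLE
      obtain ⟨⟨T, g, hg, -, hr⟩, -⟩ := PropsBasic2.existsUnique_reduced X L hL
      have := hg
      refine ⟨T, g, hg, hr, ?_⟩
      intro _
      refine isFLC_iff.2 fun t => ?_
      have hgL : ∀ t' : T, g.base t' ∈ L := fun t' => hr.le ⟨t', rfl⟩
      obtain ⟨p, ⟨⟨⟨z, -, hz⟩, -⟩, hp⟩⟩ := hLE (hgL t)
      refine ⟨(EtCoh.bc g).obj (openObj W N), exists_bc_point g _ t
        ⟨z, (hrel z).symm.trans ((congrArg Subtype.val hz).trans hp)⟩, M, _, inferInstance, _,
        stalkBij_pull_of_range g (openObj W N) (res (openHom W N) s) ?_⟩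
      rintro z' ⟨t', ht'⟩ Ω _ _ η τ hτ
      obtain ⟨p', ⟨⟨-, hnot⟩, hp'⟩⟩ := hLE (hgL t')
      have hz' : (⟨z'.1, z'.2⟩ : (N : Set W.left)) ∈ Subtype.val ⁻¹' S := by
        by_contra hne
        refine hnot ⟨⟨z'.1, z'.2⟩, hne, Subtype.ext ((hrel _).trans ?_)⟩
        rw [hp', ht']
        rfl
      refine (congrArg Function.Bijective (funext fun a => germ_res η G (openHom W N) τ (s a))).mpr
        (hS hz' Ω η _ ?_)
      rw [fiberPoint_map, hτ]
      rfl
  choose E hE hxE hEP using key
  obtain ⟨t, ht⟩ := @IsCompact.elim_finite_subcover _ (constructibleTopology (U : Set X)) Set.univ _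
    (Groth.SpectralTopology.isCompact_ct_of_isClosed_ct (@isClosed_univ _ (constructibleTopology (U : Set X)))) E
    (fun x => (Groth.SpectralTopology.isClopen_ct_of_isConstructible (hE x)).2)
    (fun x _ => Set.mem_iUnion.2 ⟨x, hxE x⟩)
  choose n A B hA hB hAB using fun x : t => Groth.SpectralTopology.exists_pieces (hE x.1)
  refine adapted_of_pieces (stable_FLCOn G) U.2
    (fun j : (x : t) × Fin (n x) => Subtype.val '' (A j.1 j.2 \ B j.1 j.2))
    (fun j => hEP j.1.1 _
      ((Groth.SpectralTopology.isLocallyClosed_sdiff (hA j.1 j.2).1 (hB j.1 j.2).1).image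
        IsInducing.subtypeVal (by rw [Subtype.range_coe]; exact U.2.isLocallyClosed))
      (Set.image_mono (hAB j.1 ▸ Set.subset_iUnion (fun i => A j.1 i \ B j.1 i) j.2)))
    (fun j => ?_) (fun j => ?_) fun y hy => ?_
  · rw [Set.preimage_image_eq _ Subtype.val_injective]
    exact ((hA j.1 j.2).2.isConstructible (hA j.1 j.2).1).sdiff
      ((hB j.1 j.2).2.isConstructible (hB j.1 j.2).1)
  · rintro _ ⟨z, -, rfl⟩
    exact z.2
  · obtain ⟨x, hx, hyx⟩ := Set.mem_iUnion₂.1 (ht (Set.mem_univ (⟨y, hy⟩ : (U : Set X))))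
    rw [hAB ⟨x, hx⟩] at hyx
    obtain ⟨i, hi⟩ := Set.mem_iUnion.1 hyx
    exact Set.mem_iUnion.2 ⟨⟨⟨x, hx⟩, i⟩, ⟨y, hy⟩, hi, rfl⟩

/-- Finite stalks and locally constructible bijectivity loci give constructibility. -/
theorem isConstructible_of_bijLocus {G : EtCoh.Ab X}
    (hfin : ∀ x : X, Finite ((EtCoh.stalk (geomPoint x)).obj G))
    (hloc : ∀ (W : X.Etale) (M : Type) [AddCommGroup M] [Finite M]
      (s : ULift.{u + 1} M →+ G.obj.obj (op W)), IsLocallyConstructible (bijLocus G W s)) :
    EtPBC.IsConstructible G :=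
  isConstructible_of_sections fun x => by
    have := hfin x
    obtain ⟨W, w, M, _, _, s, hs⟩ := exists_section G (geomPoint x)
    exact ⟨W, w, M, inferInstance, inferInstance, s, bijLocus G W s, hloc W M s,
      fun Ω _ _ η t ht => bijective_germ_of_fiberPoint_eq G W s t w ht hs, subset_rfl⟩

/-- Bijectivity loci of constructible sheaves are locally constructible. -/
theorem isLocallyConstructible_bijLocus {G : EtCoh.Ab X} (hG : EtPBC.IsConstructible G) (W : X.Etale)
    {M : Type (u + 1)} [AddCommGroup M] [Finite M] (s : M →+ G.obj.obj (op W)) :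
    IsLocallyConstructible (bijLocus G W s) := fun z => by
  obtain ⟨U, hU, hzU, -⟩ := exists_isAffineOpen_mem_and_subset (U := ⊤) (Set.mem_univ (W.hom.base z))
  obtain ⟨N, hN, hzN, hNU⟩ := exists_isAffineOpen_mem_and_subset (U := W.hom ⁻¹ᵁ U) hzU
  exact ⟨N.1, N.2.mem_nhds hzN, N.2, isConstructible_bijLocus hG hU W s hN hNU⟩

variable {Y : Scheme.{u}} (f : X ⟶ Y)

/-- Bijectivity loci of an inverse image. -/
theorem bijLocus_pull (G : EtCoh.Ab Y) (W : Y.Etale) {M : Type (u + 1)} [AddCommGroup M]
    (s : M →+ G.obj.obj (op W)) :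
    bijLocus ((EtCoh.pull f).obj G) ((EtCoh.bc f).obj W)
        (((((EtCoh.pullPushAdj f).unit.app G).hom.app (op W)).hom).comp s) =
      (pullback.fst W.hom f).base ⁻¹' bijLocus G W s := by
  have hpt : ∀ {Ω : Type u} [Field Ω] [IsSepClosed Ω] (ξ : Spec (CommRingCat.of Ω) ⟶ X)
      (t : (Scheme.pointSmallEtale (ξ ≫ f)).fiber.obj W),
      (pullback.fst W.hom f).base (fiberPoint ξ (pushLift f ξ rfl W t)) = fiberPoint (ξ ≫ f) t :=
    fun {Ω} _ _ ξ t => congrArg (fun m : Spec (CommRingCat.of Ω) ⟶ W.left => m.base default)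
      (pushLift_fst f ξ rfl W t)
  have hiff : ∀ {Ω : Type u} [Field Ω] [IsSepClosed Ω] (ξ : Spec (CommRingCat.of Ω) ⟶ X)
      (t : (Scheme.pointSmallEtale (ξ ≫ f)).fiber.obj W),
      Function.Bijective (fun a => germ ξ ((EtCoh.pull f).obj G) ((EtCoh.bc f).obj W)
        (pushLift f ξ rfl W t) (((((EtCoh.pullPushAdj f).unit.app G).hom.app (op W)).hom).comp s a)) ↔
      Function.Bijective fun a => germ (ξ ≫ f) G W t (s a) := by
    intro Ω _ _ ξ t
    refine Iff.trans ?_ (((ConcreteCategory.isIso_iff_bijective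
      ((stalkPullIso f ξ).hom.app G)).1 inferInstance).of_comp_iff' _)
    exact Eq.to_iff (congrArg Function.Bijective (funext fun a =>
      (stalkPullIso_germ_unit f G ξ W t (s a)).symm))
  ext z
  constructor
  · intro hz Ω _ _ η t ht
    obtain ⟨t', ht'⟩ := exists_geomPoint_lift ((EtCoh.bc f).obj W) z
    have e : pushLift f _ rfl W (bcFiberEquiv f _ W t') = t' :=
      (bcFiberEquiv f _ W).symm_apply_apply t'
    refine bijective_germ_of_fiberPoint_eq G W s t (bcFiberEquiv f _ W t') ?_
      ((hiff _ _).1 (hz _ _ _ (by rw [e]; exact ht')))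
    rw [ht, ← hpt, e]
    exact congrArg (pullback.fst W.hom f).base ht'.symm
  · intro hz Ω _ _ ξ t' ht'
    have e : pushLift f ξ rfl W (bcFiberEquiv f ξ W t') = t' :=
      (bcFiberEquiv f ξ W).symm_apply_apply t'
    have hb := (hiff ξ _).2 (hz Ω (ξ ≫ f) (bcFiberEquiv f ξ W t') (by rw [← hpt, e, ht']))
    rwa [e] at hb

/-- Descent of constructibility along surjective morphisms which reflect constructible sets. -/
theorem isConstructible_of_pull [Surjective f] {G : EtCoh.Ab Y}
    (hrefl : ∀ (W : Y.Etale) (E : Set W.left), Groth.EGA41Two.LClosed ((pullback.fst W.hom f) ⁻¹' E) →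
      Groth.EGA41Two.LClosed E)
    (h : EtPBC.IsConstructible ((EtCoh.pull f).obj G)) : EtPBC.IsConstructible G := by
  refine isConstructible_of_bijLocus (fun y => ?_) fun W M _ _ s => ?_
  · obtain ⟨x, rfl⟩ := f.surjective y
    have := finite_stalk_of_isConstructibleAb h (geomPoint x)
    have : Finite ((EtCoh.stalk (geomPoint x ≫ f)).obj G) :=
      Finite.of_equiv ((EtCoh.stalk (geomPoint x)).obj ((EtCoh.pull f).obj G))
        ((stalkPullIso f (geomPoint x)).app G).addCommGroupIsoToAddEquiv.toEquiv.symm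
    have hb : (geomPoint x ≫ f).base default = (geomPoint (f.base x)).base default := by
      rw [Scheme.Hom.comp_apply, geomPoint_apply, geomPoint_apply]
    obtain ⟨θ⟩ := nonempty_pointHom _ _ (specializes_of_eq hb)
    exact Finite.of_injective _ (injective_sheafFiber_of_same_point θ hb G)
  · rw [Groth.EGA41Two.isLocallyConstructible_iff_lClosed]
    have := Groth.EGA41Two.isLocallyConstructible_iff_lClosed.1
      (isLocallyConstructible_bijLocus h ((EtCoh.bc f).obj W)
        (((((EtCoh.pullPushAdj f).unit.app G).hom.app (op W)).hom).comp s))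
    rw [bijLocus_pull] at this
    exact ⟨hrefl W _ this.1, hrefl W _ (by rw [Set.preimage_compl]; exact this.2)⟩

end Groth.EtaleDeep.Cons
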