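import Groth.Agent.EtaleDeep.Cons.Criterion
import Groth.Agent.EtaleBase.ExtZeroToPush

/-!
# Extension by zero along etale morphisms preserves constructibility
-/

set_option autoImplicit false
set_option backward.isDefEq.respectTransparency.types false
set_option linter.style.haveILetI false

universe u

open CategoryTheory CategoryTheory.Limits AlgebraicGeometry Opposite Topology

namespace Groth.EtaleDeep.Cons

open Groth.EtaleBase Groth.EtaleBase.LocConst Groth.EtaleBase.SitePt

/-- Finitely many lifts have a common refinement. -/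
theorem exists_common_fin {X : Scheme.{u}} {Ω : Type u} [Field Ω] [IsSepClosed Ω]
    (ξ : Spec (CommRingCat.of Ω) ⟶ X) : ∀ (n : ℕ) (V : Fin n → X.Etale)
      (t : ∀ k, (Scheme.pointSmallEtale ξ).fiber.obj (V k)),
      ∃ (W : X.Etale) (w : (Scheme.pointSmallEtale ξ).fiber.obj W) (a : ∀ k, W ⟶ V k),
        ∀ k, (Scheme.pointSmallEtale ξ).fiber.map (a k) w = t k
  | 0, _, _ => by
    obtain ⟨t₀, -⟩ := exists_fiber_of_point ξ (EtCoh.top X) (ξ.base default) rfl
    exact ⟨_, t₀, fun k => k.elim0, fun k => k.elim0⟩
  | n + 1, V, t => by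
    obtain ⟨W, w, a, ha⟩ := exists_common_fin ξ n (fun k => V k.succ) (fun k => t k.succ)
    obtain ⟨W', g, h, w', hg, hh⟩ := exists_common ξ W (V 0) w (t 0)
    refine ⟨W', w', Fin.cases h fun k => g ≫ a k, fun k => ?_⟩
    cases k using Fin.cases with
    | zero => exact hh
    | succ k =>
      simp only [Fin.cases_succ]
      rw [Functor.map_comp_apply, hg, ha]

variable {U X : Scheme.{u}} (j : U ⟶ X) [AlgebraicGeometry.Etale j] [EtShriek.JCont j]
  {Ω : Type u} [Field Ω] [IsSepClosed Ω] (ξ : Spec (CommRingCat.of Ω) ⟶ X)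

omit [EtShriek.JCont j] in
/-- A quasi-compact etale morphism has finitely many lifts of a geometric point. -/
theorem finite_ptOver [QuasiCompact j] : Finite (PtOver j ξ) := by
  let P := pullback j ξ
  let q : P ⟶ Spec (CommRingCat.of Ω) := pullback.snd j ξ
  have : Subsingleton (Spec (CommRingCat.of Ω)) := inferInstanceAs (Subsingleton (PrimeSpectrum Ω))
  have : AlgebraicGeometry.Etale q := inferInstanceAs (AlgebraicGeometry.Etale (pullback.snd j ξ))
  have : QuasiCompact q := inferInstanceAs (QuasiCompact (pullback.snd j ξ))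
  have : Finite P := by
    have h := q.finite_preimage_singleton default
    rw [show q.base ⁻¹' {default} = Set.univ from Set.eq_univ_of_forall fun _ => Subsingleton.elim _ _] at h
    exact Set.finite_univ_iff.1 h
  let σ : PtOver j ξ → (Spec (CommRingCat.of Ω) ⟶ P) := fun u =>
    pullback.lift u.1 (𝟙 _) (u.2.trans (Category.id_comp ξ).symm)
  refine Finite.of_injective (fun u => (σ u).base default) fun u v huv => ?_
  have hσ : ∀ w, σ w ≫ q = 𝟙 _ := fun w => pullback.lift_snd _ _ _
  have : IsOpenImmersion (σ u) := by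
    have he : AlgebraicGeometry.Etale (σ u ≫ q) := by rw [hσ]; infer_instance
    have : AlgebraicGeometry.Etale (σ u) := MorphismProperty.of_postcomp (W := @AlgebraicGeometry.Etale)
      (W' := @AlgebraicGeometry.Etale) (σ u) q inferInstance he
    have : Mono (σ u ≫ q) := by rw [hσ]; infer_instance
    have : Mono (σ u) := mono_of_mono (σ u) q
    exact IsOpenImmersion.of_flat_of_mono (σ u)
  have e : σ v = (σ v ≫ q) ≫ σ u := eq_comp_section (σ u) q (hσ u) (σ v) default ⟨default, huv⟩
  rw [hσ, Category.id_comp] at e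
  exact Subtype.ext ((pullback.lift_fst _ _ _).symm.trans
    ((congrArg (· ≫ pullback.fst j ξ) e.symm).trans (pullback.lift_fst _ _ _)))

variable (F : EtCoh.Ab U)

/-- The stalk of an extension by zero is the sum of the stalks at the lifts. -/
theorem bijective_sum_inc [Fintype (PtOver j ξ)]
    (hfin : ∀ u : PtOver j ξ, Finite ((EtCoh.stalk u.1).obj F)) :
    Function.Bijective fun x : ∀ u : PtOver j ξ, (EtCoh.stalk u.1).obj F =>
      ∑ u : PtOver j ξ, ExtZeroPush.inc j ξ F u (x u) := by
  classical
  have hs : Function.Surjective fun x : ∀ u : PtOver j ξ, (EtCoh.stalk u.1).obj F =>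
      ∑ u : PtOver j ξ, ExtZeroPush.inc j ξ F u (x u) := fun z => by
    obtain ⟨x, rfl⟩ := ExtZeroPush.inc_jointly_surjective j ξ F z
    refine ⟨fun u => x u, ?_⟩
    induction x using DirectSum.induction_on with
    | zero => simp
    | of u a =>
      show ∑ v, ExtZeroPush.inc j ξ F v (DirectSum.of (fun i : PtOver j ξ => (EtCoh.stalk i.1).obj F) u a v) = _
      rw [DirectSum.toAddMonoid_of, Finset.sum_eq_single u (fun v _ hv => by
        rw [DirectSum.of_eq_of_ne _ _ _ hv, map_zero]) (fun h => absurd (Finset.mem_univ u) h),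
        DirectSum.of_eq_same]
    | add a b ha hb =>
      rw [map_add, ← ha, ← hb, ← Finset.sum_add_distrib]
      refine Finset.sum_congr rfl fun u _ => ?_
      show ExtZeroPush.inc j ξ F u ((a + b) u) =
        ExtZeroPush.inc j ξ F u (a u) + ExtZeroPush.inc j ξ F u (b u)
      rw [DirectSum.add_apply, map_add]
  let A : PtOver j ξ → AddCommGrpCat.{u + 1} := fun u => (EtCoh.stalk u.1).obj F
  let e' : (⨁ A : AddCommGrpCat.{u + 1}) ≃ (∀ u : PtOver j ξ, A u) :=
    { toFun := fun x u => biproduct.π A u x
      invFun := fun y => ∑ u, biproduct.ι A u (y u)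
      left_inv := fun x => by
        show ∑ u, biproduct.ι A u (biproduct.π A u x) = x
        have htot : ∑ u, biproduct.π A u ≫ biproduct.ι A u = 𝟙 (⨁ A) :=
          biproduct.hom_ext _ _ fun v => by simp [Preadditive.sum_comp, biproduct.ι_π, Category.assoc, comp_dite]
        let ev : ((⨁ A : AddCommGrpCat.{u + 1}) ⟶ ⨁ A) →+ (⨁ A : AddCommGrpCat.{u + 1}) :=
          AddMonoidHom.mk' (fun m => m x) fun _ _ => rfl
        have h0 := congrArg ev htot
        rw [map_sum] at h0
        exact h0
      right_inv := fun y => funext fun v => by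
        show biproduct.π A v (∑ u, biproduct.ι A u (y u)) = y v
        rw [map_sum, Finset.sum_eq_single v (fun u _ hu => by
          rw [← ConcreteCategory.comp_apply, biproduct.ι_π_ne A hu]; rfl) (fun h => absurd (Finset.mem_univ v) h),
          ← ConcreteCategory.comp_apply, biproduct.ι_π_self]
        rfl }
  let i : (EtCoh.stalk ξ).obj ((EtShriek.extZero j).obj F) ≅ (⨁ A : AddCommGrpCat.{u + 1}) :=
    (stalkExtZeroIso j ξ).app F ≪≫ (biproduct.isoCoproduct A).symm
  let e := i.addCommGroupIsoToAddEquiv.toEquiv.trans e'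
  have : Finite ((EtCoh.stalk ξ).obj ((EtShriek.extZero j).obj F)) := Finite.of_equiv _ e.symm
  exact (Nat.bijective_iff_surjective_and_card _).2 ⟨hs, (Nat.card_congr e).symm⟩

omit [EtShriek.JCont j] in
/-- Open subschemes with quasi-compact inclusion are locally constructible. -/
theorem isLocallyConstructible_range {A B : Scheme.{u}} (i : A ⟶ B) [IsOpenImmersion i] [QuasiCompact i] :
    IsLocallyConstructible (Set.range i.base) := by
  rw [← Set.image_univ]
  exact i.isLocallyConstructible_image IsLocallyConstructible.univ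

/-- Extension by zero along quasi-compact quasi-separated etale morphisms preserves constructibility. -/
theorem isConstructible_extZero [QuasiCompact j] [QuasiSeparated j] {F : EtCoh.Ab U}
    (hF : EtPBC.IsConstructible F) : EtPBC.IsConstructible ((EtShriek.extZero j).obj F) := by
  classical
  refine isConstructible_of_sections fun x => ?_
  let ξ := geomPoint x
  have hfinP : ∀ {Ω' : Type u} [Field Ω'] [IsSepClosed Ω'] (η : Spec (CommRingCat.of Ω') ⟶ X),
      Finite (PtOver j η) := fun η => finite_ptOver j η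
  obtain ⟨n, ⟨ε⟩⟩ := @Finite.exists_equiv_fin (PtOver j ξ) (hfinP ξ)
  let u : Fin n → PtOver j ξ := ε.symm
  choose V tV M hMg hMf sV hsV using fun k =>
    have := finite_stalk_of_isConstructibleAb hF (u k).1
    exists_section F (u k).1
  obtain ⟨W, w, a, ha⟩ := exists_common_fin ξ n (fun k => (EtShriek.compEtale j).obj (V k))
    (fun k => compPt j ξ (u k) (V k) (tV k))
  have : AlgebraicGeometry.Etale W.hom := W.prop
  -- the maps to `U`
  let b : Fin n → (W.left ⟶ U) := fun k => (a k).left ≫ (V k).hom
  have hb : ∀ k, b k ≫ j = W.hom := fun k =>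
    (Category.assoc _ _ _).trans (MorphismProperty.Over.w (a k))
  let γ : Fin n → (W.left ⟶ pullback W.hom j) := fun k =>
    pullback.lift (𝟙 _) (b k) ((Category.id_comp _).trans (hb k).symm)
  have hγ : ∀ k, γ k ≫ pullback.fst W.hom j = 𝟙 _ := fun k => pullback.lift_fst _ _ _
  have hγo : ∀ k, IsOpenImmersion (γ k) := fun k => by
    have he : AlgebraicGeometry.Etale (γ k ≫ pullback.fst W.hom j) := by rw [hγ]; infer_instance
    have : AlgebraicGeometry.Etale (γ k) := MorphismProperty.of_postcomp (W := @AlgebraicGeometry.Etale)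
      (W' := @AlgebraicGeometry.Etale) (γ k) (pullback.fst W.hom j) inferInstance he
    have : Mono (γ k ≫ pullback.fst W.hom j) := by rw [hγ]; infer_instance
    have : Mono (γ k) := mono_of_mono (γ k) (pullback.fst W.hom j)
    exact IsOpenImmersion.of_flat_of_mono (γ k)
  have hγq : ∀ k, QuasiCompact (γ k) := fun k => by
    have : QuasiCompact (γ k ≫ pullback.fst W.hom j) := by rw [hγ]; infer_instance
    exact QuasiCompact.of_comp (γ k) (pullback.fst W.hom j)
  let ag : ∀ k l, agree j (b k) (b l) ((hb k).trans (hb l).symm) ⟶ W.left := fun k l =>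
    pullback.fst (pullback.lift (b k) (b l) ((hb k).trans (hb l).symm)) (pullback.diagonal j)
  have hago : ∀ k l, IsOpenImmersion (ag k l) := fun k l => MorphismProperty.pullback_fst _ _ inferInstance
  have hagq : ∀ k l, QuasiCompact (ag k l) := fun k l => MorphismProperty.pullback_fst _ _ inferInstance
  let S₁ : Set W.left := ⋂ kl : {kl : Fin n × Fin n // kl.1 ≠ kl.2},
    (Set.range (ag kl.1.1 kl.1.2).base)ᶜ
  let S₂ : Set W.left := ((pullback.fst W.hom j).base '' (⋃ k, Set.range (γ k).base)ᶜ)ᶜ
  let S₃ : Set W.left := ⋂ k, (a k).left.base ⁻¹' bijLocus F (V k) (sV k)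
  have hS : IsLocallyConstructible (S₁ ∩ S₂ ∩ S₃) := by
    refine (IsLocallyConstructible.inter ?_ ?_).inter ?_
    · refine IsLocallyConstructible.iInter fun kl => Groth.EGA41Two.isLocallyConstructible_compl ?_
      have := hago kl.1.1 kl.1.2
      have := hagq kl.1.1 kl.1.2
      exact isLocallyConstructible_range _
    · refine Groth.EGA41Two.isLocallyConstructible_compl ((pullback.fst W.hom j).isLocallyConstructible_image
        (Groth.EGA41Two.isLocallyConstructible_compl (IsLocallyConstructible.iUnion fun k => ?_)))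
      have := hγo k
      have := hγq k
      exact isLocallyConstructible_range _
    · refine IsLocallyConstructible.iInter fun k => ?_
      have := isLocallyConstructible_bijLocus hF (V k) (sV k)
      rw [Groth.EGA41Two.isLocallyConstructible_iff_lClosed] at this ⊢
      exact ⟨this.1.preimage (a k).left, this.2.preimage (a k).left⟩
  -- the lifts under `w`
  have hwb : ∀ k, w.left ≫ b k = (u k).1 := fun k => by
    have h1 : w.left ≫ (a k).left = (tV k).left :=
      congrArg (fun m => m.left) (ha k)
    exact (Category.assoc _ _ _).symm.trans ((congrArg (· ≫ (V k).hom) h1).trans (Over.w (tV k)))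
  let un : ∀ k, F.obj.obj (op (V k)) →+
      ((EtShriek.extZero j).obj F).obj.obj (op ((EtShriek.compEtale j).obj (V k))) :=
    fun k => (((EtShriek.extZeroAdj j).unit.app F).hom.app (op (V k))).hom
  let s : ULift.{u + 1} (∀ k, M k) →+ ((EtShriek.extZero j).obj F).obj.obj (op W) :=
    AddMonoidHom.mk' (fun m => ∑ k, ((EtShriek.extZero j).obj F).obj.map (a k).op
      (un k (sV k ⟨m.down k⟩))) fun m m' => by
      rw [← Finset.sum_add_distrib]
      refine Finset.sum_congr rfl fun k _ => ?_
      rw [← map_add, ← map_add (un k), ← map_add (sV k)]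
      rfl
  let wl : Spec (CommRingCat.of (SeparableClosure (X.residueField x))) ⟶ W.left := w.left
  refine ⟨W, w, ∀ k, M k, inferInstance, inferInstance, s, S₁ ∩ S₂ ∩ S₃, hS, ⟨⟨?_, ?_⟩, ?_⟩, ?_⟩
  · refine Set.mem_iInter.2 fun ⟨⟨k, l⟩, hkl⟩ => ?_
    rintro ⟨p, hp⟩
    have := hago k l
    let m := IsOpenImmersion.lift (ag k l) wl (by
      rintro _ ⟨q, rfl⟩
      rw [Subsingleton.elim q default]
      exact ⟨p, hp⟩)
    have hm : m ≫ ag k l = wl := IsOpenImmersion.lift_fac _ _ _
    refine hkl (ε.symm.injective (Subtype.ext ?_))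
    show (u k).1 = (u l).1
    refine (hwb k).symm.trans (Eq.trans ?_ (hwb l))
    show wl ≫ b k = wl ≫ b l
    exact (congrArg (· ≫ b k) hm.symm).trans ((Category.assoc _ _ _).trans
      ((congrArg (m ≫ ·) (agree_fst_comp j (b k) (b l) ((hb k).trans (hb l).symm))).trans
        ((Category.assoc _ _ _).symm.trans (congrArg (· ≫ b l) hm))))
  · rintro ⟨p, hp, hpw⟩
    let Q : W.left.Etale := Scheme.Etale.mk (pullback.fst W.hom j)
    obtain ⟨q, hq⟩ := exists_fiber_of_point wl Q p hpw
    let ql : Spec (CommRingCat.of (SeparableClosure (X.residueField x))) ⟶ pullback W.hom j := q.left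
    have hq1 : ql ≫ pullback.fst W.hom j = wl := Over.w q
    have hq2 : ql.base default = p := hq
    let u₀ : PtOver j ξ := ⟨ql ≫ pullback.snd W.hom j, (Category.assoc _ _ _).trans
      ((congrArg (ql ≫ ·) pullback.condition.symm).trans
        ((Category.assoc _ _ _).symm.trans ((congrArg (· ≫ W.hom) hq1).trans (Over.w w))))⟩
    have hk : (u (ε u₀)).1 = ql ≫ pullback.snd W.hom j := congrArg Subtype.val (ε.symm_apply_apply u₀)
    have : ql = wl ≫ γ (ε u₀) := pullback.hom_ext
      (hq1.trans (((Category.assoc _ _ _).trans ((congrArg (wl ≫ ·) (hγ (ε u₀))).trans (Category.comp_id _))).symm))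
      (hk.symm.trans ((hwb (ε u₀)).symm.trans
        ((congrArg (wl ≫ ·) (pullback.lift_snd _ _ _).symm).trans (Category.assoc _ _ _).symm)))
    refine hp (Set.mem_iUnion.2 ⟨ε u₀, wl.base default, ?_⟩)
    rw [← hq2, this]
    rfl
  · refine Set.mem_iInter.2 fun k Ω' _ _ η t ht => ?_
    have h1 : w.left ≫ (a k).left = (tV k).left := congrArg (fun m => m.left) (ha k)
    refine bijective_germ_of_fiberPoint_eq F (V k) (sV k) t (tV k) ?_ (hsV k)
    rw [ht]
    exact congrArg (fun m : Spec (CommRingCat.of _) ⟶ (V k).left => m.base default) h1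
  · rintro z ⟨⟨hz₁, hz₂⟩, hz₃⟩ Ω' _ _ η t htz
    have := hfinP η
    let _ := Fintype.ofFinite (PtOver j η)
    let p : Fin n → PtOver j η := fun k =>
      basePt j η (V k) ((Scheme.pointSmallEtale η).fiber.map (a k) t)
    let tl : Spec (CommRingCat.of Ω') ⟶ W.left := t.left
    have hp : ∀ k, (p k).1 = tl ≫ b k := fun k => Category.assoc _ _ _
    have hpb : Function.Bijective p := by
      refine ⟨fun k l hkl => ?_, fun u' => ?_⟩
      · by_contra hne
        refine Set.mem_iInter.1 hz₁ ⟨(k, l), hne⟩ ?_
        obtain ⟨m, hm⟩ := exists_lift_agree j (b k) (b l) ((hb k).trans (hb l).symm) tl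
          (by rw [← hp, ← hp, hkl])
        refine ⟨m.base default, ?_⟩
        rw [← Scheme.Hom.comp_apply, hm]
        exact htz
      · let q : Spec (CommRingCat.of Ω') ⟶ pullback W.hom j :=
          pullback.lift tl u'.1 ((Over.w t).trans u'.2.symm)
        have hq : (pullback.fst W.hom j).base (q.base default) = z := by
          rw [← Scheme.Hom.comp_apply, pullback.lift_fst]
          exact htz
        obtain ⟨k, y, hy⟩ : ∃ k, q.base default ∈ Set.range (γ k).base := by
          by_contra hne
          exact hz₂ ⟨q.base default, fun h => hne (Set.mem_iUnion.1 h), hq⟩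
        have := hγo k
        have hqγ := eq_comp_section (γ k) (pullback.fst W.hom j) (hγ k) q default ⟨y, hy⟩
        refine ⟨k, Subtype.ext ((hp k).trans ?_)⟩
        have h2 : q ≫ pullback.snd W.hom j = u'.1 := pullback.lift_snd _ _ _
        have h3 : q ≫ pullback.fst W.hom j = tl := pullback.lift_fst _ _ _
        refine Eq.trans ?_ h2
        refine Eq.trans ?_ (congrArg (· ≫ pullback.snd W.hom j) hqγ.symm)
        exact (congrArg (· ≫ b k) h3.symm).trans
          ((congrArg ((q ≫ pullback.fst W.hom j) ≫ ·) (pullback.lift_snd _ _ _).symm).trans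
            (Category.assoc _ _ _).symm)
    have hβ : ∀ k, Function.Bijective fun m : M k =>
        germ (p k).1 F (V k) (upPt j η (V k) ((Scheme.pointSmallEtale η).fiber.map (a k) t)) (sV k ⟨m⟩) := by
      intro k
      refine ((Set.mem_iInter.1 hz₃ k) Ω' (p k).1
        (upPt j η (V k) ((Scheme.pointSmallEtale η).fiber.map (a k) t)) ?_).comp Equiv.ulift.symm.bijective
      rw [← htz]
      rfl
    let E : ULift.{u + 1} (∀ k, M k) ≃ (∀ v : PtOver j η, (EtCoh.stalk v.1).obj F) :=
      Equiv.ulift.trans ((Equiv.piCongrRight fun k => Equiv.ofBijective _ (hβ k)).trans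
        (Equiv.piCongrLeft (fun v : PtOver j η => (EtCoh.stalk v.1).obj F) (Equiv.ofBijective p hpb)))
    have hfinu : ∀ v : PtOver j η, Finite ((EtCoh.stalk v.1).obj F) := fun v =>
      finite_stalk_of_isConstructibleAb hF v.1
    refine (congrArg Function.Bijective (funext fun m => ?_)).mpr
      ((bijective_sum_inc j η F hfinu).comp E.bijective)
    show germ η ((EtShriek.extZero j).obj F) W t (s m) = ∑ v : PtOver j η, ExtZeroPush.inc j η F v (E m v)
    have hsm : s m = ∑ k, ((EtShriek.extZero j).obj F).obj.map (a k).op (un k (sV k ⟨m.down k⟩)) := rfl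
    rw [hsm, map_sum, ← (Equiv.ofBijective p hpb).sum_comp]
    refine Finset.sum_congr rfl fun k _ => ?_
    rw [show E m ((Equiv.ofBijective p hpb) k) = germ (p k).1 F (V k)
        (upPt j η (V k) ((Scheme.pointSmallEtale η).fiber.map (a k) t)) (sV k ⟨m.down k⟩) from
      Equiv.piCongrLeft_apply_apply (fun v : PtOver j η => (EtCoh.stalk v.1).obj F) (Equiv.ofBijective p hpb) _ k]
    refine Eq.trans ?_ (ExtZeroPush.inc_germ j η F (p k) (V k) _ _).symm
    refine (germ_res η _ (a k) t _).trans ?_
    exact congrArg (fun c => germ η ((EtShriek.extZero j).obj F) _ c _) (Over.OverMorphism.ext rfl)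

end Groth.EtaleDeep.Cons
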