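import Groth.Agent.EtaleDeep.Cons.ExtZeroCons
import Mathlib.CategoryTheory.Sites.ConstantSheaf

/-!
# Extensions by zero of constant sheaves from objects of the etale site
-/

set_option autoImplicit false
set_option backward.isDefEq.respectTransparency.types false
set_option linter.style.haveILetI false

universe u

open CategoryTheory CategoryTheory.Limits AlgebraicGeometry Opposite

namespace Groth.EtaleDeep.Cons

open Groth.EtaleBase Groth.EtaleBase.LocConst

/-- Constant sheaves with finite values are finite locally constant. -/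
theorem isFLC_constantSheaf (Y : Scheme.{u}) (M : Type) [AddCommGroup M] [Finite M] :
    EtCoh.IsFiniteLocallyConstant ((constantSheaf Y.smallEtaleTopology AddCommGrpCat.{u + 1}).obj
      (AddCommGrpCat.of (ULift.{u + 1} M))) := by
  rw [isFLC_iff]
  intro x
  let P : Y.Etaleᵒᵖ ⥤ AddCommGrpCat.{u + 1} := (Functor.const _).obj (AddCommGrpCat.of (ULift.{u + 1} M))
  let η := CategoryTheory.toSheafify Y.smallEtaleTopology P
  let s := (η.app (op (EtCoh.top Y))).hom
  refine ⟨EtCoh.top Y, ⟨x, rfl⟩, M, _, inferInstance, s, stalkBij_iff.2 ?_⟩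
  have key : ∀ (Z : (Over (EtCoh.top Y))ᵒᵖ) (a : ULift.{u + 1} M),
      (toRestr _ (EtCoh.top Y) s).app Z a = η.app (op Z.unop.left) a := fun Z a =>
    (NatTrans.naturality_apply η Z.unop.hom.op a).symm
  refine ⟨⟨fun {Z} a b e => ?_⟩, ⟨fun {Z} σ => ?_⟩⟩
  · rw [equalizer_mem]
    intro z
    have e : η.app (op Z.unop.left) a = η.app (op Z.unop.left) b := (key Z a).symm.trans (e.trans (key Z b))
    obtain ⟨V, g, v, hg, -⟩ := (mem_topology_iff _).1
      (Presheaf.equalizerSieve_mem Y.smallEtaleTopology η (X := op Z.unop.left) a b e) z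
    have : a = b := hg
    subst this
    exact ⟨_, 𝟙 _, z, rfl, rfl⟩
  · refine (equalizer_mem (Y := op Z) _).2 fun z => ?_
    obtain ⟨V, g, v, ⟨a, ha⟩, hv⟩ := (mem_topology_iff _).1
      (Presheaf.imageSieve_mem Y.smallEtaleTopology η (U := op Z.left) σ) z
    exact ⟨V, g, v, ⟨a, (key (op (Over.mk (g ≫ Z.hom))) a).trans ha⟩, hv⟩

/-- Finite locally constant sheaves are constructible. -/
theorem isConstructible_of_isFLC {Y : Scheme.{u}} {F : EtCoh.Ab Y} (hF : EtCoh.IsFiniteLocallyConstant F) :
    EtPBC.IsConstructible F :=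
  (isConstructible_iff F).2 fun V _ =>
    ⟨1, fun _ => (V : Scheme.{u}), fun _ => V.ι, fun _ => inferInstance,
      fun _ => by
        rw [Scheme.Opens.range_ι, Subtype.coe_preimage_self]
        exact Topology.IsConstructible.univ,
      fun i j hij => absurd (Subsingleton.elim i j) hij,
      (Set.iUnion_const _).trans (Scheme.Opens.range_ι V),
      fun _ => by intro _; exact isFLC_pull V.ι hF⟩

variable {X : Scheme.{u}} (U : X.Etale)

/-- Etale schemes over `U` as objects over `U` of the etale site of `X`. -/
noncomputable def toOver : U.left.Etale ⥤ Over U :=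
  have : AlgebraicGeometry.Etale U.hom := U.prop
  { obj := fun V => Over.mk (Y := (EtShriek.compEtale U.hom).obj V) (MorphismProperty.Over.homMk V.hom rfl)
    map := fun {V V'} f => Over.homMk ((EtShriek.compEtale U.hom).map f)
      (MorphismProperty.Over.Hom.ext (MorphismProperty.Over.w f))
    map_id := fun V => Over.OverMorphism.ext ((EtShriek.compEtale U.hom).map_id V)
    map_comp := fun f g => Over.OverMorphism.ext ((EtShriek.compEtale U.hom).map_comp f g) }

instance faithful_toOver : (toOver U).Faithful where
  map_injective {V V'} f g h :=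
    MorphismProperty.Over.Hom.ext (congrArg (fun k : (toOver U).obj V ⟶ (toOver U).obj V' => k.left.left) h :)

instance full_toOver : (toOver U).Full where
  map_surjective {V V'} g := by
    have e : (g.left.left : V.left ⟶ V'.left) ≫ V'.hom = V.hom :=
      congrArg (fun m : ((toOver U).obj V).left ⟶ U => m.left) (Over.w g)
    exact ⟨MorphismProperty.Over.homMk g.left.left e,
      Over.OverMorphism.ext (MorphismProperty.Over.Hom.ext rfl)⟩

instance essSurj_toOver : (toOver U).EssSurj where
  mem_essImage Z := by
    have : AlgebraicGeometry.Etale U.hom := U.prop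
    have e : Z.hom.left ≫ U.hom = Z.left.hom := MorphismProperty.Over.w Z.hom
    have hZ : EtCoh.etaleMP Z.hom.left := MorphismProperty.of_postcomp (W := EtCoh.etaleMP)
      (W' := EtCoh.etaleMP) Z.hom.left U.hom U.prop (e.symm ▸ Z.left.prop)
    exact ⟨MorphismProperty.Over.mk ⊤ Z.hom.left hZ,
      ⟨Over.isoMk (MorphismProperty.Over.isoMk (Iso.refl _) ((Category.id_comp _).trans e.symm))
        (MorphismProperty.Over.Hom.ext (Category.id_comp _))⟩⟩

instance isEquivalence_toOver : (toOver U).IsEquivalence where

instance isDenseSubsite_toOver :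
    (toOver U).IsDenseSubsite U.left.smallEtaleTopology (X.smallEtaleTopology.over U) where
  functorPushforward_mem_iff {V S} := by
    refine (equalizer_mem (Y := op ((toOver U).obj V)) _).trans ?_
    rw [mem_topology_iff]
    constructor
    · intro h x
      obtain ⟨Z, g, z, ⟨V', a, b, ha, hab⟩, hz⟩ := h x
      refine ⟨V', a, b.left.left.base z, ha, ?_⟩
      have h2 : g.left = b.left.left ≫ a.left :=
        congrArg (fun k : (Over.mk (g ≫ ((toOver U).obj V).hom)) ⟶ (toOver U).obj V => k.left.left) hab
      rw [← hz, h2]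
      rfl
    · intro h x
      obtain ⟨V', g, v, hg, hv⟩ := h x
      refine ⟨_, ((toOver U).map g).left, v,
        ⟨V', g, Over.homMk (𝟙 _) ((Category.id_comp _).trans (Over.w ((toOver U).map g)).symm), hg, ?_⟩, hv⟩
      exact Over.OverMorphism.ext (Category.id_comp _).symm

/-- `j_! M` is the extension by zero of the constant sheaf along the structure morphism. -/
theorem nonempty_extZeroConst_iso [hE : AlgebraicGeometry.Etale U.hom] [hJ : EtShriek.JCont U.hom] (M : Type)
    [AddCommGroup M] (hT : IsTerminal (EtCoh.top U.left)) :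
    Nonempty ((EtShriek.extZero U.hom).obj ((constantSheaf U.left.smallEtaleTopology AddCommGrpCat.{u + 1}).obj
      (AddCommGrpCat.of (ULift.{u + 1} M))) ≅ EtPBC.extZeroConst U M) := by
  let e := Functor.IsDenseSubsite.sheafEquiv U.left.smallEtaleTopology (X.smallEtaleTopology.over U)
    (toOver U) AddCommGrpCat.{u + 1}
  let a : e.functor ⋙ EtPBC.extZero U ≅ @EtShriek.extZero _ _ U.hom hE hJ :=
    (e.toAdjunction.comp (EtPBC.extZeroAdj U)).leftAdjointUniq (@EtShriek.extZeroAdj _ _ U.hom hE hJ)
  let c := equivCommuteConstant U.left.smallEtaleTopology AddCommGrpCat.{u + 1}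
    (X.smallEtaleTopology.over U) (toOver U) hT (IsTerminal.isTerminalObj (toOver U) _ hT)
  exact ⟨(a.app _).symm ≪≫ (EtPBC.extZero U).mapIso (c.app (AddCommGrpCat.of (ULift.{u + 1} M)))⟩

/-- Restriction along the structure morphism of an etale scheme is continuous. -/
theorem jCont_hom [hE : AlgebraicGeometry.Etale U.hom] : EtShriek.JCont U.hom :=
  Functor.isContinuous_comp (toOver U) (Over.forget U) U.left.smallEtaleTopology
    (X.smallEtaleTopology.over U) X.smallEtaleTopology

/-- `j_! M` is constructible. -/
theorem isConstructible_extZeroConst [CompactSpace X] [QuasiSeparatedSpace X] [CompactSpace U.left]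
    [QuasiSeparatedSpace U.left] (M : Type) [AddCommGroup M] [Finite M] :
    EtPBC.IsConstructible (EtPBC.extZeroConst U M) := by
  have hE : AlgebraicGeometry.Etale U.hom := U.prop
  have hJ := jCont_hom (hE := hE) U
  obtain ⟨i⟩ := nonempty_extZeroConst_iso (hE := hE) (hJ := hJ) U M (MorphismProperty.Over.mkIdTerminal _ _)
  refine isConstructible_of_iso i ?_
  have hq : QuasiCompact (U.hom : U.left ⟶ X) := quasiCompact_of_compactSpace (X := U.left) (Y := X) U.hom
  have hs : QuasiSeparated (U.hom : U.left ⟶ X) :=
    QuasiSeparated.of_quasiSeparatedSpace (X := U.left) (Y := X) U.hom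
  exact @isConstructible_extZero _ _ U.hom hE hJ hq hs _
    (isConstructible_of_isFLC (isFLC_constantSheaf U.left M))

end Groth.EtaleDeep.Cons
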