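import Groth.Agent.EtaleDeep.Cons.ExtZeroConst
import Mathlib.CategoryTheory.ObjectProperty.FiniteProducts
import Mathlib.Data.ZMod.Basic

/-!
# Generators of constructible sheaves
-/

set_option autoImplicit false
set_option backward.isDefEq.respectTransparency.types false
set_option linter.style.haveILetI false

universe u

open CategoryTheory CategoryTheory.Limits AlgebraicGeometry Opposite Topology

namespace Groth.EtaleDeep.Cons

open Groth.EtaleBase Groth.EtaleBase.LocConst Groth.EtaleBase.SitePt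

variable {X : Scheme.{u}}

/-- Morphisms out of `j_! M` are homomorphisms into sections. -/
noncomputable def extZeroConstEquiv (U : X.Etale) (M : Type) [AddCommGroup M] (F : EtCoh.Ab X) :
    (EtPBC.extZeroConst U M ⟶ F) ≃ (ULift.{u + 1} M →+ F.obj.obj (op U)) :=
  ((EtPBC.extZeroAdj U).homEquiv _ _).trans
    (((constantSheafAdj (X.smallEtaleTopology.over U) AddCommGrpCat.{u + 1} Over.mkIdTerminal).homEquiv
      _ _).trans
      { toFun := fun f => f.hom
        invFun := fun g => AddCommGrpCat.ofHom g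
        left_inv := fun _ => rfl
        right_inv := fun _ => rfl })

theorem extZeroConstEquiv_comp (U : X.Etale) (M : Type) [AddCommGroup M] {F F' : EtCoh.Ab X}
    (φ : EtPBC.extZeroConst U M ⟶ F) (ψ : F ⟶ F') (a : ULift.{u + 1} M) :
    extZeroConstEquiv U M F' (φ ≫ ψ) a = ψ.hom.app (op U) (extZeroConstEquiv U M F φ a) := by
  simp only [extZeroConstEquiv, Equiv.trans_apply, Adjunction.homEquiv_naturality_right]
  rfl

/-- The tautological sections of `j_! M`. -/
noncomputable def constSect (U : X.Etale) (M : Type) [AddCommGroup M] :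
    ULift.{u + 1} M →+ (EtPBC.extZeroConst U M).obj.obj (op U) :=
  extZeroConstEquiv U M _ (𝟙 _)

/-- A morphism out of `j_! M` on the tautological sections. -/
theorem hom_constSect (U : X.Etale) (M : Type) [AddCommGroup M] {F : EtCoh.Ab X}
    (φ : EtPBC.extZeroConst U M ⟶ F) (a : ULift.{u + 1} M) :
    φ.hom.app (op U) (constSect U M a) = extZeroConstEquiv U M F φ a := by
  rw [constSect, ← extZeroConstEquiv_comp, Category.id_comp]

/-- The morphism given by sections. -/
noncomputable def constDesc (U : X.Etale) (M : Type) [AddCommGroup M] {F : EtCoh.Ab X}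
    (s : ULift.{u + 1} M →+ F.obj.obj (op U)) : EtPBC.extZeroConst U M ⟶ F :=
  (extZeroConstEquiv U M F).symm s

@[simp] theorem constDesc_sect (U : X.Etale) (M : Type) [AddCommGroup M] {F : EtCoh.Ab X}
    (s : ULift.{u + 1} M →+ F.obj.obj (op U)) (a : ULift.{u + 1} M) :
    (constDesc U M s).hom.app (op U) (constSect U M a) = s a := by
  rw [hom_constSect, constDesc, Equiv.apply_symm_apply]

/-- The homomorphism from `ℤ/n` given by a section killed by `n`. -/
noncomputable def zmodSect {F : EtCoh.Ab X} {U : X.Etale} {n : ℕ} (σ : F.obj.obj (op U)) (h : n • σ = 0) :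
    ULift.{u + 1} (ZMod n) →+ F.obj.obj (op U) :=
  (ZMod.lift n ⟨zmultiplesHom _ σ, by rw [zmultiplesHom_apply, natCast_zsmul, h]⟩).comp
    AddEquiv.ulift.toAddMonoidHom

theorem zmodSect_one {F : EtCoh.Ab X} {U : X.Etale} {n : ℕ} (σ : F.obj.obj (op U)) (h : n • σ = 0) :
    zmodSect σ h ⟨1⟩ = σ := by
  simp only [zmodSect, AddMonoidHom.comp_apply, AddEquiv.coe_toAddMonoidHom]
  show ZMod.lift n _ (1 : ZMod n) = σ
  rw [← Int.cast_one (R := ZMod n), ZMod.lift_coe, zmultiplesHom_apply, one_zsmul]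

/-- Zero objects are constructible. -/
theorem isConstructible_of_isZero {F : EtCoh.Ab X} (hF : IsZero F) : EtPBC.IsConstructible F := by
  refine isConstructible_of_isFLC (isFLC_iff.2 fun x => ?_)
  refine ⟨EtCoh.top X, ⟨x, rfl⟩, PUnit, inferInstance, inferInstance, 0, fun Ω _ _ ξ t => ?_⟩
  have := AddCommGrpCat.subsingleton_of_isZero ((EtCoh.stalk ξ).map_isZero hF)
  exact ⟨fun a b _ => Subsingleton.elim a b, fun y => ⟨0, Subsingleton.elim _ _⟩⟩

/-- Finite sums of constructible sheaves are constructible. -/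
theorem isConstructible_biproduct {ι : Type*} [Finite ι] (F : ι → EtCoh.Ab X) [HasBiproduct F]
    (h : ∀ i, EtPBC.IsConstructible (F i)) : EtPBC.IsConstructible (⨁ F) := by
  let P : ObjectProperty (EtCoh.Ab X) := fun G => EtPBC.IsConstructible G
  have : P.IsClosedUnderIsomorphisms := ⟨fun e hG => isConstructible_of_iso e hG⟩
  have : P.ContainsZero := ⟨⟨_, isZero_zero _, isConstructible_of_isZero (isZero_zero _)⟩⟩
  have : P.IsClosedUnderBinaryProducts := ⟨by
    rintro G ⟨p⟩
    let X₁ := p.diag.obj ⟨WalkingPair.left⟩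
    let X₂ := p.diag.obj ⟨WalkingPair.right⟩
    have hs := (ShortComplex.Splitting.ofHasBinaryBiproduct X₁ X₂).shortExact
    refine isConstructible_of_iso ?_ (isConstructible_extension hs (p.prop_diag_obj _) (p.prop_diag_obj _))
    exact (biprod.isoProd X₁ X₂) ≪≫ (limit.isLimit (pair X₁ X₂)).conePointUniqueUpToIso
      ((IsLimit.postcomposeHomEquiv (diagramIsoPair p.diag) _).symm p.isLimit)⟩
  have := ObjectProperty.IsClosedUnderFiniteProducts.mk' (P := P)
  exact P.prop_of_isLimit_fan (biproduct.isLimit F) h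

variable [CompactSpace X] [QuasiSeparatedSpace X]

/-- Finitely many sections over affine etale schemes generate all the stalks. -/
theorem exists_generating_sections {F : EtCoh.Ab X} (hF : EtPBC.IsConstructible F) :
    ∃ (a : ℕ) (U : Fin a → X.Etale) (σ : ∀ i, F.obj.obj (op (U i))) (m : Fin a → ℕ),
      (∀ i, IsAffine (U i).left ∧ 0 < m i ∧ m i • σ i = 0) ∧
      ∀ (Ω : Type u) [Field Ω] [IsSepClosed Ω] (η : Spec (CommRingCat.of Ω) ⟶ X)
        (S : AddSubgroup ((EtCoh.stalk η).obj F)),
        (∀ (i : Fin a) (t : (Scheme.pointSmallEtale η).fiber.obj (U i)), germ η F (U i) t (σ i) ∈ S) →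
          S = ⊤ := by
  classical
  choose W w M hMg hMf s hs using fun x : X =>
    have := finite_stalk_of_isConstructibleAb hF (geomPoint x)
    exists_section F (geomPoint x)
  choose N hN hwN hNle using fun x : X =>
    exists_isAffineOpen_mem_and_subset (U := (⊤ : (W x).left.Opens)) (x := fiberPoint (geomPoint x) (w x)) trivial
  let Z : X → X.Etale := fun x => openObj (W x) (N x)
  have hZa : ∀ x, IsAffine (Z x).left := fun x => hN x
  let sZ : ∀ x, ULift.{u + 1} (M x) →+ F.obj.obj (op (Z x)) := fun x => res (openHom (W x) (N x)) (s x)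
  -- the constructible sets where the sections are bijective
  let E : X → Set X := fun x => (Z x).hom.base '' bijLocus F (Z x) (sZ x)
  have hE : ∀ x, Topology.IsConstructible (E x) := fun x => by
    let g : (Z x).left ⟶ X := (Z x).hom
    have := hZa x
    have : AlgebraicGeometry.Etale g := (Z x).prop
    have : QuasiCompact g := quasiCompact_of_compactSpace g
    exact (g.isLocallyConstructible_image (isLocallyConstructible_bijLocus hF (Z x) (sZ x))).isConstructible
  have hxE : ∀ x, x ∈ E x := fun x => by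
    obtain ⟨v, hv⟩ := exists_lift_open (geomPoint x) (N x) (w x) (hwN x)
    refine ⟨fiberPoint (geomPoint x) v, fun Ω _ _ η t ht => ?_, (hom_fiberPoint _ v).trans (geomPoint_apply _ _)⟩
    refine bijective_germ_of_fiberPoint_eq F (Z x) (sZ x) t v ht ?_
    refine (congrArg Function.Bijective (funext fun a => ?_)).mpr (hs x)
    rw [res_apply, germ_res, hv]
  have : SpectralSpace X := @SpectralSpace.mk X _ inferInstance inferInstance inferInstance inferInstance inferInstance
  obtain ⟨T, hT⟩ := @IsCompact.elim_finite_subcover _ (constructibleTopology X) Set.univ _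
    (Groth.SpectralTopology.isCompact_ct_of_isClosed_ct (@isClosed_univ _ (constructibleTopology X))) E
    (fun x => (Groth.SpectralTopology.isClopen_ct_of_isConstructible (hE x)).2)
    (fun x _ => Set.mem_iUnion.2 ⟨x, hxE x⟩)
  obtain ⟨a, ⟨e⟩⟩ := Finite.exists_equiv_fin ((x : T) × M x.1)
  refine ⟨a, fun i => Z (e.symm i).1.1, fun i => sZ _ ⟨(e.symm i).2⟩, fun i => Nat.card (M (e.symm i).1.1),
    fun i => ⟨hZa _, Nat.card_pos, ?_⟩, fun Ω _ _ η S hS => ?_⟩
  · rw [← map_nsmul]
    refine (congrArg _ ?_).trans (map_zero _)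
    exact ULift.ext _ _ card_nsmul_eq_zero'
  · refine eq_top_iff.2 fun y _ => ?_
    obtain ⟨x, hxT, z, hz, hze⟩ := Set.mem_iUnion₂.1 (hT (Set.mem_univ (η.base default)))
    obtain ⟨t, ht⟩ := exists_fiber_of_point η (Z x) z hze
    obtain ⟨c, rfl⟩ := (hz Ω η t ht).2 y
    obtain ⟨i, hi⟩ := e.symm.surjective ⟨⟨x, hxT⟩, c.down⟩
    have key : ∀ q : (x : T) × M x.1, q = e.symm i →
        ∀ t' : (Scheme.pointSmallEtale η).fiber.obj (Z q.1.1), germ η F (Z q.1.1) t' (sZ _ ⟨q.2⟩) ∈ S := by
      rintro q rfl t'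
      exact hS i t'
    exact key ⟨⟨x, hxT⟩, c.down⟩ hi.symm t

omit [CompactSpace X] [QuasiSeparatedSpace X] in
/-- Generating sections give an epimorphism. -/
theorem epi_desc_of_generating {F : EtCoh.Ab X} {ι : Type} [Finite ι] (U : ι → X.Etale) (n : ι → ℕ)
    (σ : ∀ i, F.obj.obj (op (U i))) (h : ∀ i, n i • σ i = 0)
    (hgen : ∀ (Ω : Type u) [Field Ω] [IsSepClosed Ω] (η : Spec (CommRingCat.of Ω) ⟶ X)
        (S : AddSubgroup ((EtCoh.stalk η).obj F)),
        (∀ (i : ι) (t : (Scheme.pointSmallEtale η).fiber.obj (U i)), germ η F (U i) t (σ i) ∈ S) → S = ⊤) :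
    Epi (biproduct.desc fun i => constDesc (U i) (ZMod (n i)) (zmodSect (σ i) (h i))) := by
  refine epi_of_stalk_surjective _ fun x => ?_
  have := hgen _ (geomPoint x)
    (((EtCoh.stalk (geomPoint x)).map (biproduct.desc fun i => constDesc (U i) (ZMod (n i))
      (zmodSect (σ i) (h i)))).hom.range) fun i t => ?_
  · intro y
    exact (this.symm ▸ AddSubgroup.mem_top y :)
  · refine ⟨(EtCoh.stalk (geomPoint x)).map (biproduct.ι _ i)
      (germ (geomPoint x) _ (U i) t (constSect (U i) (ZMod (n i)) ⟨1⟩)), ?_⟩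
    show ((EtCoh.stalk (geomPoint x)).map _) ((EtCoh.stalk (geomPoint x)).map _ _) = _
    rw [← ConcreteCategory.comp_apply, ← Functor.map_comp, biproduct.ι_desc, germ_map, constDesc_sect,
      zmodSect_one]

/-- A constructible sheaf is a quotient of a finite sum of sheaves `j_! ℤ/n`. -/
theorem exists_epi_extZeroConst {F : EtCoh.Ab X} (hF : EtPBC.IsConstructible F) :
    ∃ (a : ℕ) (U : Fin a → X.Etale) (n : Fin a → ℕ), (∀ i, 0 < n i ∧ IsAffine (U i).left) ∧
      ∃ φ : (⨁ fun i => EtPBC.extZeroConst (U i) (ZMod (n i))) ⟶ F, Epi φ := by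
  obtain ⟨a, U, σ, m, hm, hgen⟩ := exists_generating_sections hF
  exact ⟨a, U, m, fun i => ⟨(hm i).2.1, (hm i).1⟩, _, epi_desc_of_generating U m σ (fun i => (hm i).2.2) hgen⟩

/-- A constructible sheaf killed by `n` is a quotient of a finite sum of sheaves `j_! ℤ/n`. -/
theorem exists_epi_extZeroConst_killedBy {F : EtCoh.Ab X} (hF : EtPBC.IsConstructible F) (n : ℕ)
    (hn : EtCoh.KilledBy n F) :
    ∃ (a : ℕ) (U : Fin a → X.Etale), (∀ i, IsAffine (U i).left) ∧
      ∃ φ : (⨁ fun i => EtPBC.extZeroConst (U i) (ZMod n)) ⟶ F, Epi φ := by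
  obtain ⟨a, U, σ, m, hm, hgen⟩ := exists_generating_sections hF
  exact ⟨a, U, fun i => (hm i).1, _, epi_desc_of_generating U (fun _ => n) σ (fun i => hn _ (σ i)) hgen⟩

/-- Finite sums of sheaves `j_! ℤ/n` over affine etale schemes are constructible. -/
theorem isConstructible_sum_extZeroConst {a : ℕ} (U : Fin a → X.Etale) (n : Fin a → ℕ)
    (h : ∀ i, 0 < n i ∧ IsAffine (U i).left) :
    EtPBC.IsConstructible (⨁ fun i => EtPBC.extZeroConst (U i) (ZMod (n i))) :=
  isConstructible_biproduct _ fun i => by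
    have := (h i).2
    have : NeZero (n i) := ⟨(h i).1.ne'⟩
    exact isConstructible_extZeroConst (U i) (ZMod (n i))

/-- Presentations of constructible sheaves. -/
theorem exists_presentation {F : EtCoh.Ab X} (hF : EtPBC.IsConstructible F) :
    ∃ (a b : ℕ) (U : Fin a → X.Etale) (V : Fin b → X.Etale) (n : Fin a → ℕ) (m : Fin b → ℕ),
      (∀ i, 0 < n i ∧ IsAffine (U i).left) ∧ (∀ j, 0 < m j ∧ IsAffine (V j).left) ∧
        ∃ φ : (⨁ fun j => EtPBC.extZeroConst (V j) (ZMod (m j))) ⟶ (⨁ fun i => EtPBC.extZeroConst (U i) (ZMod (n i))),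
          Nonempty (F ≅ cokernel φ) := by
  obtain ⟨a, U, n, hn, π, _⟩ := exists_epi_extZeroConst hF
  obtain ⟨b, V, m, hm, ρ, _⟩ := exists_epi_extZeroConst
    (isConstructible_kernel π (isConstructible_sum_extZeroConst U n hn) hF)
  exact ⟨a, b, U, V, n, m, hn, hm, ρ ≫ kernel.ι π,
    ⟨((colimit.isColimit _).coconePointUniqueUpToIso
      (Abelian.epiIsCokernelOfKernel _ (limit.isLimit (parallelPair π 0)))).symm ≪≫
        (cokernelEpiComp ρ (kernel.ι π)).symm⟩⟩

end Groth.EtaleDeep.Cons
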