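import Groth.Agent.EtaleDeep.Cons.Noetherian
import Groth.Agent.EtaleDeep.AdicP.Limit
import Groth.Agent.S14020

/-!
# Systems of finite type locally constant sheaves over an artinian quotient are Mittag-Leffler
-/

set_option autoImplicit false
set_option backward.isDefEq.respectTransparency.types false
set_option linter.style.haveILetI false

universe u

open CategoryTheory CategoryTheory.Limits AlgebraicGeometry Opposite Topology

namespace Groth.EtaleDeep.Cons

open Groth.EtaleBase

section Images

variable {C : Type*} [Category C] [Abelian C]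

/-- The image of an epimorphism followed by a monomorphism. -/
theorem imageSubobject_eq_mk {A M B : C} (f : A ⟶ B) (e : A ⟶ M) (m : M ⟶ B) [Epi e] [Mono m]
    (h : e ≫ m = f) : imageSubobject f = Subobject.mk m := by
  subst h
  have : IsIso (Subobject.ofLE _ _ (imageSubobject_comp_le e m)) := isIso_of_mono_of_epi _
  rw [← imageSubobject_mono m]
  exact le_antisymm (imageSubobject_comp_le e m)
    (Subobject.le_of_comm (inv (Subobject.ofLE _ _ (imageSubobject_comp_le e m)))
      (by rw [IsIso.inv_comp_eq, Subobject.ofLE_arrow]))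

/-- Exact functors preserve equalities of images. -/
theorem imageSubobject_map_eq {D : Type*} [Category D] [Abelian D] (L : C ⥤ D)
    [L.PreservesEpimorphisms] [L.PreservesMonomorphisms] {A A' B : C} (f : A ⟶ B) (f' : A' ⟶ B)
    (h : imageSubobject f = imageSubobject f') : imageSubobject (L.map f) = imageSubobject (L.map f') := by
  have key : ∀ {A : C} (f : A ⟶ B),
      imageSubobject (L.map f) = Subobject.mk (L.map (imageSubobject f).arrow) := fun f =>
    imageSubobject_eq_mk (L.map f) (L.map (factorThruImageSubobject f)) _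
      (by rw [← L.map_comp, imageSubobject_arrow_comp])
  rw [key, key, h]

end Images

variable {Λ : Type (u + 1)} [CommRing Λ]

/-- A finite module killed by an ideal with artinian quotient is artinian. -/
theorem isArtinian_of_killed {J : Ideal Λ} [IsArtinianRing (Λ ⧸ J)] {M : Type (u + 1)}
    [AddCommGroup M] [Module Λ M] [Module.Finite Λ M] (h : ∀ a ∈ J, ∀ x : M, a • x = 0) :
    IsArtinian Λ M := by
  obtain ⟨k, f, hf⟩ := Module.Finite.exists_fin' Λ M
  have h1 : IsArtinian Λ (Λ ⧸ J) :=
    isArtinian_of_surjective_algebraMap (R := Λ ⧸ J) Ideal.Quotient.mk_surjective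
  have h2 : ∀ i, J ≤ LinearMap.ker (LinearMap.toSpanSingleton Λ M (f (Pi.single i 1))) := fun i a ha =>
    h a ha _
  let g : (Fin k → Λ ⧸ J) →ₗ[Λ] M :=
    ∑ i, (Submodule.liftQ J _ (h2 i)).comp (LinearMap.proj i)
  refine isArtinian_of_surjective _ g fun x => ?_
  obtain ⟨c, rfl⟩ := hf x
  refine ⟨fun i => Ideal.Quotient.mk J (c i), ?_⟩
  conv_rhs => rw [pi_eq_sum_univ' c, map_sum]
  simp only [g, LinearMap.sum_apply, LinearMap.comp_apply, LinearMap.proj_apply]
  exact Finset.sum_congr rfl fun i _ => (map_smul f (c i) _).symm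

variable {X : Scheme.{u}}

/-- Transition maps of a system compose. -/
theorem shiftMap_eq_comp (F : ARSys.PS (EtModW.Mod Λ X)) {r s : ℕ} (hrs : r ≤ s) (n : ℕ) :
    ARSys.shiftMap F s n = F.map (homOfLE (Nat.add_le_add_left hrs n)).op ≫ ARSys.shiftMap F r n :=
  (congrArg F.map (Subsingleton.elim _ _)).trans (F.map_comp _ _)

variable [IsNoetherianRing Λ]

/-- The image of a map of finite type locally constant sheaves is one. -/
theorem isFT_imageSubobject {F G : EtModW.Mod Λ X} (f : F ⟶ G) (hF : EtModW.IsFTLocConst Λ F)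
    (hG : EtModW.IsFTLocConst Λ G) :
    EtModW.IsFTLocConst Λ (Subobject.underlying.obj (imageSubobject f)) :=
  isFT_of_iso (F := kernel (cokernel.π f))
    ((Abelian.imageIsoImage f) ≪≫ (imageSubobjectIso f).symm)
    (isFT_kernel _ hG (isFT_cokernel _ hF hG))

variable [IsNoetherian X] {I : Ideal Λ}

/-- Finite type locally constant systems over an artinian quotient are Mittag-Leffler. -/
theorem isML_of_isFT [IsArtinianRing (Λ ⧸ I)] (F : ARSys.PS (EtModW.Mod Λ X))
    (hk : ARSys.TermKilled I F) (hF : ∀ n : ℕ, EtModW.IsFTLocConst Λ (F.obj (op n))) :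
    ARSys.IsML F := by
  intro n
  have : IsArtinianRing (Λ ⧸ I ^ (n + 1)) :=
    Groth.Agent.S14020.result Λ I (IsNoetherian.noetherian I) (n + 1)
  have hfin : (irreducibleComponents X).Finite := TopologicalSpace.NoetherianSpace.finite_irreducibleComponents
  let gen : irreducibleComponents X → X := fun Z => Z.2.1.genericPoint
  -- stalks at a generic point
  have hstab : ∀ Z : irreducibleComponents X, ∃ r : ℕ, ∀ s : ℕ, r ≤ s →
      LinearMap.range ((EtModW.stalk Λ (geomPoint (gen Z))).map (ARSys.shiftMap F r n)).hom ≤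
        LinearMap.range ((EtModW.stalk Λ (geomPoint (gen Z))).map (ARSys.shiftMap F s n)).hom := by
    intro Z
    let η := geomPoint (gen Z)
    let S := EtModW.stalk Λ η
    have : HasColimitsOfSize.{u, u} (ModuleCat.{u + 1} Λ) :=
      hasColimitsOfSizeShrink.{u, u, u + 1, u + 1} _
    have : HasLimitsOfSize.{u, u} (ModuleCat.{u + 1} Λ) := ModuleCat.hasLimitsOfSize.{u, u, u + 1, u + 1}
    have hkS : ARSys.KilledBy (I ^ (n + 1)) (S.obj (F.obj (op n))) :=
      AdicP.killedBy_map ((Scheme.pointSmallEtale η).skyscraperSheafAdjunction (A := ModuleCat.{u + 1} Λ))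
        (fun {Z Z'} g a => by
          refine Sheaf.hom_ext (NatTrans.ext (funext fun T => ?_))
          change (Limits.Pi.map fun _ => a • g) = a • (Limits.Pi.map fun _ => g)
          ext i : 1
          simp) _ (hk n)
    have : Module.Finite Λ (S.obj (F.obj (op n))) := finite_stalk_of_isFT η (hF n)
    have := isArtinian_of_killed (J := I ^ (n + 1)) (M := S.obj (F.obj (op n))) fun a ha x =>
      ConcreteCategory.congr_hom (hkS a ha) x
    have hmono : ∀ r s : ℕ, r ≤ s → LinearMap.range (S.map (ARSys.shiftMap F s n)).hom ≤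
        LinearMap.range (S.map (ARSys.shiftMap F r n)).hom := by
      intro r s hrs
      rw [shiftMap_eq_comp F hrs n]
      rintro _ ⟨w, rfl⟩
      exact ⟨(S.map (F.map (homOfLE (Nat.add_le_add_left hrs n)).op)).hom w,
        (ConcreteCategory.congr_hom (S.map_comp _ _) w).symm⟩
    obtain ⟨r, hr⟩ := IsArtinian.monotone_stabilizes
      (R := Λ) (M := S.obj (F.obj (op n)))
      ⟨fun s => OrderDual.toDual (LinearMap.range (S.map (ARSys.shiftMap F s n)).hom), fun r s h => hmono r s h⟩
    exact ⟨r, fun s hs => (OrderDual.toDual.injective (hr s hs)).le⟩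
  choose r hr using hstab
  have : Finite (irreducibleComponents X) := hfin.to_subtype
  obtain ⟨R, hR⟩ := (Set.finite_range r).bddAbove
  refine ⟨R, fun s hs => ?_⟩
  let f := ARSys.shiftMap F s n
  let g := ARSys.shiftMap F R n
  have hfg : f = F.map (homOfLE (Nat.add_le_add_left hs n)).op ≫ g := shiftMap_eq_comp F hs n
  have hle : imageSubobject f ≤ imageSubobject g := by
    rw [hfg]; exact imageSubobject_comp_le _ _
  let h := Subobject.ofLE _ _ hle
  have : IsIso h := isIso_of_stalk h fun x => by
    refine ⟨injective_stalk h (geomPoint x), ?_⟩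
    let Z : irreducibleComponents X := ⟨_, irreducibleComponent_mem_irreducibleComponents x⟩
    let η := geomPoint (gen Z)
    have hsp : gen Z ⤳ x := by
      rw [specializes_iff_mem_closure,
        Z.2.1.closure_genericPoint (isClosed_irreducibleComponent (x := x))]
      exact mem_irreducibleComponent
    obtain ⟨φ⟩ := nonempty_pointHom η (geomPoint x) (by
      rw [geomPoint_apply, geomPoint_apply]; exact hsp)
    have hη : Function.Surjective ((EtModW.stalk Λ η).map h).hom := by
      intro z
      let S := EtModW.stalk Λ η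
      have : HasColimitsOfSize.{u, u} (ModuleCat.{u + 1} Λ) :=
        hasColimitsOfSizeShrink.{u, u, u + 1, u + 1} _
      have : HasLimitsOfSize.{u, u} (ModuleCat.{u + 1} Λ) := ModuleCat.hasLimitsOfSize.{u, u, u + 1, u + 1}
      have : S.PreservesEpimorphisms := Functor.preservesEpimorphisms_of_adjunction
        ((Scheme.pointSmallEtale η).skyscraperSheafAdjunction (A := ModuleCat.{u + 1} Λ))
      have hsurj : ∀ {A B : EtModW.Mod Λ X} (k : A ⟶ B),
          Function.Surjective (S.map (factorThruImageSubobject k)).hom := fun k =>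
        (ModuleCat.epi_iff_surjective _).1 (S.map_epi _)
      obtain ⟨w, rfl⟩ := hsurj g z
      have hmem : (S.map g).hom w ∈ LinearMap.range (S.map f).hom := by
        refine hr Z s ((hR ⟨Z, rfl⟩).trans hs) ?_
        have hRr : g = F.map (homOfLE (Nat.add_le_add_left (hR ⟨Z, rfl⟩) n)).op ≫ ARSys.shiftMap F (r Z) n :=
          shiftMap_eq_comp F (hR ⟨Z, rfl⟩) n
        rw [hRr]
        exact ⟨_, (ConcreteCategory.congr_hom (S.map_comp _ _) w).symm⟩
      obtain ⟨v, hv⟩ := hmem
      refine ⟨(S.map (factorThruImageSubobject f)).hom v, injective_stalk (imageSubobject g).arrow η ?_⟩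
      rw [← ConcreteCategory.comp_apply, ← ConcreteCategory.comp_apply, ← ConcreteCategory.comp_apply,
        ← S.map_comp, ← S.map_comp, ← S.map_comp, Subobject.ofLE_arrow]
      rw [imageSubobject_arrow_comp, imageSubobject_arrow_comp]
      exact hv
    have hA := isIso_cospec (isFT_imageSubobject f (hF _) (hF n)) φ
    have hB := isIso_cospec (isFT_imageSubobject g (hF _) (hF n)) φ
    intro z
    obtain ⟨w, hw⟩ := hη (((cospec φ).app _).hom z)
    obtain ⟨v, rfl⟩ := ((ConcreteCategory.isIso_iff_bijective _).1 hA).2 w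
    refine ⟨v, ((ConcreteCategory.isIso_iff_bijective _).1 hB).1 ?_⟩
    exact (cospec_naturality φ h v).trans hw
  exact le_antisymm hle (Subobject.le_of_comm (inv h) (by rw [IsIso.inv_comp_eq, Subobject.ofLE_arrow]))

end Groth.EtaleDeep.Cons
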