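import Groth.Agent.EtaleDeep.Cons.PullLC
import Groth.Prelude.Def_EtMod2
import Mathlib.RingTheory.Noetherian.Basic
import Mathlib.LinearAlgebra.Quotient.Basic

/-!
# Locally constant sheaves of modules of finite type
-/

set_option autoImplicit false
set_option backward.isDefEq.respectTransparency.types false
set_option linter.style.haveILetI false

universe u

open CategoryTheory CategoryTheory.Limits AlgebraicGeometry Opposite

namespace Groth.EtaleDeep.Cons

open Groth.EtaleBase Groth.EtaleBase.LocConst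

variable {Λ : Type (u + 1)} [CommRing Λ] {X : Scheme.{u}}

/-- Linear sections inducing bijections on all stalks over `U`. -/
def StalkBijM (F : EtModW.Mod Λ X) (U : X.Etale) {M : Type (u + 1)} [AddCommGroup M] [Module Λ M]
    (s : M →ₗ[Λ] EtModW.sect Λ F U) : Prop :=
  StalkBij ((toAb Λ X).obj F) U s.toAddMonoidHom

variable {F G : EtModW.Mod Λ X} {U : X.Etale} {M : Type (u + 1)} [AddCommGroup M] [Module Λ M]
  {s : M →ₗ[Λ] EtModW.sect Λ F U}

/-- Restriction of linear sections. -/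
noncomputable def resM {V : X.Etale} (g : V ⟶ U) (s : M →ₗ[Λ] EtModW.sect Λ F U) :
    M →ₗ[Λ] EtModW.sect Λ F V :=
  (F.obj.map g.op).hom.comp s

lemma StalkBijM.res (h : StalkBijM F U s) {V : X.Etale} (g : V ⟶ U) : StalkBijM F V (resM g s) :=
  StalkBij.res h g

lemma StalkBijM.of_iso (h : StalkBijM F U s) (φ : F ≅ G) :
    StalkBijM G U ((φ.hom.hom.app (op U)).hom.comp s) :=
  StalkBij.of_iso h ((toAb Λ X).mapIso φ)

lemma StalkBijM.injective (h : StalkBijM F U s) (u₀ : U.left) : Function.Injective s :=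
  StalkBij.injective_of_nonempty h u₀

/-- The presheaf map given by linear sections over `U`. -/
noncomputable def toRestrM (F : EtModW.Mod Λ X) (U : X.Etale) (s : M →ₗ[Λ] EtModW.sect Λ F U) :
    (Functor.const (Over U)ᵒᵖ).obj (ModuleCat.of Λ M) ⟶ (EtModW.restr Λ F U).obj where
  app Y := ModuleCat.ofHom (resM Y.unop.hom s)
  naturality Y Y' φ := by
    ext a
    show F.obj.map Y'.unop.hom.op (s a) = F.obj.map φ.unop.left.op (F.obj.map Y.unop.hom.op (s a))
    rw [← Functor.map_comp_apply, ← op_comp, Over.w φ.unop]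

/-- A trivialization gives stalkwise bijective linear sections. -/
theorem exists_stalkBijM_of_iso (e : EtModW.restr Λ F U ≅
    (constantSheaf (X.smallEtaleTopology.over U) (ModuleCat.{u + 1} Λ)).obj (ModuleCat.of Λ M)) :
    ∃ s : M →ₗ[Λ] EtModW.sect Λ F U, StalkBijM F U s := by
  let J := X.smallEtaleTopology.over U
  let ψ : (Functor.const (Over U)ᵒᵖ).obj (ModuleCat.of Λ M) ⟶ (EtModW.restr Λ F U).obj :=
    CategoryTheory.toSheafify _ _ ≫ e.inv.hom
  let s : M →ₗ[Λ] EtModW.sect Λ F U := (ψ.app (op (Over.mk (𝟙 U)))).hom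
  have hψ : ∀ (Y : (Over U)ᵒᵖ) (a : M), ψ.app Y a = F.obj.map Y.unop.hom.op (s a) := fun Y a => by
    let φ : Y.unop ⟶ Over.mk (𝟙 U) := Over.homMk Y.unop.hom (Category.comp_id _)
    exact NatTrans.naturality_apply ψ φ.op a
  have hbij : ∀ Y, Function.Bijective (e.inv.hom.app Y) := fun Y =>
    (((sheafToPresheaf _ _).mapIso e.symm).app Y).toLinearEquiv.bijective
  refine ⟨s, stalkBij_iff.2 ⟨⟨fun {Y} a b h => ?_⟩, ⟨fun {Y} σ => ?_⟩⟩⟩
  · have h' : ψ.app Y a = ψ.app Y b := (hψ Y a).trans (h.trans (hψ Y b).symm)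
    exact Presheaf.equalizerSieve_mem J
      (CategoryTheory.toSheafify J ((Functor.const (Over U)ᵒᵖ).obj (ModuleCat.of Λ M))) a b ((hbij Y).1 h')
  · obtain ⟨y, rfl⟩ := (hbij (op Y)).2 σ
    refine J.superset_covering ?_ (Presheaf.imageSieve_mem J
      (CategoryTheory.toSheafify J ((Functor.const (Over U)ᵒᵖ).obj (ModuleCat.of Λ M))) (U := op Y) y)
    rintro Z k ⟨a, ha⟩
    refine ⟨a, (hψ (op Z) a).symm.trans ?_⟩
    exact (congrArg (e.inv.hom.app (op Z)) ha).trans (NatTrans.naturality_apply e.inv.hom k.op y)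

/-- The morphism from a constant sheaf given by linear sections. -/
noncomputable def fromConstM (F : EtModW.Mod Λ X) (U : X.Etale) (s : M →ₗ[Λ] EtModW.sect Λ F U) :
    (constantSheaf (X.smallEtaleTopology.over U) (ModuleCat.{u + 1} Λ)).obj (ModuleCat.of Λ M) ⟶
      EtModW.restr Λ F U :=
  ((sheafificationAdjunction (X.smallEtaleTopology.over U) (ModuleCat.{u + 1} Λ)).homEquiv _ _).symm
    (toRestrM F U s)

lemma isIso_fromConstM (h : StalkBijM F U s) : IsIso (fromConstM F U s) := by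
  obtain ⟨h₁, h₂⟩ := stalkBij_iff.1 h
  have : Presheaf.IsLocallyInjective (X.smallEtaleTopology.over U) (toRestrM F U s) :=
    ⟨fun {Y} a b e => h₁.equalizerSieve_mem a b e⟩
  have : Presheaf.IsLocallySurjective (X.smallEtaleTopology.over U) (toRestrM F U s) :=
    ⟨fun {Y} σ => h₂.imageSieve_mem σ⟩
  have hW := (X.smallEtaleTopology.over U).W_of_isLocallyBijective (toRestrM F U s)
  have h1 : IsIso ((presheafToSheaf (X.smallEtaleTopology.over U) (ModuleCat.{u + 1} Λ)).map (toRestrM F U s)) :=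
    (GrothendieckTopology.W_iff _ _).1 hW
  rw [fromConstM, Adjunction.homEquiv_symm_apply]
  exact @IsIso.comp_isIso _ _ _ _ _ _ _ h1 inferInstance

/-- Finite type local constancy, pointwise. -/
theorem isFT_iff : EtModW.IsFTLocConst Λ F ↔
    ∀ x : X, ∃ (U : X.Etale) (_ : ∃ y, U.hom.base y = x) (M : Type (u + 1)) (_ : AddCommGroup M)
      (_ : Module Λ M) (_ : Module.Finite Λ M) (s : M →ₗ[Λ] EtModW.sect Λ F U), StalkBijM F U s := by
  constructor
  · rintro ⟨ι, U, hU, h⟩ x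
    obtain ⟨i, y, hy⟩ := hU x
    obtain ⟨M, _, _, hM, ⟨e⟩⟩ := h i
    obtain ⟨s, hs⟩ := exists_stalkBijM_of_iso e
    exact ⟨U i, ⟨y, hy⟩, M, _, _, hM, s, hs⟩
  · intro h
    choose U hU M hM hM' hMf s hs using h
    refine ⟨X, U, fun x => ⟨x, hU x⟩, fun x => ⟨M x, hM x, hM' x, hMf x, ?_⟩⟩
    have := isIso_fromConstM (hs x)
    exact ⟨(asIso (fromConstM F (U x) (s x))).symm⟩

/-- Finite type local constancy is invariant under isomorphisms. -/
theorem isFT_of_iso (e : F ≅ G) (h : EtModW.IsFTLocConst Λ F) : EtModW.IsFTLocConst Λ G := by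
  rw [isFT_iff] at h ⊢
  intro x
  obtain ⟨U, hU, M, _, _, hM, s, hs⟩ := h x
  exact ⟨U, hU, M, _, _, hM, _, hs.of_iso e⟩

variable (φ : F ⟶ G)

lemma stalk_exact_toAb {S : ShortComplex (EtModW.Mod Λ X)} (hS : S.Exact) {Ω : Type u} [Field Ω]
    [IsSepClosed Ω] (ξ : Spec (CommRingCat.of Ω) ⟶ X) :
    ((S.map (toAb Λ X)).map (EtCoh.stalk ξ)).Exact :=
  stalk_exact ξ (hS.map (toAb Λ X))

/-- A map from a finite type locally constant sheaf is locally constant. -/
theorem exists_pairTrivM (hF : EtModW.IsFTLocConst Λ F) {N : Type (u + 1)} [AddCommGroup N] [Module Λ N]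
    (x : X) (U' : X.Etale) (hU' : ∃ y, U'.hom.base y = x) (s' : N →ₗ[Λ] EtModW.sect Λ G U')
    (hs' : StalkBijM G U' s') :
    ∃ (W : X.Etale) (_ : ∃ y, W.hom.base y = x) (g : W ⟶ U') (M : Type (u + 1)) (_ : AddCommGroup M)
      (_ : Module Λ M) (_ : Module.Finite Λ M) (s : M →ₗ[Λ] EtModW.sect Λ F W) (h : M →ₗ[Λ] N),
      StalkBijM F W s ∧ ∀ a, (φ.hom.app (op W)).hom (s a) = resM g s' (h a) := by
  let ξ := geomPoint x
  obtain ⟨U, ⟨y, hy⟩, M, _, _, hM, s, hs⟩ := isFT_iff.1 hF x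
  obtain ⟨y', hy'⟩ := hU'
  obtain ⟨t, -⟩ := exists_fiber_of_point ξ U y (hy.trans (geomPoint_apply _ _).symm)
  obtain ⟨t', -⟩ := exists_fiber_of_point ξ U' y' (hy'.trans (geomPoint_apply _ _).symm)
  obtain ⟨W, g, g', w, -, -⟩ := exists_common ξ U U' t t'
  obtain ⟨r, m, hm⟩ := Module.Finite.exists_fin (R := Λ) (M := M)
  choose n hn using fun i => (hs'.res g' _ _ _ ξ w).2
    (germ ξ ((toAb Λ X).obj G) W w ((φ.hom.app (op W)).hom (resM g s (m i))))
  obtain ⟨W', k, w', -, he⟩ := exists_common_eq ξ (F := (toAb Λ X).obj G) W w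
    (fun i => (φ.hom.app (op W)).hom (resM g s (m i))) (fun i => resM g' s' (n i)) (fun i => (hn i).symm)
  let T := resM (k ≫ g') s'
  let S := resM k (resM g s)
  have hrange : ∀ a, (φ.hom.app (op W')).hom (S a) ∈ LinearMap.range T := by
    have : Submodule.span Λ (Set.range m) ≤
        (LinearMap.range T).comap ((φ.hom.app (op W')).hom.comp S) := by
      rw [Submodule.span_le]
      rintro _ ⟨i, rfl⟩
      refine ⟨n i, ?_⟩
      refine Eq.trans ?_ (ConcreteCategory.congr_hom (φ.hom.naturality k.op) (resM g s (m i))).symm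
      exact (Functor.map_comp_apply G.obj g'.op k.op (s' (n i))).trans (he i).symm
    exact fun a => this (hm.symm ▸ Submodule.mem_top)
  have hinj : Function.Injective T := (hs'.res (k ≫ g')).injective (fiberPoint ξ w')
  let h : M →ₗ[Λ] N := (LinearEquiv.ofInjective T hinj).symm.toLinearMap.comp
    (((φ.hom.app (op W')).hom.comp S).codRestrict (LinearMap.range T) hrange)
  refine ⟨W', ⟨_, (hom_fiberPoint ξ w').trans (geomPoint_apply _ _)⟩, k ≫ g', M, _, _, hM, S, h,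
    (hs.res g).res k, fun a => ?_⟩
  exact (congrArg Subtype.val ((LinearEquiv.ofInjective T hinj).apply_symm_apply
    (((φ.hom.app (op W')).hom.comp S).codRestrict (LinearMap.range T) hrange a))).symm

/-- Sections are left exact. -/
lemma exists_kernel_liftM {S : ShortComplex (EtModW.Mod Λ X)} (hS : S.Exact) [Mono S.f] (W : X.Etale) :
    Function.Injective (S.f.hom.app (op W)).hom ∧
      ∀ σ, (S.g.hom.app (op W)).hom σ = 0 → σ ∈ LinearMap.range (S.f.hom.app (op W)).hom := by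
  let E : EtModW.Mod Λ X ⥤ ModuleCat.{u + 1} Λ :=
    sheafToPresheaf X.smallEtaleTopology _ ⋙ (evaluation X.Etaleᵒᵖ _).obj (op W)
  have : PreservesFiniteLimits E := inferInstance
  have h := hS.map_of_mono_of_preservesKernel E inferInstance inferInstance
  exact ⟨(ModuleCat.mono_iff_injective _).1 (inferInstanceAs (Mono (E.map S.f))),
    fun σ hσ => (ShortComplex.moduleCat_exact_iff _).1 h σ hσ⟩

/-- Kernels of maps of finite type locally constant sheaves. -/
theorem isFT_kernel [IsNoetherianRing Λ] (hF : EtModW.IsFTLocConst Λ F) (hG : EtModW.IsFTLocConst Λ G) :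
    EtModW.IsFTLocConst Λ (kernel φ) := by
  rw [isFT_iff]
  intro x
  obtain ⟨U', hU', N, _, _, _, s', hs'⟩ := isFT_iff.1 hG x
  obtain ⟨W, hW, g, M, _, _, hM, s, h, hs, hh⟩ := exists_pairTrivM φ hF x U' hU' s' hs'
  let S := ShortComplex.mk (kernel.ι φ) φ (kernel.condition φ)
  have hSe : S.Exact := ShortComplex.exact_of_f_is_kernel S (kernelIsKernel _)
  have : Mono S.f := inferInstanceAs (Mono (kernel.ι φ))
  obtain ⟨hinj, hker⟩ := exists_kernel_liftM hSe W
  let T := ((kernel.ι φ).hom.app (op W)).hom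
  have hmem : ∀ a : LinearMap.ker h, s a.1 ∈ LinearMap.range T := fun a => hker _ (by
    change (φ.hom.app (op W)).hom (s a.1) = 0
    rw [hh, LinearMap.mem_ker.1 a.2, map_zero])
  let κ : LinearMap.ker h →ₗ[Λ] EtModW.sect Λ (kernel φ) W := (LinearEquiv.ofInjective T hinj).symm.toLinearMap.comp
    ((s.comp (LinearMap.ker h).subtype).codRestrict (LinearMap.range T) hmem)
  have hκ : ∀ a, T (κ a) = s a.1 := fun a => congrArg Subtype.val
    ((LinearEquiv.ofInjective T hinj).apply_symm_apply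
      ((s.comp (LinearMap.ker h).subtype).codRestrict (LinearMap.range T) hmem a))
  refine ⟨W, hW, LinearMap.ker h, inferInstance, inferInstance, inferInstance, κ, fun Ω _ _ ξ t => ?_⟩
  have : Mono ((toAb Λ X).map (kernel.ι φ)) := inferInstance
  have hι : ∀ a, (EtCoh.stalk ξ).map ((toAb Λ X).map (kernel.ι φ))
      (germ ξ ((toAb Λ X).obj (kernel φ)) W t (κ a)) = germ ξ ((toAb Λ X).obj F) W t (s a.1) := fun a =>
    (germ_map ξ ((toAb Λ X).map (kernel.ι φ)) W t (κ a)).trans (congrArg _ (hκ a))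
  refine ⟨fun a b e => ?_, fun z => ?_⟩
  · exact Subtype.ext ((hs _ _ _ ξ t).1 ((hι a).symm.trans ((congrArg _ e).trans (hι b))))
  · obtain ⟨a, ha⟩ := (hs _ _ _ ξ t).2 ((EtCoh.stalk ξ).map ((toAb Λ X).map (kernel.ι φ)) z)
    have h0 : h a = 0 := by
      refine (hs'.res g _ _ _ ξ t).1 ?_
      show germ ξ ((toAb Λ X).obj G) W t (resM g s' (h a)) = germ ξ ((toAb Λ X).obj G) W t (resM g s' 0)
      rw [← hh, map_zero]
      refine (germ_map ξ ((toAb Λ X).map φ) W t (s a)).symm.trans ?_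
      refine (congrArg ((EtCoh.stalk ξ).map ((toAb Λ X).map φ)) ha).trans ?_
      rw [← ConcreteCategory.comp_apply, ← Functor.map_comp, ← Functor.map_comp, kernel.condition,
        Functor.map_zero, Functor.map_zero]
      exact (map_zero _).symm
    exact ⟨⟨a, LinearMap.mem_ker.2 h0⟩, mono_stalk_injective ξ _ ((hι _).trans ha)⟩

/-- Cokernels of maps of finite type locally constant sheaves. -/
theorem isFT_cokernel (hF : EtModW.IsFTLocConst Λ F) (hG : EtModW.IsFTLocConst Λ G) :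
    EtModW.IsFTLocConst Λ (cokernel φ) := by
  rw [isFT_iff]
  intro x
  obtain ⟨U', hU', N, _, _, _, s', hs'⟩ := isFT_iff.1 hG x
  obtain ⟨W, hW, g, M, _, _, hM, s, h, hs, hh⟩ := exists_pairTrivM φ hF x U' hU' s' hs'
  let c₀ : N →ₗ[Λ] EtModW.sect Λ (cokernel φ) W :=
    ((cokernel.π φ).hom.app (op W)).hom.comp (resM g s')
  have hc₀ : LinearMap.range h ≤ LinearMap.ker c₀ := by
    rintro _ ⟨a, rfl⟩
    rw [LinearMap.mem_ker]
    change ((cokernel.π φ).hom.app (op W)).hom (resM g s' (h a)) = 0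
    rw [← hh]
    exact ConcreteCategory.congr_hom (congrArg (fun m : F ⟶ cokernel φ => m.hom.app (op W))
      (cokernel.condition φ)) (s a)
  refine ⟨W, hW, N ⧸ LinearMap.range h, inferInstance, inferInstance, inferInstance,
    (LinearMap.range h).liftQ c₀ hc₀, fun Ω _ _ ξ t => ?_⟩
  let π := (toAb Λ X).map (cokernel.π φ)
  let S := ShortComplex.mk φ (cokernel.π φ) (cokernel.condition φ)
  have hex := (ShortComplex.ab_exact_iff _).1 (stalk_exact_toAb (ShortComplex.exact_cokernel φ) ξ)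
  have hc : ∀ n : N, germ ξ ((toAb Λ X).obj (cokernel φ)) W t ((LinearMap.range h).liftQ c₀ hc₀ (Submodule.Quotient.mk n)) =
      (EtCoh.stalk ξ).map π (germ ξ ((toAb Λ X).obj G) W t (resM g s' n)) := fun n =>
    (germ_map ξ π W t _).symm
  refine ⟨fun a b e => ?_, fun z => ?_⟩
  · obtain ⟨m, rfl⟩ := Submodule.Quotient.mk_surjective _ a
    obtain ⟨n, rfl⟩ := Submodule.Quotient.mk_surjective _ b
    have h2 : (EtCoh.stalk ξ).map π (germ ξ ((toAb Λ X).obj G) W t (resM g s' (m - n))) = 0 := by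
      have e' := (hc m).symm.trans (e.trans (hc n))
      rw [map_sub]
      refine (congrArg _ (map_sub (germ ξ ((toAb Λ X).obj G) W t).hom _ _)).trans ?_
      exact (map_sub _ _ _).trans (sub_eq_zero.2 e')
    obtain ⟨z, hz⟩ := hex _ h2
    obtain ⟨a, rfl⟩ := (hs _ _ _ ξ t).2 z
    have h3 : h a = m - n := (hs'.res g _ _ _ ξ t).1 (by
      show germ ξ ((toAb Λ X).obj G) W t (resM g s' (h a)) = germ ξ ((toAb Λ X).obj G) W t (resM g s' (m - n))
      rw [← hh]
      exact (germ_map ξ ((toAb Λ X).map φ) W t (s a)).symm.trans hz)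
    exact (Submodule.Quotient.eq _).2 ⟨a, h3⟩
  · have : Epi π := (toAb Λ X).map_epi _
    obtain ⟨y, rfl⟩ := stalk_surjective_of_epi ξ π z
    obtain ⟨n, rfl⟩ := (hs'.res g _ _ _ ξ t).2 y
    exact ⟨Submodule.Quotient.mk n, hc n⟩

/-- Extensions of finite type locally constant sheaves. -/
theorem isFT_extension [IsNoetherianRing Λ] {S : ShortComplex (EtModW.Mod Λ X)} (hS : S.ShortExact)
    (h1 : EtModW.IsFTLocConst Λ S.X₁) (h3 : EtModW.IsFTLocConst Λ S.X₃) :
    EtModW.IsFTLocConst Λ S.X₂ := by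
  classical
  rw [isFT_iff]
  intro x
  let ξ := geomPoint x
  let A := toAb Λ X
  obtain ⟨U, ⟨y, hy⟩, M, _, _, hM, s, hs⟩ := isFT_iff.1 h1 x
  obtain ⟨U', ⟨y', hy'⟩, N, _, _, hN, s', hs'⟩ := isFT_iff.1 h3 x
  obtain ⟨t, -⟩ := exists_fiber_of_point ξ U y (hy.trans (geomPoint_apply _ _).symm)
  obtain ⟨t', -⟩ := exists_fiber_of_point ξ U' y' (hy'.trans (geomPoint_apply _ _).symm)
  obtain ⟨W₀, g₀, g₀', w₀, -, -⟩ := exists_common ξ U U' t t'
  have := hS.epi_g
  have := hS.mono_f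
  have : Epi (A.map S.g) := A.map_epi _
  obtain ⟨k, m, hm⟩ := Module.Finite.exists_fin (R := Λ) (M := N)
  let q : (Fin k → Λ) →ₗ[Λ] N := Fintype.linearCombination Λ m
  have hq : Function.Surjective q := by
    rw [← LinearMap.range_eq_top, Fintype.range_linearCombination, hm]
  obtain ⟨r, κ, hκ⟩ := Module.Finite.exists_fin (R := Λ) (M := LinearMap.ker q)
  -- lift the generators
  choose z₀ hz₀ using fun i => stalk_surjective_of_epi ξ (A.map S.g)
    (germ ξ (A.obj S.X₃) W₀ w₀ (resM g₀' s' (m i)))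
  obtain ⟨W₁, g₁, w₁, e₀, hw₁, he₀⟩ := exists_common_rep ξ (F := A.obj S.X₂) W₀ w₀ z₀
  have heg : ∀ i, germ ξ (A.obj S.X₃) W₁ w₁ ((S.g.hom.app (op W₁)).hom (e₀ i)) =
      germ ξ (A.obj S.X₃) W₁ w₁ (resM g₁ (resM g₀' s') (m i)) := fun i => by
    refine (germ_map ξ (A.map S.g) W₁ w₁ (e₀ i)).symm.trans ?_
    rw [he₀, hz₀]
    exact ((germ_res ξ (A.obj S.X₃) g₁ w₁ (resM g₀' s' (m i))).trans (by rw [hw₁])).symm
  obtain ⟨W₂, g₂, w₂, -, he₂⟩ := exists_common_eq ξ (F := A.obj S.X₃) W₁ w₁ _ _ heg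
  -- the lifts on `W₂`
  let σ : Fin k → EtModW.sect Λ S.X₂ W₂ := fun i => (S.X₂.obj.map g₂.op).hom (e₀ i)
  let L : (Fin k → Λ) →ₗ[Λ] EtModW.sect Λ S.X₂ W₂ := Fintype.linearCombination Λ σ
  let T := resM g₂ (resM g₁ (resM g₀' s'))
  have hgL : (S.g.hom.app (op W₂)).hom.comp L = T.comp q := by
    refine LinearMap.pi_ext' fun i => LinearMap.ext_ring ?_
    simp only [LinearMap.comp_apply, LinearMap.single_apply, L, q, Fintype.linearCombination_apply_single,
      one_smul]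
    exact (ConcreteCategory.congr_hom (S.g.hom.naturality g₂.op) (e₀ i)).trans (he₂ i)
  -- relations
  obtain ⟨hfinj, hfker⟩ := exists_kernel_liftM hS.exact W₂
  choose τ hτ using fun j => hfker (L (κ j).1) (by
    change ((S.g.hom.app (op W₂)).hom.comp L) (κ j).1 = 0
    rw [hgL, LinearMap.comp_apply, LinearMap.mem_ker.1 (κ j).2, map_zero])
  choose μ hμ using fun j => (((hs.res g₀).res g₁).res g₂ _ _ _ ξ w₂).2 (germ ξ (A.obj S.X₁) W₂ w₂ (τ j))
  obtain ⟨W₃, g₃, w₃, -, he₃⟩ := exists_common_eq ξ (F := A.obj S.X₁) W₂ w₂ τ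
    (fun j => resM g₂ (resM g₁ (resM g₀ s)) (μ j)) (fun j => (hμ j).symm)
  let s₁ := resM g₃ (resM g₂ (resM g₁ (resM g₀ s)))
  let s₃ := resM g₃ T
  let L₃ := resM g₃ L
  have hs₁ : StalkBijM S.X₁ W₃ s₁ := (((hs.res g₀).res g₁).res g₂).res g₃
  have hs₃ : StalkBijM S.X₃ W₃ s₃ := (((hs'.res g₀').res g₁).res g₂).res g₃
  obtain ⟨hfinj₃, -⟩ := exists_kernel_liftM hS.exact W₃
  let f₁ := (S.f.hom.app (op W₃)).hom.comp s₁
  have hf₁ : Function.Injective f₁ := hfinj₃.comp (hs₁.injective (fiberPoint ξ w₃))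
  have hgL₃ : ∀ v, (S.g.hom.app (op W₃)).hom (L₃ v) = s₃ (q v) := fun v => by
    refine (ConcreteCategory.congr_hom (S.g.hom.naturality g₃.op) (L v)).trans ?_
    exact congrArg (S.X₃.obj.map g₃.op).hom (LinearMap.congr_fun hgL v)
  have hrel : ∀ v : LinearMap.ker q, L₃ v.1 ∈ LinearMap.range f₁ := by
    have : Submodule.span Λ (Set.range κ) ≤
        (LinearMap.range f₁).comap (L₃.comp (LinearMap.ker q).subtype) := by
      rw [Submodule.span_le]
      rintro _ ⟨j, rfl⟩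
      refine ⟨μ j, ?_⟩
      refine (congrArg (S.f.hom.app (op W₃)).hom (he₃ j).symm).trans ?_
      refine (ConcreteCategory.congr_hom (S.f.hom.naturality g₃.op) (τ j)).trans ?_
      exact congrArg (S.X₂.obj.map g₃.op).hom (hτ j)
    exact fun v => this (hκ.symm ▸ Submodule.mem_top)
  let c : LinearMap.ker q →ₗ[Λ] M := (LinearEquiv.ofInjective f₁ hf₁).symm.toLinearMap.comp
    ((L₃.comp (LinearMap.ker q).subtype).codRestrict (LinearMap.range f₁) hrel)
  have hc : ∀ v, f₁ (c v) = L₃ v.1 := fun v => congrArg Subtype.val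
    ((LinearEquiv.ofInjective f₁ hf₁).apply_symm_apply
      ((L₃.comp (LinearMap.ker q).subtype).codRestrict (LinearMap.range f₁) hrel v))
  -- the extension of the values
  let R : Submodule Λ (M × (Fin k → Λ)) := LinearMap.range ((-c).prod (LinearMap.ker q).subtype)
  let s₂ : M × (Fin k → Λ) →ₗ[Λ] EtModW.sect Λ S.X₂ W₃ := f₁.coprod L₃
  have hR : R ≤ LinearMap.ker s₂ := by
    rintro _ ⟨v, rfl⟩
    rw [LinearMap.mem_ker]
    change f₁ (-(c v)) + L₃ v.1 = 0
    rw [map_neg, hc, neg_add_cancel]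
  refine ⟨W₃, ⟨_, (hom_fiberPoint ξ w₃).trans (geomPoint_apply _ _)⟩, _ ⧸ R, inferInstance,
    inferInstance, inferInstance, R.liftQ s₂ hR, fun Ω' _ _ ξ' t₃ => ?_⟩
  let gA := (germ ξ' (A.obj S.X₂) W₃ t₃).hom
  have hgerm : ∀ p : M × (Fin k → Λ), (EtCoh.stalk ξ').map (A.map S.g) (gA (s₂ p)) =
      germ ξ' (A.obj S.X₃) W₃ t₃ (s₃ (q p.2)) := fun p => by
    refine (germ_map ξ' (A.map S.g) W₃ t₃ (s₂ p)).trans (congrArg _ ?_)
    change (S.g.hom.app (op W₃)).hom (f₁ p.1 + L₃ p.2) = _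
    rw [map_add, hgL₃]
    refine add_eq_right.2 ?_
    exact ConcreteCategory.congr_hom (congrArg (fun m => m.hom.app (op W₃)) S.zero) (s₁ p.1)
  have hf : ∀ a : M, gA (f₁ a) = (EtCoh.stalk ξ').map (A.map S.f) (germ ξ' (A.obj S.X₁) W₃ t₃ (s₁ a)) :=
    fun a => (germ_map ξ' (A.map S.f) W₃ t₃ (s₁ a)).symm
  have hex := (ShortComplex.ab_exact_iff _).1 (stalk_exact_toAb hS.exact ξ')
  have hzero : ∀ p : M × (Fin k → Λ), gA (s₂ p) = 0 → p ∈ R := by
    intro p hp
    have h0 : q p.2 = 0 := (hs₃ _ _ _ ξ' t₃).1 (by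
      change germ ξ' (A.obj S.X₃) W₃ t₃ (s₃ (q p.2)) = germ ξ' (A.obj S.X₃) W₃ t₃ (s₃ 0)
      refine (hgerm p).symm.trans ?_
      rw [hp, map_zero, map_zero]
      exact (map_zero _).symm)
    let v : LinearMap.ker q := ⟨p.2, h0⟩
    have : Mono (A.map S.f) := inferInstance
    have h1 : p.1 + c v = 0 := (hs₁ _ _ _ ξ' t₃).1 (mono_stalk_injective ξ' (A.map S.f) (by
      refine (hf _).symm.trans (Eq.trans ?_ (hf 0))
      rw [map_add, hc, map_zero]
      exact hp.trans (map_zero _).symm))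
    exact ⟨v, Prod.ext (eq_neg_of_add_eq_zero_left h1).symm rfl⟩
  refine ⟨fun a b e => ?_, fun z => ?_⟩
  · obtain ⟨p, rfl⟩ := Submodule.Quotient.mk_surjective _ a
    obtain ⟨p', rfl⟩ := Submodule.Quotient.mk_surjective _ b
    refine (Submodule.Quotient.eq _).2 (hzero _ ?_)
    rw [map_sub]
    exact (map_sub gA _ _).trans (sub_eq_zero.2 e)
  · obtain ⟨n, hn⟩ := (hs₃ _ _ _ ξ' t₃).2 ((EtCoh.stalk ξ').map (A.map S.g) z)
    obtain ⟨v, rfl⟩ := hq n
    obtain ⟨a', ha'⟩ := hex (z - gA (s₂ (0, v))) (by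
      refine (map_sub _ _ _).trans (sub_eq_zero.2 ?_)
      exact hn.symm.trans (hgerm (0, v)).symm)
    obtain ⟨a, rfl⟩ := (hs₁ _ _ _ ξ' t₃).2 a'
    refine ⟨Submodule.Quotient.mk (a, v), ?_⟩
    change gA (s₂ (a, v)) = z
    have h4 : gA (s₂ (a, v)) = gA (f₁ a) + gA (s₂ (0, v)) := by
      rw [← map_add]
      refine congrArg gA ?_
      change f₁ a + L₃ v = f₁ a + (f₁ 0 + L₃ v)
      rw [map_zero, zero_add]
    rw [h4, hf, sub_eq_iff_eq_add.1 ha'.symm]
    rfl

/-- Pulled back linear trivializations. -/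
theorem isFT_pull {Y : Scheme.{u}} (f : X ⟶ Y) {F : EtModW.Mod Λ Y} (hF : EtModW.IsFTLocConst Λ F) :
    EtModW.IsFTLocConst Λ ((EtModW.pull Λ f).obj F) := by
  rw [isFT_iff]
  intro x
  obtain ⟨U, hU, M, _, _, hM, s, hs⟩ := isFT_iff.1 hF (f.base x)
  let s' : M →ₗ[Λ] EtModW.sect Λ ((EtModW.pull Λ f).obj F) ((EtCoh.bc f).obj U) :=
    (((FixPt.pullPushAdj (Λ := Λ) f).unit.app F).hom.app (op U)).hom.comp s
  refine ⟨_, exists_bc_point f U x hU, M, _, _, hM, s', ?_⟩
  have := isIso_cmpPull Λ f F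
  have h := StalkBij.of_iso (stalkBij_pull f _ hs) (asIso ((cmpPull Λ f).app F))
  intro Ω _ _ ξ t
  refine (congrArg Function.Bijective (funext fun a => congrArg
    (germ ξ ((toAb Λ X).obj ((EtModW.pull Λ f).obj F)) ((EtCoh.bc f).obj U) t) ?_)).mp (h Ω _ _ ξ t)
  exact (ConcreteCategory.congr_hom
    (congrArg (fun m => m.hom.app (op U)) (unit_cmpPull Λ f F)) (s a))

/-- The two sides of a local trivialization of a map. -/
theorem exists_local_linearMap (hF : EtModW.IsFTLocConst Λ F) (hG : EtModW.IsFTLocConst Λ G) :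
    ∃ (ι : Type u) (U : ι → X.Etale), EtCoh.Covers U ∧ ∀ i, ∃ (M N : Type (u + 1)) (_ : AddCommGroup M) (_ : AddCommGroup N)
      (_ : Module Λ M) (_ : Module Λ N) (h : M →ₗ[Λ] N)
      (α : EtModW.restr Λ F (U i) ≅ (constantSheaf (X.smallEtaleTopology.over (U i)) (ModuleCat.{u + 1} Λ)).obj (ModuleCat.of Λ M))
      (β : EtModW.restr Λ G (U i) ≅ (constantSheaf (X.smallEtaleTopology.over (U i)) (ModuleCat.{u + 1} Λ)).obj (ModuleCat.of Λ N)),
      (X.smallEtaleTopology.overPullback (ModuleCat.{u + 1} Λ) (U i)).map φ ≫ β.hom =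
        α.hom ≫ (constantSheaf (X.smallEtaleTopology.over (U i)) (ModuleCat.{u + 1} Λ)).map (ModuleCat.ofHom h) := by
  choose U' hU' N hN hN' hNf s' hs' using isFT_iff.1 hG
  choose W hW g M hM hM' hMf s h hs hh using fun x =>
    exists_pairTrivM φ hF x (U' x) (hU' x) (s' x) (hs' x)
  refine ⟨X, W, fun x => ⟨x, hW x⟩, fun x => ⟨M x, N x, hM x, hN x, hM' x, hN' x, h x, ?_⟩⟩
  have := isIso_fromConstM (hs x)
  have := isIso_fromConstM ((hs' x).res (g x))
  refine ⟨(asIso (fromConstM F (W x) (s x))).symm, (asIso (fromConstM G (W x) (resM (g x) (s' x)))).symm, ?_⟩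
  rw [Iso.symm_hom, Iso.symm_hom, asIso_inv, asIso_inv, IsIso.comp_inv_eq, Category.assoc,
    IsIso.eq_inv_comp, fromConstM, fromConstM]
  refine ((Adjunction.homEquiv_naturality_right_symm _ _ _).symm.trans (Eq.trans ?_
    (Adjunction.homEquiv_naturality_left_symm _ _ _)))
  congr 1
  ext Y a
  refine ((ConcreteCategory.congr_hom (φ.hom.naturality Y.unop.hom.op) (s x a))).trans ?_
  exact congrArg (G.obj.map Y.unop.hom.op).hom (hh x a)

end Groth.EtaleDeep.Cons
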