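import Groth.Agent.EtaleDeep.Cons.Strata
import Groth.Agent.EtaleDeep.Cons.LocConstMod
import Groth.Agent.KTheory.PullModExact
import Groth.Prelude.Def_FixPt

/-!
# Constructible sheaves of modules
-/

set_option autoImplicit false
set_option backward.isDefEq.respectTransparency.types false
set_option linter.style.haveILetI false

universe u

open CategoryTheory CategoryTheory.Limits AlgebraicGeometry Opposite

namespace Groth.EtaleDeep.Cons

variable {Λ : Type (u + 1)} [CommRing Λ] {X Y : Scheme.{u}}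

/-- The property of schemes over `X` on which `F` becomes locally constant of finite type. -/
def FTOn (F : EtModW.Mod Λ X) : ∀ ⦃T : Scheme.{u}⦄, (T ⟶ X) → Prop :=
  fun _ g => EtModW.IsFTLocConst Λ ((EtModW.pull Λ g).obj F)

theorem stable_FTOn (F : EtModW.Mod Λ X) : Stable (FTOn F) :=
  fun _ _ h g hg => isFT_of_iso ((FixPt.pullComp (Λ := Λ) h g).app F).symm (isFT_pull h hg)

theorem isConstructibleMod_iff (F : EtModW.Mod Λ X) :
    EtModW.IsConstructible Λ F ↔ IsCons (FTOn F) :=
  Iff.rfl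

theorem ftOn_pull_iff (f : X ⟶ Y) (F : EtModW.Mod Λ Y) ⦃T : Scheme.{u}⦄ (g : T ⟶ X) :
    FTOn ((EtModW.pull Λ f).obj F) g ↔ FTOn F (g ≫ f) :=
  ⟨fun h => isFT_of_iso ((FixPt.pullComp (Λ := Λ) g f).app F).symm h,
    fun h => isFT_of_iso ((FixPt.pullComp (Λ := Λ) g f).app F) h⟩

theorem isConstructibleMod_pull (f : X ⟶ Y) {F : EtModW.Mod Λ Y} (hF : EtModW.IsConstructible Λ F) :
    EtModW.IsConstructible Λ ((EtModW.pull Λ f).obj F) :=
  (isConstructibleMod_iff _).2 <| (IsCons.comp (stable_FTOn F) f ((isConstructibleMod_iff _).1 hF)).mono fun _ g hg => (ftOn_pull_iff f F g).2 hg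

theorem isConstructibleMod_iff_adapted_univ [CompactSpace X] [QuasiSeparatedSpace X]
    (F : EtModW.Mod Λ X) :
    EtModW.IsConstructible Λ F ↔ EtModW.AdaptedStrata Λ F (Set.univ : Set X) :=
  isCons_iff_adapted_univ (stable_FTOn F)

theorem isConstructibleMod_of_openCover (F : EtModW.Mod Λ X) {ι : Type*} (U : ι → X.Opens)
    (hU : ⨆ i, U i = ⊤) (h : ∀ i, EtModW.IsConstructible Λ ((EtModW.pull Λ (U i).ι).obj F)) :
    EtModW.IsConstructible Λ F :=
  (isConstructibleMod_iff _).2 <| isCons_of_openCover (stable_FTOn F) U hU fun i =>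
    IsCons.mono ((isConstructibleMod_iff _).1 (h i)) fun _ g hg => (ftOn_pull_iff (U i).ι F g).1 hg

theorem isConstructibleMod_of_immersions [CompactSpace X] [QuasiSeparatedSpace X] (F : EtModW.Mod Λ X)
    {ι : Type*} (T : ι → Scheme.{u}) (g : ∀ i, T i ⟶ X) [∀ i, IsImmersion (g i)]
    (hc : ∀ i, Topology.IsConstructible (Set.range (g i))) (hcov : (⋃ i, Set.range (g i)) = Set.univ)
    (h : ∀ i, EtModW.IsConstructible Λ ((EtModW.pull Λ (g i)).obj F)) : EtModW.IsConstructible Λ F :=
  (isConstructibleMod_iff _).2 <| isCons_of_immersions (stable_FTOn F) T g hc hcov fun i =>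
    IsCons.mono ((isConstructibleMod_iff _).1 (h i)) fun _ k hk => (ftOn_pull_iff (g i) F k).1 hk

theorem isConstructibleMod_of_iso {F G : EtModW.Mod Λ X} (e : F ≅ G)
    (hF : EtModW.IsConstructible Λ F) : EtModW.IsConstructible Λ G :=
  (isConstructibleMod_iff _).2 <| IsCons.mono ((isConstructibleMod_iff _).1 hF) fun _ g hg => isFT_of_iso ((EtModW.pull Λ g).mapIso e) hg

variable [IsNoetherianRing Λ]

theorem isConstructibleMod_kernel {F G : EtModW.Mod Λ X} (φ : F ⟶ G)
    (hF : EtModW.IsConstructible Λ F) (hG : EtModW.IsConstructible Λ G) :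
    EtModW.IsConstructible Λ (kernel φ) :=
  (isConstructibleMod_iff _).2 <| (IsCons.inter (stable_FTOn F) (stable_FTOn G) ((isConstructibleMod_iff _).1 hF) ((isConstructibleMod_iff _).1 hG)).mono fun _ g hg => by
    have := Groth.PullModExact.preservesFiniteLimits_pull Λ g
    exact isFT_of_iso (PreservesKernel.iso (EtModW.pull Λ g) φ).symm (isFT_kernel _ hg.1 hg.2)

omit [IsNoetherianRing Λ] in
theorem isConstructibleMod_cokernel {F G : EtModW.Mod Λ X} (φ : F ⟶ G)
    (hF : EtModW.IsConstructible Λ F) (hG : EtModW.IsConstructible Λ G) :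
    EtModW.IsConstructible Λ (cokernel φ) :=
  (isConstructibleMod_iff _).2 <| (IsCons.inter (stable_FTOn F) (stable_FTOn G) ((isConstructibleMod_iff _).1 hF) ((isConstructibleMod_iff _).1 hG)).mono fun _ g hg =>
    isFT_of_iso (PreservesCokernel.iso (EtModW.pull Λ g) φ).symm (isFT_cokernel _ hg.1 hg.2)

theorem isConstructibleMod_extension {S : ShortComplex (EtModW.Mod Λ X)} (hS : S.ShortExact)
    (h1 : EtModW.IsConstructible Λ S.X₁) (h3 : EtModW.IsConstructible Λ S.X₃) :
    EtModW.IsConstructible Λ S.X₂ :=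
  (isConstructibleMod_iff _).2 <| (IsCons.inter (stable_FTOn S.X₁) (stable_FTOn S.X₃) ((isConstructibleMod_iff _).1 h1) ((isConstructibleMod_iff _).1 h3)).mono fun _ g hg => by
    have := Groth.PullModExact.preservesFiniteLimits_pull Λ g
    exact isFT_extension (S := S.map (EtModW.pull Λ g)) (hS.map_of_exact (EtModW.pull Λ g)) hg.1 hg.2

end Groth.EtaleDeep.Cons
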