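import Groth.Agent.EtaleDeep.Cons.Specialize
import Mathlib.AlgebraicGeometry.Noetherian

/-!
# Local constancy through specialization maps
-/

set_option autoImplicit false
set_option backward.isDefEq.respectTransparency.types false
set_option linter.style.haveILetI false

universe u

open CategoryTheory CategoryTheory.Limits AlgebraicGeometry Opposite

namespace Groth.EtaleDeep.Cons

open Groth.EtaleBase Groth.EtaleBase.LocConst Groth.EtaleBase.SitePt

variable {X : Scheme.{u}} {Ω : Type u} [Field Ω] [IsSepClosed Ω] {Ω' : Type u} [Field Ω'] [IsSepClosed Ω']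
  {η : Spec (CommRingCat.of Ω) ⟶ X} {ξ : Spec (CommRingCat.of Ω') ⟶ X}

/-- Maps of geometric points may be chosen through a prescribed pair of lifts. -/
theorem exists_pointHom_fiber (W : X.Etale) (t : (Scheme.pointSmallEtale η).fiber.obj W)
    (w : (Scheme.pointSmallEtale ξ).fiber.obj W) (h : fiberPoint η t ⤳ fiberPoint ξ w) :
    ∃ φ : Scheme.pointSmallEtale η ⟶ Scheme.pointSmallEtale ξ, φ.hom.app W w = t := by
  let ξ' : Spec (CommRingCat.of Ω') ⟶ W.left := w.left
  let η' : Spec (CommRingCat.of Ω) ⟶ W.left := t.left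
  have hξ : ξ' ≫ W.hom = ξ := Over.w w
  have hη : η' ≫ W.hom = η := Over.w t
  obtain ⟨ψ⟩ := nonempty_pointHom η' ξ' h
  refine ⟨⟨{ app := fun V => TypeCat.ofHom fun x => Over.homMk
              ((ψ.hom.app ((EtCoh.bc W.hom).obj V) (pushLift W.hom ξ' hξ V x)).left ≫ pullback.fst V.hom W.hom)
              (by
                have := Over.w (ψ.hom.app ((EtCoh.bc W.hom).obj V) (pushLift W.hom ξ' hξ V x))
                refine Eq.trans ?_ hη
                exact (Category.assoc _ _ _).trans ((congrArg (_ ≫ ·) pullback.condition).trans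
                  ((Category.assoc _ _ _).symm.trans (congrArg (· ≫ W.hom) this))))
             naturality := fun V V' g => ?_ }⟩, ?_⟩
  · ext x
    refine fiber_ext η ?_
    have h1 : ψ.hom.app ((EtCoh.bc W.hom).obj V') (pushLift W.hom ξ' hξ V' ((Scheme.pointSmallEtale ξ).fiber.map g x)) =
        (Scheme.pointSmallEtale η').fiber.map ((EtCoh.bc W.hom).map g)
          (ψ.hom.app ((EtCoh.bc W.hom).obj V) (pushLift W.hom ξ' hξ V x)) := by
      rw [← pushLift_map W.hom ξ' hξ g x]
      exact NatTrans.naturality_apply ψ.hom _ _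
    show (ψ.hom.app ((EtCoh.bc W.hom).obj V') (pushLift W.hom ξ' hξ V'
      ((Scheme.pointSmallEtale ξ).fiber.map g x))).left ≫ pullback.fst V'.hom W.hom =
      ((ψ.hom.app ((EtCoh.bc W.hom).obj V) (pushLift W.hom ξ' hξ V x)).left ≫ pullback.fst V.hom W.hom) ≫ g.left
    rw [h1]
    exact (Category.assoc _ _ _).trans ((congrArg (_ ≫ ·) (pullback.lift_fst _ _ _)).trans
      (Category.assoc _ _ _).symm)
  · refine fiber_ext η ?_
    let Δ : EtCoh.top W.left ⟶ (EtCoh.bc W.hom).obj W := MorphismProperty.Over.homMk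
      (pullback.lift (𝟙 _) (𝟙 _) rfl) (pullback.lift_snd _ _ _)
    let T₀ : (Scheme.pointSmallEtale ξ').fiber.obj (EtCoh.top W.left) := Over.homMk ξ' (Category.comp_id _)
    have h0 : pushLift W.hom ξ' hξ W w = (Scheme.pointSmallEtale ξ').fiber.map Δ T₀ := fiber_ext ξ' (by
      show pullback.lift w.left ξ' _ = ξ' ≫ pullback.lift (𝟙 _) (𝟙 _) rfl
      apply pullback.hom_ext
      · exact (pullback.lift_fst _ _ _).trans ((Category.assoc _ _ _).trans
          ((congrArg (_ ≫ ·) (pullback.lift_fst _ _ _)).trans (Category.comp_id _))).symm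
      · exact (pullback.lift_snd _ _ _).trans ((Category.assoc _ _ _).trans
          ((congrArg (_ ≫ ·) (pullback.lift_snd _ _ _)).trans (Category.comp_id _))).symm)
    have h1 : (ψ.hom.app (EtCoh.top W.left) T₀).left = η' :=
      (Category.comp_id _).symm.trans (Over.w (ψ.hom.app (EtCoh.top W.left) T₀))
    show (ψ.hom.app ((EtCoh.bc W.hom).obj W) (pushLift W.hom ξ' hξ W w)).left ≫
      pullback.fst W.hom W.hom = t.left
    rw [h0, NatTrans.naturality_apply ψ.hom Δ T₀]
    exact (Category.assoc _ _ _).trans ((congrArg (_ ≫ ·) (pullback.lift_fst _ _ _)).trans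
      ((Category.comp_id _).trans h1))

variable {Λ : Type (u + 1)} [CommRing Λ]

/-- Germs are compatible with maps of geometric points. -/
theorem cospec_germ (F : EtModW.Mod Λ X) (φ : Scheme.pointSmallEtale η ⟶ Scheme.pointSmallEtale ξ)
    (U : X.Etale) (w : (Scheme.pointSmallEtale ξ).fiber.obj U) (σ : F.obj.obj (op U)) :
    ((cospec φ).app F).hom ((germM ξ F U w).hom σ) = (germM η F U (φ.hom.app U w)).hom σ := by
  have : HasColimitsOfSize.{u, u} (ModuleCat.{u + 1} Λ) :=
    hasColimitsOfSizeShrink.{u, u, u + 1, u + 1} _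
  exact congrArg (fun m => m.hom σ)
    ((Scheme.pointSmallEtale ξ).toPresheafFiber_presheafFiberDesc
      (P := F.obj) (fun V x => (Scheme.pointSmallEtale η).toPresheafFiber V (φ.hom.app V x) F.obj)
      (fun V V' f x => by
        rw [GrothendieckTopology.Point.toPresheafFiber_w, NatTrans.naturality_apply φ.hom f x]) U w)

/-- A trivialization at one lift over a Noetherian chart spreads along specializations. -/
theorem exists_stalkBijM_of_spec [IsLocallyNoetherian X] {F : EtModW.Mod Λ X}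
    (hspec : ∀ (Ω₁ : Type u) [Field Ω₁] [IsSepClosed Ω₁] (Ω₂ : Type u) [Field Ω₂] [IsSepClosed Ω₂]
      (η : Spec (CommRingCat.of Ω₁) ⟶ X) (ξ : Spec (CommRingCat.of Ω₂) ⟶ X) (W : X.Etale)
      (t : (Scheme.pointSmallEtale η).fiber.obj W) (w : (Scheme.pointSmallEtale ξ).fiber.obj W),
      fiberPoint η t ⤳ fiberPoint ξ w →
        ∃ φ : Scheme.pointSmallEtale η ⟶ Scheme.pointSmallEtale ξ,
          φ.hom.app W w = t ∧ IsIso ((cospec φ).app F))
    (W : X.Etale) (w : (Scheme.pointSmallEtale ξ).fiber.obj W) {M : Type (u + 1)} [AddCommGroup M]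
    [Module Λ M] (s : M →ₗ[Λ] EtModW.sect Λ F W)
    (hw : Function.Bijective fun a => (germM ξ F W w).hom (s a)) :
    ∃ (V : X.Etale) (g : V ⟶ W), (∃ v, g.left.base v = fiberPoint ξ w) ∧ StalkBijM F V (resM g s) := by
  have : AlgebraicGeometry.Etale W.hom := W.prop
  have : IsLocallyNoetherian W.left := @LocallyOfFiniteType.isLocallyNoetherian _ _ W.hom (inferInstance : LocallyOfFiniteType W.hom) ‹IsLocallyNoetherian X›
  -- bijectivity only depends on the generalization classes of the points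
  have key : ∀ {Ω₁ : Type u} [Field Ω₁] [IsSepClosed Ω₁] {Ω₂ : Type u} [Field Ω₂] [IsSepClosed Ω₂]
      {η₁ : Spec (CommRingCat.of Ω₁) ⟶ X} {ξ₁ : Spec (CommRingCat.of Ω₂) ⟶ X}
      (t₁ : (Scheme.pointSmallEtale η₁).fiber.obj W) (w₁ : (Scheme.pointSmallEtale ξ₁).fiber.obj W),
      fiberPoint η₁ t₁ ⤳ fiberPoint ξ₁ w₁ →
        (Function.Bijective (fun a => (germM η₁ F W t₁).hom (s a)) ↔
          Function.Bijective fun a => (germM ξ₁ F W w₁).hom (s a)) := by
    intro Ω₁ _ _ Ω₂ _ _ η₁ ξ₁ t₁ w₁ h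
    obtain ⟨φ, hφ, this⟩ := hspec _ _ _ _ W t₁ w₁ h
    have hb : Function.Bijective ((cospec (Λ := Λ) φ).app F).hom :=
      (ConcreteCategory.isIso_iff_bijective _).1 this
    rw [show (fun a => (germM η₁ F W t₁).hom (s a)) =
      ((cospec φ).app F).hom ∘ fun a => (germM ξ₁ F W w₁).hom (s a) from
        funext fun a => by rw [Function.comp_apply, cospec_germ, hφ]]
    exact hb.of_comp_iff' _
  let v : W.left → Prop := fun z => ∀ (Ω₁ : Type u) [Field Ω₁] [IsSepClosed Ω₁]
    (η₁ : Spec (CommRingCat.of Ω₁) ⟶ X) (t₁ : (Scheme.pointSmallEtale η₁).fiber.obj W),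
      fiberPoint η₁ t₁ = z → Function.Bijective fun a => (germM η₁ F W t₁).hom (s a)
  have hv : ∀ z z' : W.left, z ⤳ z' → (v z ↔ v z') := by
    intro z z' hzz
    constructor
    · intro hz Ω₁ _ _ η₁ t₁ ht
      obtain ⟨t₀, ht₀⟩ := exists_fiber_of_point (geomPoint (W.hom.base z)) W z (geomPoint_apply _ _).symm
      have ht₀' : fiberPoint (geomPoint (W.hom.base z)) t₀ = z := ht₀
      exact (key t₀ t₁ (by rw [ht₀', ht]; exact hzz)).1 (hz _ _ t₀ ht₀')
    · intro hz Ω₁ _ _ η₁ t₁ ht
      obtain ⟨t₀, ht₀⟩ := exists_fiber_of_point (geomPoint (W.hom.base z')) W z' (geomPoint_apply _ _).symm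
      have ht₀' : fiberPoint (geomPoint (W.hom.base z')) t₀ = z' := ht₀
      exact (key t₁ t₀ (by rw [ht₀', ht]; exact hzz)).2 (hz _ _ t₀ ht₀')
  have hw' : v (fiberPoint ξ w) := fun Ω₁ _ _ η₁ t₁ ht => (key t₁ w (by rw [ht])).2 hw
  obtain ⟨N, hN, hzN, -⟩ := exists_isAffineOpen_mem_and_subset (U := ⊤) (Set.mem_univ (fiberPoint ξ w))
  have : IsAffine (N : Scheme.{u}) := hN
  have : IsNoetherian (N : Scheme.{u}) := {}
  -- the good locus in the affine chart is open
  let S : Set (N : Scheme.{u}) := {z | v (N.ι.base z)}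
  have hS : IsOpen S := by
    rw [← isClosed_compl_iff]
    have hcl : Sᶜ = ⋃ Z ∈ {Z ∈ irreducibleComponents (N : Scheme.{u}) | Z ⊆ Sᶜ}, Z := by
      refine Set.Subset.antisymm (fun z hz => ?_) (Set.iUnion₂_subset fun Z hZ => hZ.2)
      have hg := (isIrreducible_irreducibleComponent (x := z)).isGenericPoint_genericPoint
        isClosed_irreducibleComponent
      refine Set.mem_biUnion ⟨irreducibleComponent_mem_irreducibleComponents z, fun t ht => ?_⟩
        mem_irreducibleComponent
      intro hvt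
      exact hz ((hv _ _ ((hg.specializes mem_irreducibleComponent).map N.ι.continuous)).1
        ((hv _ _ ((hg.specializes ht).map N.ι.continuous)).2 hvt))
    rw [hcl]
    exact (TopologicalSpace.NoetherianSpace.finite_irreducibleComponents.subset
      (Set.sep_subset _ _)).isClosed_biUnion fun Z hZ => isClosed_of_mem_irreducibleComponents Z hZ.1
  let O : W.left.Opens := ⟨N.ι.base '' S, N.ι.isOpenEmbedding.isOpenMap _ hS⟩
  refine ⟨openObj W O, openHom W O, ⟨⟨fiberPoint ξ w, ⟨fiberPoint ξ w, hzN⟩, hw', rfl⟩, rfl⟩,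
    fun Ω₁ _ _ η₁ t₁ => ?_⟩
  let t := (Scheme.pointSmallEtale η₁).fiber.map (openHom W O) t₁
  obtain ⟨z, hz, hze⟩ : fiberPoint η₁ t ∈ (O : Set W.left) := by
    rw [show fiberPoint η₁ t = O.ι.base (fiberPoint η₁ t₁) from fiberPoint_map η₁ (openHom W O) t₁]
    exact (fiberPoint η₁ t₁).2
  have hb := hz Ω₁ η₁ t hze.symm
  obtain ⟨e, he⟩ := exists_stalk_forget η₁ F
  have hfun : (fun a => e.hom (germ η₁ ((toAb Λ X).obj F) (openObj W O) t₁ (resM (openHom W O) s a))) =
      fun a => (germM η₁ F W t).hom (s a) := funext fun a => by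
    refine (he _ _ _).trans ?_
    exact (Scheme.pointSmallEtale η₁).toPresheafFiber_w_apply (openHom W O) t₁ F.obj (s a)
  exact (((ConcreteCategory.isIso_iff_bijective e.hom).1 inferInstance).of_comp_iff' _).1
    ((congrArg Function.Bijective hfun).mpr hb)

/-- A sheaf with finite stalks and bijective specialization maps is locally constant of finite type. -/
theorem isFT_of_specPairs [IsNoetherianRing Λ] [IsLocallyNoetherian X] {F : EtModW.Mod Λ X}
    (hfin : ∀ x : X, Module.Finite Λ ((EtModW.stalk Λ (geomPoint x)).obj F))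
    (hspec : ∀ (Ω₁ : Type u) [Field Ω₁] [IsSepClosed Ω₁] (Ω₂ : Type u) [Field Ω₂] [IsSepClosed Ω₂]
      (η : Spec (CommRingCat.of Ω₁) ⟶ X) (ξ : Spec (CommRingCat.of Ω₂) ⟶ X) (W : X.Etale)
      (t : (Scheme.pointSmallEtale η).fiber.obj W) (w : (Scheme.pointSmallEtale ξ).fiber.obj W),
      fiberPoint η t ⤳ fiberPoint ξ w →
        ∃ φ : Scheme.pointSmallEtale η ⟶ Scheme.pointSmallEtale ξ,
          φ.hom.app W w = t ∧ IsIso ((cospec φ).app F)) :
    EtModW.IsFTLocConst Λ F := by
  rw [isFT_iff]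
  intro x
  let ξ := geomPoint x
  let A := (toAb Λ X).obj F
  obtain ⟨e, he⟩ := exists_stalk_forget ξ F
  have heb : Function.Bijective e.hom := (ConcreteCategory.isIso_iff_bijective e.hom).1 inferInstance
  obtain ⟨k, m, hm⟩ := (hfin x).exists_fin
  obtain ⟨t₀, -⟩ := exists_fiber_of_point ξ (EtCoh.top X) x (geomPoint_apply _ _).symm
  obtain ⟨W, g, w, σ, -, hσ⟩ := exists_common_rep ξ (F := A) (EtCoh.top X) t₀ (fun i => e.inv (m i))
  let L : (Fin k → Λ) →ₗ[Λ] EtModW.sect Λ F W := Fintype.linearCombination Λ σ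
  let q : (Fin k → Λ) →ₗ[Λ] (EtModW.stalk Λ ξ).obj F := (germM ξ F W w).hom.comp L
  have hq : Function.Surjective q := by
    rw [← LinearMap.range_eq_top, LinearMap.range_comp, Fintype.range_linearCombination,
      Submodule.map_span, ← Set.range_comp, ← hm]
    congr 2
    funext i
    refine (he W w (σ i)).symm.trans ?_
    rw [hσ i]
    exact e.inv_hom_id_apply (m i)
  obtain ⟨r, κ, hκ⟩ := Module.Finite.exists_fin (R := Λ) (M := LinearMap.ker q)
  have hzero : ∀ j, germ ξ A W w (L (κ j).1) = germ ξ A W w 0 := fun j => heb.1 (by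
    refine (he W w (L (κ j).1)).trans (Eq.trans ?_ (he W w 0).symm)
    exact (LinearMap.mem_ker.1 (κ j).2).trans (map_zero _).symm)
  obtain ⟨W', g', w', hw', he'⟩ := exists_common_eq ξ (F := A) W w _ _ hzero
  let L' := resM g' L
  have hker : LinearMap.ker q ≤ LinearMap.ker L' := by
    intro v hv
    have : Submodule.span Λ (Set.range κ) ≤ (LinearMap.ker L').comap (LinearMap.ker q).subtype := by
      rw [Submodule.span_le]
      rintro _ ⟨j, rfl⟩
      exact (he' j).trans (map_zero _)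
    exact this (hκ.symm ▸ Submodule.mem_top : (⟨v, hv⟩ : LinearMap.ker q) ∈ _)
  let s : ((Fin k → Λ) ⧸ LinearMap.ker q) →ₗ[Λ] EtModW.sect Λ F W' := (LinearMap.ker q).liftQ L' hker
  have hs : Function.Bijective fun a => (germM ξ F W' w').hom (s a) := by
    have : (fun a => (germM ξ F W' w').hom (s a)) = q.quotKerEquivOfSurjective hq := funext fun a => by
      obtain ⟨b, rfl⟩ := Submodule.Quotient.mk_surjective _ a
      refine ((Scheme.pointSmallEtale ξ).toPresheafFiber_w_apply g' w' F.obj (L b)).trans ?_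
      rw [hw']
      rfl
    rw [this]
    exact (q.quotKerEquivOfSurjective hq).bijective
  obtain ⟨V, gV, ⟨v, hv⟩, hV⟩ := exists_stalkBijM_of_spec hspec W' w' s hs
  refine ⟨V, ⟨v, ?_⟩, _, inferInstance, inferInstance, inferInstance, resM gV s, hV⟩
  refine (congrArg (fun h : V.left ⟶ X => h.base v) (Over.w gV.hom)).symm.trans ?_
  exact (congrArg (fun z => W'.hom.base z) hv).trans ((hom_fiberPoint ξ w').trans (geomPoint_apply _ _))

/-- A sheaf with finite stalks and bijective specialization maps is locally constant of finite type. -/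
theorem isFT_of_spec [IsNoetherianRing Λ] [IsLocallyNoetherian X] {F : EtModW.Mod Λ X}
    (hfin : ∀ x : X, Module.Finite Λ ((EtModW.stalk Λ (geomPoint x)).obj F))
    (hspec : ∀ (Ω₁ : Type u) [Field Ω₁] [IsSepClosed Ω₁] (Ω₂ : Type u) [Field Ω₂] [IsSepClosed Ω₂]
      (η : Spec (CommRingCat.of Ω₁) ⟶ X) (ξ : Spec (CommRingCat.of Ω₂) ⟶ X)
      (φ : Scheme.pointSmallEtale η ⟶ Scheme.pointSmallEtale ξ), IsIso ((cospec φ).app F)) :
    EtModW.IsFTLocConst Λ F := by
  refine isFT_of_specPairs hfin fun Ω₁ _ _ Ω₂ _ _ η ξ W t w h => ?_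
  obtain ⟨φ, hφ⟩ := exists_pointHom_fiber W t w h
  exact ⟨φ, hφ, hspec _ _ _ _ φ⟩

end Groth.EtaleDeep.Cons
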