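import Groth.Agent.EtaleDeep.Cons.SpecCriterion
import Groth.Agent.EtaleDeep.Cons.PullMod

/-!
# Specialization maps and inverse images
-/

set_option autoImplicit false
set_option backward.isDefEq.respectTransparency.types false
set_option linter.style.haveILetI false

universe u

open CategoryTheory CategoryTheory.Limits AlgebraicGeometry Opposite

namespace Groth.EtaleDeep.Cons

open Groth.EtaleBase Groth.EtaleBase.LocConst Groth.EtaleBase.SitePt

variable {X Y : Scheme.{u}} (f : X ⟶ Y) {Ω : Type u} [Field Ω] [IsSepClosed Ω] {Ω' : Type u} [Field Ω']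
  [IsSepClosed Ω'] {η : Spec (CommRingCat.of Ω) ⟶ X} {ξ : Spec (CommRingCat.of Ω') ⟶ X}

/-- The image of a map of geometric points. -/
noncomputable def mapPointHom (ψ : Scheme.pointSmallEtale η ⟶ Scheme.pointSmallEtale ξ) :
    Scheme.pointSmallEtale (η ≫ f) ⟶ Scheme.pointSmallEtale (ξ ≫ f) :=
  ⟨{ app := fun V => TypeCat.ofHom fun x =>
      bcFiberEquiv f η V (ψ.hom.app ((EtCoh.bc f).obj V) (pushLift f ξ rfl V x))
     naturality := fun V V' g => by
      ext x
      refine fiber_ext (η ≫ f) ?_
      have h1 : ψ.hom.app ((EtCoh.bc f).obj V') (pushLift f ξ rfl V' ((Scheme.pointSmallEtale (ξ ≫ f)).fiber.map g x)) =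
          (Scheme.pointSmallEtale η).fiber.map ((EtCoh.bc f).map g)
            (ψ.hom.app ((EtCoh.bc f).obj V) (pushLift f ξ rfl V x)) := by
        rw [← pushLift_map f ξ rfl g x]
        exact NatTrans.naturality_apply ψ.hom _ _
      show (ψ.hom.app ((EtCoh.bc f).obj V')
          (pushLift f ξ rfl V' ((Scheme.pointSmallEtale (ξ ≫ f)).fiber.map g x))).left ≫ pullback.fst V'.hom f =
        ((ψ.hom.app ((EtCoh.bc f).obj V) (pushLift f ξ rfl V x)).left ≫ pullback.fst V.hom f) ≫ g.left
      rw [h1]
      exact (Category.assoc _ _ _).trans ((congrArg (_ ≫ ·) (pullback.lift_fst _ _ _)).trans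
        (Category.assoc _ _ _).symm) }⟩

/-- Specialization maps of abelian stalks and of module stalks. -/
theorem cospec_bijective_iff {Λ : Type (u + 1)} [CommRing Λ] (F : EtModW.Mod Λ X)
    (φ : Scheme.pointSmallEtale η ⟶ Scheme.pointSmallEtale ξ) :
    IsIso ((cospec φ).app F) ↔
      Function.Bijective ((GrothendieckTopology.Point.Hom.sheafFiber (A := AddCommGrpCat.{u + 1}) φ).app ((toAb Λ X).obj F)) := by
  obtain ⟨e, he⟩ := exists_stalk_forget ξ F
  obtain ⟨e', he'⟩ := exists_stalk_forget η F
  let c := (GrothendieckTopology.Point.Hom.sheafFiber (A := AddCommGrpCat.{u + 1}) φ).app ((toAb Λ X).obj F)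
  have hb : Function.Bijective e.hom := (ConcreteCategory.isIso_iff_bijective e.hom).1 inferInstance
  have hb' : Function.Bijective e'.hom := (ConcreteCategory.isIso_iff_bijective e'.hom).1 inferInstance
  have h : ((cospec φ).app F).hom ∘ e.hom = e'.hom ∘ c := funext fun a => by
    obtain ⟨U, t, σ, rfl⟩ := germ_surjective ξ ((toAb Λ X).obj F) a
    simp only [Function.comp_apply]
    rw [he, cospec_germ, ← he' U]
    refine congrArg e'.hom ?_
    exact (ConcreteCategory.congr_hom
      ((Scheme.pointSmallEtale ξ).toPresheafFiber_presheafFiberDesc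
        (P := ((toAb Λ X).obj F).obj)
        (fun V x => (Scheme.pointSmallEtale η).toPresheafFiber V (φ.hom.app V x) ((toAb Λ X).obj F).obj)
        (fun V V' f x => by
          rw [GrothendieckTopology.Point.toPresheafFiber_w, NatTrans.naturality_apply φ.hom f x]) U t) σ).symm
  rw [ConcreteCategory.isIso_iff_bijective]
  exact (Function.Bijective.of_comp_iff _ hb).symm.trans
    ((congrArg Function.Bijective h).to_iff.trans (hb'.of_comp_iff' _))

set_option maxHeartbeats 400000 in
/-- Specialization maps of inverse images. -/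
theorem bijective_map_pointHom_iff (F : EtCoh.Ab Y)
    (ψ : Scheme.pointSmallEtale η ⟶ Scheme.pointSmallEtale ξ) :
    Function.Bijective ((GrothendieckTopology.Point.Hom.sheafFiber (A := AddCommGrpCat.{u + 1}) ψ).app ((EtCoh.pull f).obj F)) ↔
      Function.Bijective ((GrothendieckTopology.Point.Hom.sheafFiber (A := AddCommGrpCat.{u + 1}) (mapPointHom f ψ)).app F) := by
  let a := (stalkPullIso f ξ).hom.app F
  let b := (stalkPullIso f η).hom.app F
  have ha : Function.Bijective a := (ConcreteCategory.isIso_iff_bijective a).1 inferInstance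
  have hb : Function.Bijective b := (ConcreteCategory.isIso_iff_bijective b).1 inferInstance
  have hc : b ∘ (GrothendieckTopology.Point.Hom.sheafFiber (A := AddCommGrpCat.{u + 1}) (mapPointHom f ψ)).app F =
      (GrothendieckTopology.Point.Hom.sheafFiber (A := AddCommGrpCat.{u + 1}) ψ).app ((EtCoh.pull f).obj F) ∘ a :=
    funext fun z => by
      obtain ⟨U, t, σ, rfl⟩ := germ_surjective (ξ ≫ f) F z
      simp only [Function.comp_apply, a, b]
      rw [stalkPullIso_germ]
      have e1 : (GrothendieckTopology.Point.Hom.sheafFiber (A := AddCommGrpCat.{u + 1}) (mapPointHom f ψ)).app F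
          (germ (ξ ≫ f) F U t σ) = germ (η ≫ f) F U ((mapPointHom f ψ).hom.app U t) σ :=
        ConcreteCategory.congr_hom
          ((Scheme.pointSmallEtale (ξ ≫ f)).toPresheafFiber_presheafFiberDesc (P := F.obj)
            (fun V x => (Scheme.pointSmallEtale (η ≫ f)).toPresheafFiber V ((mapPointHom f ψ).hom.app V x) F.obj)
            (fun V V' g x => by
              rw [GrothendieckTopology.Point.toPresheafFiber_w,
                NatTrans.naturality_apply (mapPointHom f ψ).hom g x]) U t) σ
      have e2 : pushLift f η rfl U ((mapPointHom f ψ).hom.app U t) =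
          ψ.hom.app ((EtCoh.bc f).obj U) (pushLift f ξ rfl U t) :=
        (bcFiberEquiv f η U).symm_apply_apply _
      refine ((congrArg _ e1).trans (stalkPullIso_germ f η F U _ σ)).trans ?_
      rw [e2]
      exact (ConcreteCategory.congr_hom
        ((Scheme.pointSmallEtale ξ).toPresheafFiber_presheafFiberDesc (P := ((EtCoh.pull f).obj F).obj)
          (fun V x => (Scheme.pointSmallEtale η).toPresheafFiber V (ψ.hom.app V x) ((EtCoh.pull f).obj F).obj)
          (fun V V' g x => by
            rw [GrothendieckTopology.Point.toPresheafFiber_w, NatTrans.naturality_apply ψ.hom g x]) _ _) _).symm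
  exact (Function.Bijective.of_comp_iff _ ha).symm.trans
    ((congrArg Function.Bijective hc).symm.to_iff.trans (hb.of_comp_iff' _))

/-- Specialization maps of inverse images, one direction. -/
theorem bijective_map_pointHom (F : EtCoh.Ab Y) (ψ : Scheme.pointSmallEtale η ⟶ Scheme.pointSmallEtale ξ)
    (h : Function.Bijective ((GrothendieckTopology.Point.Hom.sheafFiber (A := AddCommGrpCat.{u + 1}) ψ).app ((EtCoh.pull f).obj F))) :
    Function.Bijective ((GrothendieckTopology.Point.Hom.sheafFiber (A := AddCommGrpCat.{u + 1}) (mapPointHom f ψ)).app F) :=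
  (bijective_map_pointHom_iff f F ψ).1 h

/-- Specialization maps of inverse images of sheaves of modules. -/
theorem isIso_cospec_map_iff {Λ : Type (u + 1)} [CommRing Λ] (F : EtModW.Mod Λ Y)
    (ψ : Scheme.pointSmallEtale η ⟶ Scheme.pointSmallEtale ξ) :
    IsIso ((cospec ψ).app ((EtModW.pull Λ f).obj F)) ↔ IsIso ((cospec (mapPointHom f ψ)).app F) := by
  rw [cospec_bijective_iff, cospec_bijective_iff, ← bijective_map_pointHom_iff]
  let A := (cmpPull Λ f).app F
  have : IsIso A := isIso_cmpPull Λ f F
  let S := GrothendieckTopology.Point.Hom.sheafFiber (A := AddCommGrpCat.{u + 1}) ψ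
  rw [← ConcreteCategory.isIso_iff_bijective, ← ConcreteCategory.isIso_iff_bijective]
  exact (NatTrans.isIso_app_iff_of_iso S (asIso A)).symm

variable {Λ : Type (u + 1)} [CommRing Λ]

/-- Prescribed specialization maps along an immersion on which the sheaf is locally constant. -/
theorem exists_pointHom_of_immersion {T : Scheme.{u}} (g : T ⟶ X) [IsImmersion g] {F : EtModW.Mod Λ X}
    (hF : EtModW.IsFTLocConst Λ ((EtModW.pull Λ g).obj F))
    (hη : η.base default ∈ Set.range g) (hξ : ξ.base default ∈ Set.range g)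
    (W : X.Etale) (t : (Scheme.pointSmallEtale η).fiber.obj W)
    (w : (Scheme.pointSmallEtale ξ).fiber.obj W) (h : fiberPoint η t ⤳ fiberPoint ξ w) :
    ∃ φ : Scheme.pointSmallEtale η ⟶ Scheme.pointSmallEtale ξ,
      φ.hom.app W w = t ∧ IsIso ((cospec φ).app F) := by
  obtain ⟨η', rfl⟩ := exists_lift_immersion η g hη
  obtain ⟨ξ', rfl⟩ := exists_lift_immersion ξ g hξ
  have : IsImmersion (pullback.fst W.hom g) := MorphismProperty.pullback_fst _ _ inferInstance
  have hs : fiberPoint η' (pushLift g η' rfl W t) ⤳ fiberPoint ξ' (pushLift g ξ' rfl W w) := by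
    refine (pullback.fst W.hom g).isEmbedding.isInducing.specializes_iff.1 ?_
    have e1 : (pullback.fst W.hom g).base (fiberPoint η' (pushLift g η' rfl W t)) = fiberPoint (η' ≫ g) t :=
      congrArg (fun m : Spec (CommRingCat.of Ω) ⟶ W.left => m.base default)
        (pushLift_fst g η' rfl W t)
    have e2 : (pullback.fst W.hom g).base (fiberPoint ξ' (pushLift g ξ' rfl W w)) = fiberPoint (ξ' ≫ g) w :=
      congrArg (fun m : Spec (CommRingCat.of Ω') ⟶ W.left => m.base default)
        (pushLift_fst g ξ' rfl W w)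
    exact e1.symm ▸ e2.symm ▸ h
  obtain ⟨ψ, hψ⟩ := exists_pointHom_fiber _ _ _ hs
  refine ⟨mapPointHom g ψ, ?_, ?_⟩
  · show bcFiberEquiv g η' W (ψ.hom.app _ (pushLift g ξ' rfl W w)) = t
    rw [hψ]
    exact (bcFiberEquiv g η' W).apply_symm_apply t
  · rw [cospec_bijective_iff]
    refine bijective_map_pointHom g _ ψ ?_
    let A := (cmpPull Λ g).app F
    have : IsIso A := isIso_cmpPull Λ g F
    have hψb := (cospec_bijective_iff _ ψ).1 (isIso_cospec hF ψ)
    let S := GrothendieckTopology.Point.Hom.sheafFiber (A := AddCommGrpCat.{u + 1}) ψ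
    have : IsIso (S.app _) := (ConcreteCategory.isIso_iff_bijective (S.app _)).2 hψb
    exact (ConcreteCategory.isIso_iff_bijective (S.app _)).1
      ((NatTrans.isIso_app_iff_of_iso S (asIso A)).2 this)

variable [IsNoetherianRing Λ] [IsLocallyNoetherian X]

/-- Local constancy can be checked on immersed pieces containing all specialization pairs. -/
theorem isFT_of_immersions {F : EtModW.Mod Λ X}
    (hfin : ∀ x : X, Module.Finite Λ ((EtModW.stalk Λ (geomPoint x)).obj F)) {ι : Type*}
    (T : ι → Scheme.{u}) (g : ∀ i, T i ⟶ X) [∀ i, IsImmersion (g i)]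
    (hcov : ∀ x y : X, x ⤳ y → ∃ i, x ∈ Set.range (g i) ∧ y ∈ Set.range (g i))
    (hF : ∀ i, EtModW.IsFTLocConst Λ ((EtModW.pull Λ (g i)).obj F)) :
    EtModW.IsFTLocConst Λ F := by
  refine isFT_of_specPairs hfin fun Ω₁ _ _ Ω₂ _ _ η₁ ξ₁ W t w h => ?_
  obtain ⟨i, h1, h2⟩ := hcov (η₁.base default) (ξ₁.base default) (by
    rw [← hom_fiberPoint η₁ t, ← hom_fiberPoint ξ₁ w]
    exact h.map W.hom.continuous)
  exact exists_pointHom_of_immersion (g i) (hF i) h1 h2 W t w h

end Groth.EtaleDeep.Cons
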